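import Cfsg.Agent.Lib.H34.TCLyA.Data
import Cfsg.Agent.Lib.H35.TC
set_option autoImplicit false
set_option maxRecDepth 100000
set_option linter.all false
namespace H34.TCLyA
open H35.TC
/-- letters -/
inductive Lt | a | ai | b | bi | c | ci | d | di | e | u | ui | v | vi | w | wi
  deriving DecidableEq
/-- inverse letter -/
def inv : Lt → Lt
  | .a => .ai
  | .ai => .a
  | .b => .bi
  | .bi => .b
  | .c => .ci
  | .ci => .c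
  | .d => .di
  | .di => .d
  | .e => .e
  | .u => .ui
  | .ui => .u
  | .v => .vi
  | .vi => .v
  | .w => .wi
  | .wi => .w
/-- table functions -/
noncomputable def T : Lt → ℕ → ℕ
  | .a => T_a
  | .ai => T_ai
  | .b => T_b
  | .bi => T_bi
  | .c => T_c
  | .ci => T_ci
  | .d => T_d
  | .di => T_di
  | .e => T_e
  | .u => T_u
  | .ui => T_ui
  | .v => T_v
  | .vi => T_vi
  | .w => T_w
  | .wi => T_wi
/-- decoding of letter codes -/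
def lt : ℕ → Lt
  | 0 => .a
  | 1 => .ai
  | 2 => .b
  | 3 => .bi
  | 4 => .c
  | 5 => .ci
  | 6 => .d
  | 7 => .di
  | 8 => .e
  | 9 => .u
  | 10 => .ui
  | 11 => .v
  | 12 => .vi
  | 13 => .w
  | _ => .wi
/-- Coxeter matrix (0: no relation) -/
def mm : Lt → Lt → ℕ
  | .e, .e => 1
  | _, _ => 0
/-- extra relators `w ^ n` -/
def extra : List (List Lt × ℕ) := [
  ([.bi, .w, .b, .wi], 1),
  ([.ui, .vi, .u, .v], 1),
  ([.vi, .wi, .v, .w], 1),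
  ([.u, .ai, .ci, .a], 1),
  ([.v, .b, .ci, .bi], 1),
  ([.bi, .di, .b, .d], 1),
  ([.ui, .wi, .u, .w], 1),
  ([.ci, .wi, .c, .w], 1),
  ([.ai, .w, .a, .wi, .wi], 1),
  ([.ai, .u, .a, .c, .c], 1),
  ([.w], 5),
  ([.c], 5),
  ([.w, .ui, .ci, .u, .c], 1),
  ([.b], 5),
  ([.di, .a, .d, .ai, .ai, .ai], 1),
  ([.d, .d, .ai, .ai, .ai, .ai], 1),
  ([.ci, .vi, .c, .v, .wi, .wi], 1),
  ([.ai, .ai, .bi, .a, .a, .b], 1),
  ([.e, .v, .e, .vi, .bi, .c, .bi], 1),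
  ([.e, .c, .e, .c, .bi, .bi, .ci], 1),
  ([.a], 8),
  ([.d, .w, .d, .wi, .d, .w, .ai, .ai], 1),
  ([.a, .b], 4),
  ([.bi, .ci, .b, .wi, .bi, .c, .b, .w], 1),
  ([.bi, .ci, .b, .vi, .bi, .c, .b, .v, .w], 1),
  ([.e, .b, .e, .v, .v, .bi, .c, .b, .ci], 1),
  ([.ui, .bi, .ci, .b, .u, .bi, .c, .b, .w], 1),
  ([.e, .w, .e, .v, .ci, .bi, .c, .b, .ci], 1),
  ([.bi, .u, .b, .v, .c, .v, .bi, .ci, .b, .ui], 1),
  ([.d, .w], 5),
  ([.ci, .bi, .ci, .b, .c, .bi, .c, .b, .w, .w], 1),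
  ([.bi, .bi, .c, .b, .c, .c, .b, .vi, .ci, .ci], 1),
  ([.ai, .bi, .c, .b, .a, .vi, .ci, .bi, .c, .c, .b], 1),
  ([.ai, .v, .a, .vi, .ci, .vi, .bi, .c, .b, .u, .ci], 1),
  ([.e, .bi, .c, .b, .e, .a, .v, .c, .ui, .ai, .bi, .bi], 1),
  ([.ai, .bi, .a, .b], 3),
  ([.e, .a, .a, .e, .v, .wi, .ci, .ai, .b, .ai, .bi, .bi, .ai], 1),
  ([.e, .a, .b, .b, .a, .bi, .a, .e, .v, .wi, .ci, .ai, .ai], 1),
  ([.e, .u, .e, .ui, .e, .u, .vi, .a, .bi, .c, .b, .a, .a, .a], 1),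
  ([.d, .e, .bi, .u, .ai, .e, .ai, .e, .ai, .w, .v, .c, .b, .a, .bi, .bi, .ai], 1),
  ([.e, .di, .ci, .di, .b, .ai, .bi, .ci, .di, .ai, .ci, .a, .ci, .ai, .c, .a, .b, .b], 1),
  ([.a, .ai], 1),
  ([.ai, .a], 1),
  ([.b, .bi], 1),
  ([.bi, .b], 1),
  ([.c, .ci], 1),
  ([.ci, .c], 1),
  ([.d, .di], 1),
  ([.di, .d], 1),
  ([.u, .ui], 1),
  ([.ui, .u], 1),
  ([.v, .vi], 1),
  ([.vi, .v], 1),
  ([.w, .wi], 1),
  ([.wi, .w], 1)]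
/-- relators -/
def rels : List (List Lt) := mkRels [(.e, .e)] mm extra
/-- subgroup words -/
def subs : List (List Lt) := [
  [.a],
  [.b],
  [.c]]
noncomputable def dp_a_0 (j u : ℕ) : Bool :=
  Bool.rec (motive := fun _ => Bool) (lS MG [T_ai] M (Nat.sub (T_a u) (Nat.mod (T_a u) M)) (nat_lit 40) (Nat.mod (T_a u) M) u) (lF [T_d, T_ai, T_ai, T_ai, T_di] M (Nat.sub (T_a u) (Nat.mod (T_a u) M)) (Nat.mod (T_a u) M) u) (Nat.ble (nat_lit 6) j)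
noncomputable def dp_a_1 (j u : ℕ) : Bool :=
  Bool.rec (motive := fun _ => Bool) (lDef P (nat_lit 1) u (Nat.mod (T_a u) M)) (dp_a_0 j u) (Nat.ble (nat_lit 5) j)
noncomputable def dp_a_2 (j u : ℕ) : Bool :=
  Bool.rec (motive := fun _ => Bool) (lF [T_wi, T_wi, T_ai, T_w] M (Nat.sub (T_a u) (Nat.mod (T_a u) M)) (Nat.mod (T_a u) M) u) (lF [T_ci, T_ci, T_ai, T_ui] M (Nat.sub (T_a u) (Nat.mod (T_a u) M)) (Nat.mod (T_a u) M) u) (Nat.ble (nat_lit 9) j)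
noncomputable def dp_a_3 (j u : ℕ) : Bool :=
  Bool.rec (motive := fun _ => Bool) (lF [T_c, T_c, T_ai, T_u] M (Nat.sub (T_a u) (Nat.mod (T_a u) M)) (Nat.mod (T_a u) M) u) (dp_a_2 j u) (Nat.ble (nat_lit 8) j)
noncomputable def dp_a_4 (j u : ℕ) : Bool :=
  Bool.rec (motive := fun _ => Bool) (lF [T_a, T_b, T_ai, T_ai, T_bi] M (Nat.sub (T_a u) (Nat.mod (T_a u) M)) (Nat.mod (T_a u) M) u) (lF [T_a, T_bi, T_ai, T_ai, T_b] M (Nat.sub (T_a u) (Nat.mod (T_a u) M)) (Nat.mod (T_a u) M) u) (Nat.ble (nat_lit 12) j)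
noncomputable def dp_a_5 (j u : ℕ) : Bool :=
  Bool.rec (motive := fun _ => Bool) (lF [T_w, T_w, T_ai, T_wi] M (Nat.sub (T_a u) (Nat.mod (T_a u) M)) (Nat.mod (T_a u) M) u) (dp_a_4 j u) (Nat.ble (nat_lit 11) j)
noncomputable def dp_a_6 (j u : ℕ) : Bool :=
  Bool.rec (motive := fun _ => Bool) (lF [T_b, T_ai, T_ai, T_bi, T_a] M (Nat.sub (T_a u) (Nat.mod (T_a u) M)) (Nat.mod (T_a u) M) u) (lS MG [T_ui, T_ai, T_c] M (Nat.sub (T_a u) (Nat.mod (T_a u) M)) (nat_lit 40) (Nat.mod (T_a u) M) u) (Nat.ble (nat_lit 15) j)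
noncomputable def dp_a_7 (j u : ℕ) : Bool :=
  Bool.rec (motive := fun _ => Bool) (lF [T_bi, T_ai, T_ai, T_b, T_a] M (Nat.sub (T_a u) (Nat.mod (T_a u) M)) (Nat.mod (T_a u) M) u) (dp_a_6 j u) (Nat.ble (nat_lit 14) j)
noncomputable def dp_a_8 (j u : ℕ) : Bool :=
  Bool.rec (motive := fun _ => Bool) (lF [T_a, T_a, T_di, T_di, T_a] M (Nat.sub (T_a u) (Nat.mod (T_a u) M)) (Nat.mod (T_a u) M) u) (lS MG [T_ci, T_ci, T_ai, T_ui] M (Nat.sub (T_a u) (Nat.mod (T_a u) M)) (nat_lit 40) (Nat.mod (T_a u) M) u) (Nat.ble (nat_lit 19) j)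
noncomputable def dp_a_9 (j u : ℕ) : Bool :=
  Bool.rec (motive := fun _ => Bool) (lS MG [T_d, T_ai, T_ai, T_ai, T_di] M (Nat.sub (T_a u) (Nat.mod (T_a u) M)) (nat_lit 40) (Nat.mod (T_a u) M) u) (dp_a_8 j u) (Nat.ble (nat_lit 18) j)
noncomputable def dp_a_10 (j u : ℕ) : Bool :=
  Bool.rec (motive := fun _ => Bool) (lS MG [T_u, T_ai, T_ci] M (Nat.sub (T_a u) (Nat.mod (T_a u) M)) (nat_lit 40) (Nat.mod (T_a u) M) u) (dp_a_9 j u) (Nat.ble (nat_lit 17) j)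
noncomputable def dp_a_11 (j u : ℕ) : Bool :=
  Bool.rec (motive := fun _ => Bool) (lF [T_c, T_ui, T_bi, T_ci, T_b, T_v, T_c, T_v, T_ai, T_vi] M (Nat.sub (T_a u) (Nat.mod (T_a u) M)) (Nat.mod (T_a u) M) u) (lF [T_a, T_e, T_v, T_wi, T_ci, T_ai, T_b, T_ai, T_bi, T_bi, T_ai, T_e] M (Nat.sub (T_a u) (Nat.mod (T_a u) M)) (Nat.mod (T_a u) M) u) (Nat.ble (nat_lit 22) j)
noncomputable def dp_a_12 (j u : ℕ) : Bool :=
  Bool.rec (motive := fun _ => Bool) (lF [T_di, T_ai, T_d, T_a, T_a] M (Nat.sub (T_a u) (Nat.mod (T_a u) M)) (Nat.mod (T_a u) M) u) (dp_a_11 j u) (Nat.ble (nat_lit 21) j)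
noncomputable def dp_a_13 (j u : ℕ) : Bool :=
  Bool.rec (motive := fun _ => Bool) (lF [T_b, T_a, T_b, T_a, T_b, T_a, T_b] M (Nat.sub (T_a u) (Nat.mod (T_a u) M)) (Nat.mod (T_a u) M) u) (lF [T_vi, T_ci, T_vi, T_bi, T_c, T_b, T_u, T_ci, T_ai, T_v] M (Nat.sub (T_a u) (Nat.mod (T_a u) M)) (Nat.mod (T_a u) M) u) (Nat.ble (nat_lit 24) j)
noncomputable def dp_a_14 (j u : ℕ) : Bool :=
  Bool.rec (motive := fun _ => Bool) (lF [T_a, T_a, T_di, T_ai, T_d] M (Nat.sub (T_a u) (Nat.mod (T_a u) M)) (Nat.mod (T_a u) M) u) (lS MG [T_wi, T_wi, T_ai, T_w] M (Nat.sub (T_a u) (Nat.mod (T_a u) M)) (nat_lit 40) (Nat.mod (T_a u) M) u) (Nat.ble (nat_lit 26) j)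
noncomputable def dp_a_15 (j u : ℕ) : Bool :=
  Bool.rec (motive := fun _ => Bool) (dp_a_13 j u) (dp_a_14 j u) (Nat.ble (nat_lit 25) j)
noncomputable def dp_a_16 (j u : ℕ) : Bool :=
  Bool.rec (motive := fun _ => Bool) (dp_a_12 j u) (dp_a_15 j u) (Nat.ble (nat_lit 23) j)
noncomputable def dp_a_17 (j u : ℕ) : Bool :=
  Bool.rec (motive := fun _ => Bool) (lS MG [T_bi, T_ai, T_ai, T_b, T_a] M (Nat.sub (T_a u) (Nat.mod (T_a u) M)) (nat_lit 40) (Nat.mod (T_a u) M) u) (lS MG [T_b, T_ai, T_ai, T_bi, T_a] M (Nat.sub (T_a u) (Nat.mod (T_a u) M)) (nat_lit 40) (Nat.mod (T_a u) M) u) (Nat.ble (nat_lit 28) j)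
noncomputable def dp_a_18 (j u : ℕ) : Bool :=
  Bool.rec (motive := fun _ => Bool) (lF [T_di, T_di, T_a, T_a, T_a] M (Nat.sub (T_a u) (Nat.mod (T_a u) M)) (Nat.mod (T_a u) M) u) (lS MG [T_c, T_c, T_ai, T_u] M (Nat.sub (T_a u) (Nat.mod (T_a u) M)) (nat_lit 40) (Nat.mod (T_a u) M) u) (Nat.ble (nat_lit 31) j)
noncomputable def dp_a_19 (j u : ℕ) : Bool :=
  Bool.rec (motive := fun _ => Bool) (lF [T_a, T_a, T_a, T_a, T_a, T_a, T_a] M (Nat.sub (T_a u) (Nat.mod (T_a u) M)) (Nat.mod (T_a u) M) u) (dp_a_18 j u) (Nat.ble (nat_lit 30) j)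
noncomputable def dp_a_20 (j u : ℕ) : Bool :=
  Bool.rec (motive := fun _ => Bool) (dp_a_17 j u) (dp_a_19 j u) (Nat.ble (nat_lit 29) j)
noncomputable def dp_a_21 (j u : ℕ) : Bool :=
  Bool.rec (motive := fun _ => Bool) (lH [] [] M (Nat.sub (T_a u) (Nat.mod (T_a u) M)) (Nat.mod (T_a u) M) u) (lS MG [T_a, T_a, T_di, T_ai, T_d] M (Nat.sub (T_a u) (Nat.mod (T_a u) M)) (nat_lit 40) (Nat.mod (T_a u) M) u) (Nat.ble (nat_lit 33) j)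
noncomputable def dp_a_22 (j u : ℕ) : Bool :=
  Bool.rec (motive := fun _ => Bool) (lS MG [T_b, T_b, T_a, T_bi, T_a, T_c, T_w, T_vi, T_e, T_ai, T_ai, T_e] M (Nat.sub (T_a u) (Nat.mod (T_a u) M)) (nat_lit 40) (Nat.mod (T_a u) M) u) (lF [T_vi, T_ci, T_bi, T_c, T_c, T_b, T_ai, T_bi, T_c, T_b] M (Nat.sub (T_a u) (Nat.mod (T_a u) M)) (Nat.mod (T_a u) M) u) (Nat.ble (nat_lit 36) j)
noncomputable def dp_a_23 (j u : ℕ) : Bool :=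
  Bool.rec (motive := fun _ => Bool) (lF [T_e, T_v, T_wi, T_ci, T_ai, T_b, T_ai, T_bi, T_bi, T_ai, T_e, T_a] M (Nat.sub (T_a u) (Nat.mod (T_a u) M)) (Nat.mod (T_a u) M) u) (dp_a_22 j u) (Nat.ble (nat_lit 35) j)
noncomputable def dp_a_24 (j u : ℕ) : Bool :=
  Bool.rec (motive := fun _ => Bool) (dp_a_21 j u) (dp_a_23 j u) (Nat.ble (nat_lit 34) j)
noncomputable def dp_a_25 (j u : ℕ) : Bool :=
  Bool.rec (motive := fun _ => Bool) (lS MG [T_c, T_ui, T_bi, T_ci, T_b, T_v, T_c, T_v, T_ai, T_vi] M (Nat.sub (T_a u) (Nat.mod (T_a u) M)) (nat_lit 40) (Nat.mod (T_a u) M) u) (lF [T_a, T_wi, T_di, T_w, T_di, T_wi, T_di] M (Nat.sub (T_a u) (Nat.mod (T_a u) M)) (Nat.mod (T_a u) M) u) (Nat.ble (nat_lit 39) j)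
noncomputable def dp_a_26 (j u : ℕ) : Bool :=
  Bool.rec (motive := fun _ => Bool) (lF [T_bi, T_a, T_e, T_v, T_wi, T_ci, T_ai, T_ai, T_e, T_a, T_b, T_b] M (Nat.sub (T_a u) (Nat.mod (T_a u) M)) (Nat.mod (T_a u) M) u) (dp_a_25 j u) (Nat.ble (nat_lit 38) j)
noncomputable def dp_a_27 (j u : ℕ) : Bool :=
  Bool.rec (motive := fun _ => Bool) (lS MG [T_w, T_w, T_ai, T_wi] M (Nat.sub (T_a u) (Nat.mod (T_a u) M)) (nat_lit 40) (Nat.mod (T_a u) M) u) (lF [T_bi, T_ci, T_ci, T_b, T_c, T_v, T_ai, T_bi, T_ci, T_b] M (Nat.sub (T_a u) (Nat.mod (T_a u) M)) (Nat.mod (T_a u) M) u) (Nat.ble (nat_lit 42) j)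
noncomputable def dp_a_28 (j u : ℕ) : Bool :=
  Bool.rec (motive := fun _ => Bool) (lS MG [T_vi, T_ci, T_vi, T_bi, T_c, T_b, T_u, T_ci, T_ai, T_v] M (Nat.sub (T_a u) (Nat.mod (T_a u) M)) (nat_lit 40) (Nat.mod (T_a u) M) u) (dp_a_27 j u) (Nat.ble (nat_lit 41) j)
noncomputable def dp_a_29 (j u : ℕ) : Bool :=
  Bool.rec (motive := fun _ => Bool) (dp_a_26 j u) (dp_a_28 j u) (Nat.ble (nat_lit 40) j)
noncomputable def dp_a_30 (j u : ℕ) : Bool :=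
  Bool.rec (motive := fun _ => Bool) (dp_a_24 j u) (dp_a_29 j u) (Nat.ble (nat_lit 37) j)
noncomputable def dp_a_31 (j u : ℕ) : Bool :=
  Bool.rec (motive := fun _ => Bool) (dp_a_20 j u) (dp_a_30 j u) (Nat.ble (nat_lit 32) j)
noncomputable def dp_a_32 (j u : ℕ) : Bool :=
  Bool.rec (motive := fun _ => Bool) (dp_a_16 j u) (dp_a_31 j u) (Nat.ble (nat_lit 27) j)
noncomputable def dp_a_33 (j u : ℕ) : Bool :=
  Bool.rec (motive := fun _ => Bool) (dp_a_10 j u) (dp_a_32 j u) (Nat.ble (nat_lit 20) j)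
noncomputable def dp_a_34 (j u : ℕ) : Bool :=
  Bool.rec (motive := fun _ => Bool) (dp_a_7 j u) (dp_a_33 j u) (Nat.ble (nat_lit 16) j)
noncomputable def dp_a_35 (j u : ℕ) : Bool :=
  Bool.rec (motive := fun _ => Bool) (dp_a_5 j u) (dp_a_34 j u) (Nat.ble (nat_lit 13) j)
noncomputable def dp_a_36 (j u : ℕ) : Bool :=
  Bool.rec (motive := fun _ => Bool) (dp_a_3 j u) (dp_a_35 j u) (Nat.ble (nat_lit 10) j)
noncomputable def dp_a_37 (j u : ℕ) : Bool :=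
  Bool.rec (motive := fun _ => Bool) (dp_a_1 j u) (dp_a_36 j u) (Nat.ble (nat_lit 7) j)
noncomputable def dp_a_38 (j u : ℕ) : Bool :=
  Bool.rec (motive := fun _ => Bool) (Bool.rec (motive := fun _ => Bool) (lF3 T_ui T_ai T_c M (Nat.sub (T_a u) (Nat.mod (T_a u) M)) (Nat.mod (T_a u) M) u) (lDef P (nat_lit 0) (Nat.mod (T_a u) M) u) (Nat.ble (nat_lit 3) j)) (dp_a_37 j u) (Nat.ble (nat_lit 4) j)
noncomputable def disp_a (j u : ℕ) : Bool :=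
  Bool.rec (motive := fun _ => Bool) (Bool.rec (motive := fun _ => Bool) (lF1 T_ai M (Nat.sub (T_a u) (Nat.mod (T_a u) M)) (Nat.mod (T_a u) M) u) (lF3 T_u T_ai T_ci M (Nat.sub (T_a u) (Nat.mod (T_a u) M)) (Nat.mod (T_a u) M) u) (Nat.ble (nat_lit 1) j)) (dp_a_38 j u) (Nat.ble (nat_lit 2) j)
noncomputable def chk_a (j u : ℕ) : Bool :=
  Bool.rec (motive := fun _ => Bool) (disp_a j u) (Nat.ble (Nat.succ (MG u)) A) (Nat.ble A (T_a u))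
noncomputable def dp_ai_0 (j u : ℕ) : Bool :=
  Bool.rec (motive := fun _ => Bool) (lF [T_wi, T_a, T_w, T_w] M (Nat.sub (T_ai u) (Nat.mod (T_ai u) M)) (Nat.mod (T_ai u) M) u) (lF [T_d, T_a, T_a, T_a, T_di] M (Nat.sub (T_ai u) (Nat.mod (T_ai u) M)) (Nat.mod (T_ai u) M) u) (Nat.ble (nat_lit 7) j)
noncomputable def dp_ai_1 (j u : ℕ) : Bool :=
  Bool.rec (motive := fun _ => Bool) (lS MG [T_a] M (Nat.sub (T_ai u) (Nat.mod (T_ai u) M)) (nat_lit 40) (Nat.mod (T_ai u) M) u) (dp_ai_0 j u) (Nat.ble (nat_lit 6) j)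
noncomputable def dp_ai_2 (j u : ℕ) : Bool :=
  Bool.rec (motive := fun _ => Bool) (lF [T_ui, T_a, T_ci, T_ci] M (Nat.sub (T_ai u) (Nat.mod (T_ai u) M)) (Nat.mod (T_ai u) M) u) (lF [T_w, T_a, T_wi, T_wi] M (Nat.sub (T_ai u) (Nat.mod (T_ai u) M)) (Nat.mod (T_ai u) M) u) (Nat.ble (nat_lit 10) j)
noncomputable def dp_ai_3 (j u : ℕ) : Bool :=
  Bool.rec (motive := fun _ => Bool) (lF [T_u, T_a, T_c, T_c] M (Nat.sub (T_ai u) (Nat.mod (T_ai u) M)) (Nat.mod (T_ai u) M) u) (dp_ai_2 j u) (Nat.ble (nat_lit 9) j)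
noncomputable def dp_ai_4 (j u : ℕ) : Bool :=
  Bool.rec (motive := fun _ => Bool) (lF [T_b, T_a, T_a, T_bi, T_ai] M (Nat.sub (T_ai u) (Nat.mod (T_ai u) M)) (Nat.mod (T_ai u) M) u) (lF [T_ai, T_bi, T_a, T_a, T_b] M (Nat.sub (T_ai u) (Nat.mod (T_ai u) M)) (Nat.mod (T_ai u) M) u) (Nat.ble (nat_lit 12) j)
noncomputable def dp_ai_5 (j u : ℕ) : Bool :=
  Bool.rec (motive := fun _ => Bool) (lF [T_bi, T_a, T_a, T_b, T_ai] M (Nat.sub (T_ai u) (Nat.mod (T_ai u) M)) (Nat.mod (T_ai u) M) u) (lS MG [T_c, T_a, T_ui] M (Nat.sub (T_ai u) (Nat.mod (T_ai u) M)) (nat_lit 40) (Nat.mod (T_ai u) M) u) (Nat.ble (nat_lit 15) j)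
noncomputable def dp_ai_6 (j u : ℕ) : Bool :=
  Bool.rec (motive := fun _ => Bool) (lF [T_ai, T_b, T_a, T_a, T_bi] M (Nat.sub (T_ai u) (Nat.mod (T_ai u) M)) (Nat.mod (T_ai u) M) u) (dp_ai_5 j u) (Nat.ble (nat_lit 14) j)
noncomputable def dp_ai_7 (j u : ℕ) : Bool :=
  Bool.rec (motive := fun _ => Bool) (dp_ai_4 j u) (dp_ai_6 j u) (Nat.ble (nat_lit 13) j)
noncomputable def dp_ai_8 (j u : ℕ) : Bool :=
  Bool.rec (motive := fun _ => Bool) (lS MG [T_ci, T_a, T_u] M (Nat.sub (T_ai u) (Nat.mod (T_ai u) M)) (nat_lit 40) (Nat.mod (T_ai u) M) u) (lS MG [T_d, T_a, T_a, T_a, T_di] M (Nat.sub (T_ai u) (Nat.mod (T_ai u) M)) (nat_lit 40) (Nat.mod (T_ai u) M) u) (Nat.ble (nat_lit 17) j)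
noncomputable def dp_ai_9 (j u : ℕ) : Bool :=
  Bool.rec (motive := fun _ => Bool) (lF [T_ai, T_di, T_a, T_d, T_ai] M (Nat.sub (T_ai u) (Nat.mod (T_ai u) M)) (Nat.mod (T_ai u) M) u) (lS MG [T_ui, T_a, T_ci, T_ci] M (Nat.sub (T_ai u) (Nat.mod (T_ai u) M)) (nat_lit 40) (Nat.mod (T_ai u) M) u) (Nat.ble (nat_lit 19) j)
noncomputable def dp_ai_10 (j u : ℕ) : Bool :=
  Bool.rec (motive := fun _ => Bool) (lF [T_ai, T_ai, T_ai, T_ai, T_ai, T_ai, T_ai] M (Nat.sub (T_ai u) (Nat.mod (T_ai u) M)) (Nat.mod (T_ai u) M) u) (lS MG [T_u, T_a, T_c, T_c] M (Nat.sub (T_ai u) (Nat.mod (T_ai u) M)) (nat_lit 40) (Nat.mod (T_ai u) M) u) (Nat.ble (nat_lit 22) j)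
noncomputable def dp_ai_11 (j u : ℕ) : Bool :=
  Bool.rec (motive := fun _ => Bool) (lF [T_di, T_a, T_d, T_ai, T_ai] M (Nat.sub (T_ai u) (Nat.mod (T_ai u) M)) (Nat.mod (T_ai u) M) u) (dp_ai_10 j u) (Nat.ble (nat_lit 21) j)
noncomputable def dp_ai_12 (j u : ℕ) : Bool :=
  Bool.rec (motive := fun _ => Bool) (dp_ai_9 j u) (dp_ai_11 j u) (Nat.ble (nat_lit 20) j)
noncomputable def dp_ai_13 (j u : ℕ) : Bool :=
  Bool.rec (motive := fun _ => Bool) (dp_ai_8 j u) (dp_ai_12 j u) (Nat.ble (nat_lit 18) j)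
noncomputable def dp_ai_14 (j u : ℕ) : Bool :=
  Bool.rec (motive := fun _ => Bool) (lF [T_bi, T_ai, T_bi, T_ai, T_bi, T_ai, T_bi] M (Nat.sub (T_ai u) (Nat.mod (T_ai u) M)) (Nat.mod (T_ai u) M) u) (lS MG [T_w, T_a, T_wi, T_wi] M (Nat.sub (T_ai u) (Nat.mod (T_ai u) M)) (nat_lit 40) (Nat.mod (T_ai u) M) u) (Nat.ble (nat_lit 25) j)
noncomputable def dp_ai_15 (j u : ℕ) : Bool :=
  Bool.rec (motive := fun _ => Bool) (lF [T_e, T_a, T_b, T_b, T_a, T_bi, T_a, T_c, T_w, T_vi, T_e, T_ai] M (Nat.sub (T_ai u) (Nat.mod (T_ai u) M)) (Nat.mod (T_ai u) M) u) (dp_ai_14 j u) (Nat.ble (nat_lit 24) j)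
noncomputable def dp_ai_16 (j u : ℕ) : Bool :=
  Bool.rec (motive := fun _ => Bool) (lF [T_v, T_a, T_vi, T_ci, T_vi, T_bi, T_c, T_b, T_u, T_ci] M (Nat.sub (T_ai u) (Nat.mod (T_ai u) M)) (Nat.mod (T_ai u) M) u) (lF [T_ai, T_ai, T_ai, T_d, T_d] M (Nat.sub (T_ai u) (Nat.mod (T_ai u) M)) (Nat.mod (T_ai u) M) u) (Nat.ble (nat_lit 27) j)
noncomputable def dp_ai_17 (j u : ℕ) : Bool :=
  Bool.rec (motive := fun _ => Bool) (lF [T_ai, T_e, T_a, T_b, T_b, T_a, T_bi, T_a, T_c, T_w, T_vi, T_e] M (Nat.sub (T_ai u) (Nat.mod (T_ai u) M)) (Nat.mod (T_ai u) M) u) (lF [T_e, T_bi, T_ci, T_b, T_e, T_b, T_b, T_a, T_u, T_ci, T_vi] M (Nat.sub (T_ai u) (Nat.mod (T_ai u) M)) (Nat.mod (T_ai u) M) u) (Nat.ble (nat_lit 29) j)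
noncomputable def dp_ai_18 (j u : ℕ) : Bool :=
  Bool.rec (motive := fun _ => Bool) (dp_ai_16 j u) (dp_ai_17 j u) (Nat.ble (nat_lit 28) j)
noncomputable def dp_ai_19 (j u : ℕ) : Bool :=
  Bool.rec (motive := fun _ => Bool) (dp_ai_15 j u) (dp_ai_18 j u) (Nat.ble (nat_lit 26) j)
noncomputable def dp_ai_20 (j u : ℕ) : Bool :=
  Bool.rec (motive := fun _ => Bool) (lS MG [T_wi, T_a, T_w, T_w] M (Nat.sub (T_ai u) (Nat.mod (T_ai u) M)) (nat_lit 40) (Nat.mod (T_ai u) M) u) (lF [T_vi, T_a, T_c, T_ui, T_bi, T_ci, T_b, T_v, T_c, T_v] M (Nat.sub (T_ai u) (Nat.mod (T_ai u) M)) (Nat.mod (T_ai u) M) u) (Nat.ble (nat_lit 32) j)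
noncomputable def dp_ai_21 (j u : ℕ) : Bool :=
  Bool.rec (motive := fun _ => Bool) (lF [T_bi, T_bi, T_ai, T_e, T_a, T_a, T_c, T_w, T_vi, T_e, T_ai, T_b] M (Nat.sub (T_ai u) (Nat.mod (T_ai u) M)) (Nat.mod (T_ai u) M) u) (dp_ai_20 j u) (Nat.ble (nat_lit 31) j)
noncomputable def dp_ai_22 (j u : ℕ) : Bool :=
  Bool.rec (motive := fun _ => Bool) (lF [T_ai, T_ai, T_di, T_a, T_d] M (Nat.sub (T_ai u) (Nat.mod (T_ai u) M)) (Nat.mod (T_ai u) M) u) (lS MG [T_ai, T_bi, T_a, T_a, T_b] M (Nat.sub (T_ai u) (Nat.mod (T_ai u) M)) (nat_lit 40) (Nat.mod (T_ai u) M) u) (Nat.ble (nat_lit 34) j)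
noncomputable def dp_ai_23 (j u : ℕ) : Bool :=
  Bool.rec (motive := fun _ => Bool) (lF [T_d, T_d, T_ai, T_ai, T_ai] M (Nat.sub (T_ai u) (Nat.mod (T_ai u) M)) (Nat.mod (T_ai u) M) u) (lF [T_b, T_a, T_bi, T_ai, T_b, T_a, T_bi, T_ai, T_b, T_a, T_bi] M (Nat.sub (T_ai u) (Nat.mod (T_ai u) M)) (Nat.mod (T_ai u) M) u) (Nat.ble (nat_lit 36) j)
noncomputable def dp_ai_24 (j u : ℕ) : Bool :=
  Bool.rec (motive := fun _ => Bool) (dp_ai_22 j u) (dp_ai_23 j u) (Nat.ble (nat_lit 35) j)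
noncomputable def dp_ai_25 (j u : ℕ) : Bool :=
  Bool.rec (motive := fun _ => Bool) (dp_ai_21 j u) (dp_ai_24 j u) (Nat.ble (nat_lit 33) j)
noncomputable def dp_ai_26 (j u : ℕ) : Bool :=
  Bool.rec (motive := fun _ => Bool) (lF [T_e, T_ai, T_e, T_ai, T_w, T_v, T_c, T_b, T_a, T_bi, T_bi, T_ai, T_d, T_e, T_bi, T_u] M (Nat.sub (T_ai u) (Nat.mod (T_ai u) M)) (Nat.mod (T_ai u) M) u) (lF [T_ai, T_d, T_w, T_d, T_wi, T_d, T_w] M (Nat.sub (T_ai u) (Nat.mod (T_ai u) M)) (Nat.mod (T_ai u) M) u) (Nat.ble (nat_lit 39) j)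
noncomputable def dp_ai_27 (j u : ℕ) : Bool :=
  Bool.rec (motive := fun _ => Bool) (lF [T_ai, T_d, T_d, T_ai, T_ai] M (Nat.sub (T_ai u) (Nat.mod (T_ai u) M)) (Nat.mod (T_ai u) M) u) (dp_ai_26 j u) (Nat.ble (nat_lit 38) j)
noncomputable def dp_ai_28 (j u : ℕ) : Bool :=
  Bool.rec (motive := fun _ => Bool) (lS MG [T_e, T_a, T_b, T_b, T_a, T_bi, T_a, T_c, T_w, T_vi, T_e, T_ai] M (Nat.sub (T_ai u) (Nat.mod (T_ai u) M)) (nat_lit 40) (Nat.mod (T_ai u) M) u) (lS MG [T_b, T_a, T_a, T_bi, T_ai] M (Nat.sub (T_ai u) (Nat.mod (T_ai u) M)) (nat_lit 40) (Nat.mod (T_ai u) M) u) (Nat.ble (nat_lit 41) j)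
noncomputable def dp_ai_29 (j u : ℕ) : Bool :=
  Bool.rec (motive := fun _ => Bool) (lF [T_bi, T_a, T_b, T_ai, T_bi, T_a, T_b, T_ai, T_bi, T_a, T_b] M (Nat.sub (T_ai u) (Nat.mod (T_ai u) M)) (Nat.mod (T_ai u) M) u) (lS MG [T_di, T_a, T_d, T_ai, T_ai] M (Nat.sub (T_ai u) (Nat.mod (T_ai u) M)) (nat_lit 40) (Nat.mod (T_ai u) M) u) (Nat.ble (nat_lit 43) j)
noncomputable def dp_ai_30 (j u : ℕ) : Bool :=
  Bool.rec (motive := fun _ => Bool) (dp_ai_28 j u) (dp_ai_29 j u) (Nat.ble (nat_lit 42) j)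
noncomputable def dp_ai_31 (j u : ℕ) : Bool :=
  Bool.rec (motive := fun _ => Bool) (dp_ai_27 j u) (dp_ai_30 j u) (Nat.ble (nat_lit 40) j)
noncomputable def dp_ai_32 (j u : ℕ) : Bool :=
  Bool.rec (motive := fun _ => Bool) (lF [T_ai, T_e, T_a, T_b, T_b, T_a, T_bi, T_a, T_e, T_v, T_wi, T_ci] M (Nat.sub (T_ai u) (Nat.mod (T_ai u) M)) (Nat.mod (T_ai u) M) u) (lF [T_e, T_a, T_a, T_c, T_w, T_vi, T_e, T_ai, T_b, T_ai, T_bi, T_bi] M (Nat.sub (T_ai u) (Nat.mod (T_ai u) M)) (Nat.mod (T_ai u) M) u) (Nat.ble (nat_lit 46) j)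
noncomputable def dp_ai_33 (j u : ℕ) : Bool :=
  Bool.rec (motive := fun _ => Bool) (lF [T_bi, T_ci, T_b, T_a, T_bi, T_ci, T_ci, T_b, T_c, T_v] M (Nat.sub (T_ai u) (Nat.mod (T_ai u) M)) (Nat.mod (T_ai u) M) u) (dp_ai_32 j u) (Nat.ble (nat_lit 45) j)
noncomputable def dp_ai_34 (j u : ℕ) : Bool :=
  Bool.rec (motive := fun _ => Bool) (lF [T_ai, T_ai, T_d, T_d, T_ai] M (Nat.sub (T_ai u) (Nat.mod (T_ai u) M)) (Nat.mod (T_ai u) M) u) (lF [T_ai, T_bi, T_ci, T_b, T_ai, T_v, T_ui, T_e, T_u, T_e, T_ui, T_e, T_ai] M (Nat.sub (T_ai u) (Nat.mod (T_ai u) M)) (Nat.mod (T_ai u) M) u) (Nat.ble (nat_lit 48) j)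
noncomputable def dp_ai_35 (j u : ℕ) : Bool :=
  Bool.rec (motive := fun _ => Bool) (lS MG [T_e, T_a, T_b, T_b, T_a, T_bi, T_a, T_e, T_v, T_wi, T_ci, T_ai] M (Nat.sub (T_ai u) (Nat.mod (T_ai u) M)) (nat_lit 40) (Nat.mod (T_ai u) M) u) (lF [T_bi, T_c, T_b, T_a, T_vi, T_ci, T_bi, T_c, T_c, T_b] M (Nat.sub (T_ai u) (Nat.mod (T_ai u) M)) (Nat.mod (T_ai u) M) u) (Nat.ble (nat_lit 50) j)
noncomputable def dp_ai_36 (j u : ℕ) : Bool :=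
  Bool.rec (motive := fun _ => Bool) (dp_ai_34 j u) (dp_ai_35 j u) (Nat.ble (nat_lit 49) j)
noncomputable def dp_ai_37 (j u : ℕ) : Bool :=
  Bool.rec (motive := fun _ => Bool) (dp_ai_33 j u) (dp_ai_36 j u) (Nat.ble (nat_lit 47) j)
noncomputable def dp_ai_38 (j u : ℕ) : Bool :=
  Bool.rec (motive := fun _ => Bool) (dp_ai_31 j u) (dp_ai_37 j u) (Nat.ble (nat_lit 44) j)
noncomputable def dp_ai_39 (j u : ℕ) : Bool :=
  Bool.rec (motive := fun _ => Bool) (dp_ai_25 j u) (dp_ai_38 j u) (Nat.ble (nat_lit 37) j)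
noncomputable def dp_ai_40 (j u : ℕ) : Bool :=
  Bool.rec (motive := fun _ => Bool) (dp_ai_19 j u) (dp_ai_39 j u) (Nat.ble (nat_lit 30) j)
noncomputable def dp_ai_41 (j u : ℕ) : Bool :=
  Bool.rec (motive := fun _ => Bool) (dp_ai_13 j u) (dp_ai_40 j u) (Nat.ble (nat_lit 23) j)
noncomputable def dp_ai_42 (j u : ℕ) : Bool :=
  Bool.rec (motive := fun _ => Bool) (dp_ai_7 j u) (dp_ai_41 j u) (Nat.ble (nat_lit 16) j)
noncomputable def dp_ai_43 (j u : ℕ) : Bool :=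
  Bool.rec (motive := fun _ => Bool) (dp_ai_3 j u) (dp_ai_42 j u) (Nat.ble (nat_lit 11) j)
noncomputable def dp_ai_44 (j u : ℕ) : Bool :=
  Bool.rec (motive := fun _ => Bool) (Bool.rec (motive := fun _ => Bool) (lDef P (nat_lit 1) (Nat.mod (T_ai u) M) u) (dp_ai_1 j u) (Nat.ble (nat_lit 5) j)) (dp_ai_43 j u) (Nat.ble (nat_lit 8) j)
noncomputable def dp_ai_45 (j u : ℕ) : Bool :=
  Bool.rec (motive := fun _ => Bool) (Bool.rec (motive := fun _ => Bool) (lF3 T_c T_a T_ui M (Nat.sub (T_ai u) (Nat.mod (T_ai u) M)) (Nat.mod (T_ai u) M) u) (lDef P (nat_lit 0) u (Nat.mod (T_ai u) M)) (Nat.ble (nat_lit 3) j)) (dp_ai_44 j u) (Nat.ble (nat_lit 4) j)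
noncomputable def disp_ai (j u : ℕ) : Bool :=
  Bool.rec (motive := fun _ => Bool) (Bool.rec (motive := fun _ => Bool) (lF1 T_a M (Nat.sub (T_ai u) (Nat.mod (T_ai u) M)) (Nat.mod (T_ai u) M) u) (lF3 T_ci T_a T_u M (Nat.sub (T_ai u) (Nat.mod (T_ai u) M)) (Nat.mod (T_ai u) M) u) (Nat.ble (nat_lit 1) j)) (dp_ai_45 j u) (Nat.ble (nat_lit 2) j)
noncomputable def chk_ai (j u : ℕ) : Bool :=
  Bool.rec (motive := fun _ => Bool) (disp_ai j u) (Nat.ble (Nat.succ (MG u)) A) (Nat.ble A (T_ai u))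
noncomputable def dp_b_0 (j u : ℕ) : Bool :=
  Bool.rec (motive := fun _ => Bool) (lDef P (nat_lit 2) (Nat.mod (T_b u) M) u) (lS MG [T_bi] M (Nat.sub (T_b u) (Nat.mod (T_b u) M)) (nat_lit 40) (Nat.mod (T_b u) M) u) (Nat.ble (nat_lit 7) j)
noncomputable def dp_b_1 (j u : ℕ) : Bool :=
  Bool.rec (motive := fun _ => Bool) (lF3 T_d T_bi T_di M (Nat.sub (T_b u) (Nat.mod (T_b u) M)) (Nat.mod (T_b u) M) u) (lF [T_b, T_b, T_b, T_b] M (Nat.sub (T_b u) (Nat.mod (T_b u) M)) (Nat.mod (T_b u) M) u) (Nat.ble (nat_lit 10) j)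
noncomputable def dp_b_2 (j u : ℕ) : Bool :=
  Bool.rec (motive := fun _ => Bool) (lF3 T_di T_bi T_d M (Nat.sub (T_b u) (Nat.mod (T_b u) M)) (Nat.mod (T_b u) M) u) (dp_b_1 j u) (Nat.ble (nat_lit 9) j)
noncomputable def dp_b_3 (j u : ℕ) : Bool :=
  Bool.rec (motive := fun _ => Bool) (lS MG [T_wi, T_bi, T_w] M (Nat.sub (T_b u) (Nat.mod (T_b u) M)) (nat_lit 40) (Nat.mod (T_b u) M) u) (lF [T_ai, T_ai, T_bi, T_a, T_a] M (Nat.sub (T_b u) (Nat.mod (T_b u) M)) (Nat.mod (T_b u) M) u) (Nat.ble (nat_lit 13) j)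
noncomputable def dp_b_4 (j u : ℕ) : Bool :=
  Bool.rec (motive := fun _ => Bool) (lF [T_a, T_a, T_bi, T_ai, T_ai] M (Nat.sub (T_b u) (Nat.mod (T_b u) M)) (Nat.mod (T_b u) M) u) (dp_b_3 j u) (Nat.ble (nat_lit 12) j)
noncomputable def dp_b_5 (j u : ℕ) : Bool :=
  Bool.rec (motive := fun _ => Bool) (lS MG [T_w, T_bi, T_wi] M (Nat.sub (T_b u) (Nat.mod (T_b u) M)) (nat_lit 40) (Nat.mod (T_b u) M) u) (lF [T_ci, T_b, T_v, T_e, T_vi, T_e] M (Nat.sub (T_b u) (Nat.mod (T_b u) M)) (Nat.mod (T_b u) M) u) (Nat.ble (nat_lit 15) j)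
noncomputable def dp_b_6 (j u : ℕ) : Bool :=
  Bool.rec (motive := fun _ => Bool) (lF [T_e, T_v, T_v, T_bi, T_c, T_b, T_ci, T_e] M (Nat.sub (T_b u) (Nat.mod (T_b u) M)) (Nat.mod (T_b u) M) u) (lS MG [T_c, T_bi, T_vi] M (Nat.sub (T_b u) (Nat.mod (T_b u) M)) (nat_lit 40) (Nat.mod (T_b u) M) u) (Nat.ble (nat_lit 18) j)
noncomputable def dp_b_7 (j u : ℕ) : Bool :=
  Bool.rec (motive := fun _ => Bool) (lS MG [T_di, T_bi, T_d] M (Nat.sub (T_b u) (Nat.mod (T_b u) M)) (nat_lit 40) (Nat.mod (T_b u) M) u) (dp_b_6 j u) (Nat.ble (nat_lit 17) j)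
noncomputable def dp_b_8 (j u : ℕ) : Bool :=
  Bool.rec (motive := fun _ => Bool) (dp_b_5 j u) (dp_b_7 j u) (Nat.ble (nat_lit 16) j)
noncomputable def dp_b_9 (j u : ℕ) : Bool :=
  Bool.rec (motive := fun _ => Bool) (dp_b_4 j u) (dp_b_8 j u) (Nat.ble (nat_lit 14) j)
noncomputable def dp_b_10 (j u : ℕ) : Bool :=
  Bool.rec (motive := fun _ => Bool) (lF [T_u, T_bi, T_c, T_b, T_w, T_ui, T_bi, T_ci] M (Nat.sub (T_b u) (Nat.mod (T_b u) M)) (Nat.mod (T_b u) M) u) (lS MG [T_d, T_bi, T_di] M (Nat.sub (T_b u) (Nat.mod (T_b u) M)) (nat_lit 40) (Nat.mod (T_b u) M) u) (Nat.ble (nat_lit 21) j)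
noncomputable def dp_b_11 (j u : ℕ) : Bool :=
  Bool.rec (motive := fun _ => Bool) (lF [T_v, T_e, T_vi, T_e, T_b, T_ci] M (Nat.sub (T_b u) (Nat.mod (T_b u) M)) (Nat.mod (T_b u) M) u) (dp_b_10 j u) (Nat.ble (nat_lit 20) j)
noncomputable def dp_b_12 (j u : ℕ) : Bool :=
  Bool.rec (motive := fun _ => Bool) (lF [T_ci, T_e, T_ci, T_e, T_c, T_b] M (Nat.sub (T_b u) (Nat.mod (T_b u) M)) (Nat.mod (T_b u) M) u) (lF [T_a, T_b, T_a, T_b, T_a, T_b, T_a] M (Nat.sub (T_b u) (Nat.mod (T_b u) M)) (Nat.mod (T_b u) M) u) (Nat.ble (nat_lit 23) j)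
noncomputable def dp_b_13 (j u : ℕ) : Bool :=
  Bool.rec (motive := fun _ => Bool) (lF [T_b, T_ci, T_e, T_ci, T_e, T_c] M (Nat.sub (T_b u) (Nat.mod (T_b u) M)) (Nat.mod (T_b u) M) u) (lS MG [T_ci, T_bi, T_v] M (Nat.sub (T_b u) (Nat.mod (T_b u) M)) (nat_lit 40) (Nat.mod (T_b u) M) u) (Nat.ble (nat_lit 25) j)
noncomputable def dp_b_14 (j u : ℕ) : Bool :=
  Bool.rec (motive := fun _ => Bool) (dp_b_12 j u) (dp_b_13 j u) (Nat.ble (nat_lit 24) j)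
noncomputable def dp_b_15 (j u : ℕ) : Bool :=
  Bool.rec (motive := fun _ => Bool) (dp_b_11 j u) (dp_b_14 j u) (Nat.ble (nat_lit 22) j)
noncomputable def dp_b_16 (j u : ℕ) : Bool :=
  Bool.rec (motive := fun _ => Bool) (lF [T_v, T_bi, T_c, T_b, T_wi, T_vi, T_bi, T_ci] M (Nat.sub (T_b u) (Nat.mod (T_b u) M)) (Nat.mod (T_b u) M) u) (lF [T_w, T_ui, T_bi, T_ci, T_b, T_u, T_bi, T_c] M (Nat.sub (T_b u) (Nat.mod (T_b u) M)) (Nat.mod (T_b u) M) u) (Nat.ble (nat_lit 28) j)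
noncomputable def dp_b_17 (j u : ℕ) : Bool :=
  Bool.rec (motive := fun _ => Bool) (lF [T_ui, T_bi, T_c, T_b, T_u, T_wi, T_bi, T_ci] M (Nat.sub (T_b u) (Nat.mod (T_b u) M)) (Nat.mod (T_b u) M) u) (dp_b_16 j u) (Nat.ble (nat_lit 27) j)
noncomputable def dp_b_18 (j u : ℕ) : Bool :=
  Bool.rec (motive := fun _ => Bool) (lF [T_v, T_w, T_bi, T_ci, T_b, T_vi, T_bi, T_c] M (Nat.sub (T_b u) (Nat.mod (T_b u) M)) (Nat.mod (T_b u) M) u) (lF [T_u, T_bi, T_c, T_b, T_vi, T_ci, T_vi, T_bi, T_ui] M (Nat.sub (T_b u) (Nat.mod (T_b u) M)) (Nat.mod (T_b u) M) u) (Nat.ble (nat_lit 30) j)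
noncomputable def dp_b_19 (j u : ℕ) : Bool :=
  Bool.rec (motive := fun _ => Bool) (lF [T_vi, T_bi, T_c, T_b, T_v, T_w, T_bi, T_ci] M (Nat.sub (T_b u) (Nat.mod (T_b u) M)) (Nat.mod (T_b u) M) u) (lF [T_u, T_wi, T_bi, T_ci, T_b, T_ui, T_bi, T_c] M (Nat.sub (T_b u) (Nat.mod (T_b u) M)) (Nat.mod (T_b u) M) u) (Nat.ble (nat_lit 33) j)
noncomputable def dp_b_20 (j u : ℕ) : Bool :=
  Bool.rec (motive := fun _ => Bool) (lF [T_wi, T_vi, T_bi, T_ci, T_b, T_v, T_bi, T_c] M (Nat.sub (T_b u) (Nat.mod (T_b u) M)) (Nat.mod (T_b u) M) u) (dp_b_19 j u) (Nat.ble (nat_lit 32) j)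
noncomputable def dp_b_21 (j u : ℕ) : Bool :=
  Bool.rec (motive := fun _ => Bool) (dp_b_18 j u) (dp_b_20 j u) (Nat.ble (nat_lit 31) j)
noncomputable def dp_b_22 (j u : ℕ) : Bool :=
  Bool.rec (motive := fun _ => Bool) (dp_b_17 j u) (dp_b_21 j u) (Nat.ble (nat_lit 29) j)
noncomputable def dp_b_23 (j u : ℕ) : Bool :=
  Bool.rec (motive := fun _ => Bool) (lF [T_c, T_c, T_v, T_bi, T_ci, T_ci, T_bi, T_ci, T_b] M (Nat.sub (T_b u) (Nat.mod (T_b u) M)) (Nat.mod (T_b u) M) u) (lS MG [T_b, T_a, T_bi, T_a, T_c, T_w, T_vi, T_e, T_ai, T_ai, T_e, T_a] M (Nat.sub (T_b u) (Nat.mod (T_b u) M)) (nat_lit 40) (Nat.mod (T_b u) M) u) (Nat.ble (nat_lit 35) j)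
noncomputable def dp_b_24 (j u : ℕ) : Bool :=
  Bool.rec (motive := fun _ => Bool) (lS MG [T_a, T_a, T_bi, T_ai, T_ai] M (Nat.sub (T_b u) (Nat.mod (T_b u) M)) (nat_lit 40) (Nat.mod (T_b u) M) u) (lF [T_c, T_bi, T_c, T_b, T_w, T_w, T_ci, T_bi, T_ci] M (Nat.sub (T_b u) (Nat.mod (T_b u) M)) (Nat.mod (T_b u) M) u) (Nat.ble (nat_lit 37) j)
noncomputable def dp_b_25 (j u : ℕ) : Bool :=
  Bool.rec (motive := fun _ => Bool) (dp_b_23 j u) (dp_b_24 j u) (Nat.ble (nat_lit 36) j)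
noncomputable def dp_b_26 (j u : ℕ) : Bool :=
  Bool.rec (motive := fun _ => Bool) (lF [T_c, T_wi, T_wi, T_bi, T_ci, T_b, T_ci, T_bi, T_c] M (Nat.sub (T_b u) (Nat.mod (T_b u) M)) (Nat.mod (T_b u) M) u) (lF [T_a, T_bi, T_ci, T_ci, T_b, T_c, T_v, T_ai, T_bi, T_ci] M (Nat.sub (T_b u) (Nat.mod (T_b u) M)) (Nat.mod (T_b u) M) u) (Nat.ble (nat_lit 39) j)
noncomputable def dp_b_27 (j u : ℕ) : Bool :=
  Bool.rec (motive := fun _ => Bool) (lS MG [T_b, T_b, T_b, T_b] M (Nat.sub (T_b u) (Nat.mod (T_b u) M)) (nat_lit 40) (Nat.mod (T_b u) M) u) (lF [T_v, T_c, T_v, T_bi, T_ci, T_b, T_ui, T_bi, T_u] M (Nat.sub (T_b u) (Nat.mod (T_b u) M)) (Nat.mod (T_b u) M) u) (Nat.ble (nat_lit 43) j)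
noncomputable def dp_b_28 (j u : ℕ) : Bool :=
  Bool.rec (motive := fun _ => Bool) (lH [] [] M (Nat.sub (T_b u) (Nat.mod (T_b u) M)) (Nat.mod (T_b u) M) u) (dp_b_27 j u) (Nat.ble (nat_lit 42) j)
noncomputable def dp_b_29 (j u : ℕ) : Bool :=
  Bool.rec (motive := fun _ => Bool) (lS MG [T_u, T_bi, T_c, T_b, T_w, T_ui, T_bi, T_ci] M (Nat.sub (T_b u) (Nat.mod (T_b u) M)) (nat_lit 40) (Nat.mod (T_b u) M) u) (dp_b_28 j u) (Nat.ble (nat_lit 41) j)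
noncomputable def dp_b_30 (j u : ℕ) : Bool :=
  Bool.rec (motive := fun _ => Bool) (dp_b_26 j u) (dp_b_29 j u) (Nat.ble (nat_lit 40) j)
noncomputable def dp_b_31 (j u : ℕ) : Bool :=
  Bool.rec (motive := fun _ => Bool) (dp_b_25 j u) (dp_b_30 j u) (Nat.ble (nat_lit 38) j)
noncomputable def dp_b_32 (j u : ℕ) : Bool :=
  Bool.rec (motive := fun _ => Bool) (lS MG [T_u, T_bi, T_c, T_b, T_vi, T_ci, T_vi, T_bi, T_ui] M (Nat.sub (T_b u) (Nat.mod (T_b u) M)) (nat_lit 40) (Nat.mod (T_b u) M) u) (lF [T_ai, T_bi, T_bi, T_ai, T_e, T_a, T_a, T_e, T_v, T_wi, T_ci, T_ai] M (Nat.sub (T_b u) (Nat.mod (T_b u) M)) (Nat.mod (T_b u) M) u) (Nat.ble (nat_lit 45) j)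
noncomputable def dp_b_33 (j u : ℕ) : Bool :=
  Bool.rec (motive := fun _ => Bool) (lS MG [T_v, T_e, T_vi, T_e, T_b, T_ci] M (Nat.sub (T_b u) (Nat.mod (T_b u) M)) (nat_lit 40) (Nat.mod (T_b u) M) u) (lF [T_e, T_a, T_v, T_c, T_ui, T_ai, T_bi, T_bi, T_e, T_bi, T_c] M (Nat.sub (T_b u) (Nat.mod (T_b u) M)) (Nat.mod (T_b u) M) u) (Nat.ble (nat_lit 47) j)
noncomputable def dp_b_34 (j u : ℕ) : Bool :=
  Bool.rec (motive := fun _ => Bool) (dp_b_32 j u) (dp_b_33 j u) (Nat.ble (nat_lit 46) j)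
noncomputable def dp_b_35 (j u : ℕ) : Bool :=
  Bool.rec (motive := fun _ => Bool) (lF [T_ci, T_e, T_b, T_e, T_v, T_v, T_bi, T_c] M (Nat.sub (T_b u) (Nat.mod (T_b u) M)) (Nat.mod (T_b u) M) u) (lS MG [T_ci, T_b, T_v, T_e, T_vi, T_e] M (Nat.sub (T_b u) (Nat.mod (T_b u) M)) (nat_lit 40) (Nat.mod (T_b u) M) u) (Nat.ble (nat_lit 49) j)
noncomputable def dp_b_36 (j u : ℕ) : Bool :=
  Bool.rec (motive := fun _ => Bool) (lS MG [T_v, T_bi, T_c, T_b, T_wi, T_vi, T_bi, T_ci] M (Nat.sub (T_b u) (Nat.mod (T_b u) M)) (nat_lit 40) (Nat.mod (T_b u) M) u) (lS MG [T_vi, T_vi, T_e, T_bi, T_e, T_c, T_bi, T_ci] M (Nat.sub (T_b u) (Nat.mod (T_b u) M)) (nat_lit 40) (Nat.mod (T_b u) M) u) (Nat.ble (nat_lit 51) j)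
noncomputable def dp_b_37 (j u : ℕ) : Bool :=
  Bool.rec (motive := fun _ => Bool) (dp_b_35 j u) (dp_b_36 j u) (Nat.ble (nat_lit 50) j)
noncomputable def dp_b_38 (j u : ℕ) : Bool :=
  Bool.rec (motive := fun _ => Bool) (dp_b_34 j u) (dp_b_37 j u) (Nat.ble (nat_lit 48) j)
noncomputable def dp_b_39 (j u : ℕ) : Bool :=
  Bool.rec (motive := fun _ => Bool) (lS MG [T_a, T_b, T_a, T_b, T_a, T_b, T_a] M (Nat.sub (T_b u) (Nat.mod (T_b u) M)) (nat_lit 40) (Nat.mod (T_b u) M) u) (lF [T_b, T_a, T_u, T_ci, T_vi, T_ai, T_e, T_bi, T_ci, T_b, T_e] M (Nat.sub (T_b u) (Nat.mod (T_b u) M)) (Nat.mod (T_b u) M) u) (Nat.ble (nat_lit 53) j)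
noncomputable def dp_b_40 (j u : ℕ) : Bool :=
  Bool.rec (motive := fun _ => Bool) (lS MG [T_wi, T_vi, T_bi, T_ci, T_b, T_v, T_bi, T_c] M (Nat.sub (T_b u) (Nat.mod (T_b u) M)) (nat_lit 40) (Nat.mod (T_b u) M) u) (lF [T_a, T_vi, T_ci, T_bi, T_c, T_c, T_b, T_ai, T_bi, T_c] M (Nat.sub (T_b u) (Nat.mod (T_b u) M)) (Nat.mod (T_b u) M) u) (Nat.ble (nat_lit 55) j)
noncomputable def dp_b_41 (j u : ℕ) : Bool :=
  Bool.rec (motive := fun _ => Bool) (dp_b_39 j u) (dp_b_40 j u) (Nat.ble (nat_lit 54) j)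
noncomputable def dp_b_42 (j u : ℕ) : Bool :=
  Bool.rec (motive := fun _ => Bool) (lF [T_c, T_vi, T_e, T_wi, T_e, T_c, T_bi, T_ci] M (Nat.sub (T_b u) (Nat.mod (T_b u) M)) (Nat.mod (T_b u) M) u) (lS MG [T_c, T_wi, T_wi, T_bi, T_ci, T_b, T_ci, T_bi, T_c] M (Nat.sub (T_b u) (Nat.mod (T_b u) M)) (nat_lit 40) (Nat.mod (T_b u) M) u) (Nat.ble (nat_lit 57) j)
noncomputable def dp_b_43 (j u : ℕ) : Bool :=
  Bool.rec (motive := fun _ => Bool) (lS MG [T_b, T_ci, T_e, T_ci, T_e, T_c] M (Nat.sub (T_b u) (Nat.mod (T_b u) M)) (nat_lit 40) (Nat.mod (T_b u) M) u) (lS MG [T_vi, T_ci, T_vi, T_bi, T_ui, T_b, T_u, T_bi, T_c] M (Nat.sub (T_b u) (Nat.mod (T_b u) M)) (nat_lit 40) (Nat.mod (T_b u) M) u) (Nat.ble (nat_lit 60) j)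
noncomputable def dp_b_44 (j u : ℕ) : Bool :=
  Bool.rec (motive := fun _ => Bool) (lS MG [T_u, T_wi, T_bi, T_ci, T_b, T_ui, T_bi, T_c] M (Nat.sub (T_b u) (Nat.mod (T_b u) M)) (nat_lit 40) (Nat.mod (T_b u) M) u) (dp_b_43 j u) (Nat.ble (nat_lit 59) j)
noncomputable def dp_b_45 (j u : ℕ) : Bool :=
  Bool.rec (motive := fun _ => Bool) (dp_b_42 j u) (dp_b_44 j u) (Nat.ble (nat_lit 58) j)
noncomputable def dp_b_46 (j u : ℕ) : Bool :=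
  Bool.rec (motive := fun _ => Bool) (dp_b_41 j u) (dp_b_45 j u) (Nat.ble (nat_lit 56) j)
noncomputable def dp_b_47 (j u : ℕ) : Bool :=
  Bool.rec (motive := fun _ => Bool) (dp_b_38 j u) (dp_b_46 j u) (Nat.ble (nat_lit 52) j)
noncomputable def dp_b_48 (j u : ℕ) : Bool :=
  Bool.rec (motive := fun _ => Bool) (dp_b_31 j u) (dp_b_47 j u) (Nat.ble (nat_lit 44) j)
noncomputable def dp_b_49 (j u : ℕ) : Bool :=
  Bool.rec (motive := fun _ => Bool) (dp_b_22 j u) (dp_b_48 j u) (Nat.ble (nat_lit 34) j)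
noncomputable def dp_b_50 (j u : ℕ) : Bool :=
  Bool.rec (motive := fun _ => Bool) (dp_b_15 j u) (dp_b_49 j u) (Nat.ble (nat_lit 26) j)
noncomputable def dp_b_51 (j u : ℕ) : Bool :=
  Bool.rec (motive := fun _ => Bool) (dp_b_9 j u) (dp_b_50 j u) (Nat.ble (nat_lit 19) j)
noncomputable def dp_b_52 (j u : ℕ) : Bool :=
  Bool.rec (motive := fun _ => Bool) (dp_b_2 j u) (dp_b_51 j u) (Nat.ble (nat_lit 11) j)
noncomputable def dp_b_53 (j u : ℕ) : Bool :=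
  Bool.rec (motive := fun _ => Bool) (Bool.rec (motive := fun _ => Bool) (lDef P (nat_lit 3) u (Nat.mod (T_b u) M)) (dp_b_0 j u) (Nat.ble (nat_lit 6) j)) (dp_b_52 j u) (Nat.ble (nat_lit 8) j)
noncomputable def dp_b_54 (j u : ℕ) : Bool :=
  Bool.rec (motive := fun _ => Bool) (Bool.rec (motive := fun _ => Bool) (lF3 T_wi T_bi T_w M (Nat.sub (T_b u) (Nat.mod (T_b u) M)) (Nat.mod (T_b u) M) u) (Bool.rec (motive := fun _ => Bool) (lF3 T_c T_bi T_vi M (Nat.sub (T_b u) (Nat.mod (T_b u) M)) (Nat.mod (T_b u) M) u) (lF3 T_ci T_bi T_v M (Nat.sub (T_b u) (Nat.mod (T_b u) M)) (Nat.mod (T_b u) M) u) (Nat.ble (nat_lit 4) j)) (Nat.ble (nat_lit 3) j)) (dp_b_53 j u) (Nat.ble (nat_lit 5) j)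
noncomputable def disp_b (j u : ℕ) : Bool :=
  Bool.rec (motive := fun _ => Bool) (Bool.rec (motive := fun _ => Bool) (lF1 T_bi M (Nat.sub (T_b u) (Nat.mod (T_b u) M)) (Nat.mod (T_b u) M) u) (lF3 T_w T_bi T_wi M (Nat.sub (T_b u) (Nat.mod (T_b u) M)) (Nat.mod (T_b u) M) u) (Nat.ble (nat_lit 1) j)) (dp_b_54 j u) (Nat.ble (nat_lit 2) j)
noncomputable def chk_b (j u : ℕ) : Bool :=
  Bool.rec (motive := fun _ => Bool) (disp_b j u) (Nat.ble (Nat.succ (MG u)) A) (Nat.ble A (T_b u))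
noncomputable def dp_bi_0 (j u : ℕ) : Bool :=
  Bool.rec (motive := fun _ => Bool) (lF3 T_vi T_b T_c M (Nat.sub (T_bi u) (Nat.mod (T_bi u) M)) (Nat.mod (T_bi u) M) u) (lF3 T_v T_b T_ci M (Nat.sub (T_bi u) (Nat.mod (T_bi u) M)) (Nat.mod (T_bi u) M) u) (Nat.ble (nat_lit 4) j)
noncomputable def dp_bi_1 (j u : ℕ) : Bool :=
  Bool.rec (motive := fun _ => Bool) (lDef P (nat_lit 2) u (Nat.mod (T_bi u) M)) (lS MG [T_b] M (Nat.sub (T_bi u) (Nat.mod (T_bi u) M)) (nat_lit 40) (Nat.mod (T_bi u) M) u) (Nat.ble (nat_lit 7) j)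
noncomputable def dp_bi_2 (j u : ℕ) : Bool :=
  Bool.rec (motive := fun _ => Bool) (lF3 T_di T_b T_d M (Nat.sub (T_bi u) (Nat.mod (T_bi u) M)) (Nat.mod (T_bi u) M) u) (lF [T_bi, T_bi, T_bi, T_bi] M (Nat.sub (T_bi u) (Nat.mod (T_bi u) M)) (Nat.mod (T_bi u) M) u) (Nat.ble (nat_lit 10) j)
noncomputable def dp_bi_3 (j u : ℕ) : Bool :=
  Bool.rec (motive := fun _ => Bool) (lF3 T_d T_b T_di M (Nat.sub (T_bi u) (Nat.mod (T_bi u) M)) (Nat.mod (T_bi u) M) u) (dp_bi_2 j u) (Nat.ble (nat_lit 9) j)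
noncomputable def dp_bi_4 (j u : ℕ) : Bool :=
  Bool.rec (motive := fun _ => Bool) (lF [T_ai, T_ai, T_b, T_a, T_a] M (Nat.sub (T_bi u) (Nat.mod (T_bi u) M)) (Nat.mod (T_bi u) M) u) (lF [T_a, T_a, T_b, T_ai, T_ai] M (Nat.sub (T_bi u) (Nat.mod (T_bi u) M)) (Nat.mod (T_bi u) M) u) (Nat.ble (nat_lit 13) j)
noncomputable def dp_bi_5 (j u : ℕ) : Bool :=
  Bool.rec (motive := fun _ => Bool) (lF [T_e, T_v, T_e, T_vi, T_bi, T_c] M (Nat.sub (T_bi u) (Nat.mod (T_bi u) M)) (Nat.mod (T_bi u) M) u) (dp_bi_4 j u) (Nat.ble (nat_lit 12) j)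
noncomputable def dp_bi_6 (j u : ℕ) : Bool :=
  Bool.rec (motive := fun _ => Bool) (lS MG [T_wi, T_b, T_w] M (Nat.sub (T_bi u) (Nat.mod (T_bi u) M)) (nat_lit 40) (Nat.mod (T_bi u) M) u) (lF [T_c, T_bi, T_e, T_v, T_e, T_vi] M (Nat.sub (T_bi u) (Nat.mod (T_bi u) M)) (Nat.mod (T_bi u) M) u) (Nat.ble (nat_lit 15) j)
noncomputable def dp_bi_7 (j u : ℕ) : Bool :=
  Bool.rec (motive := fun _ => Bool) (lF [T_ci, T_e, T_c, T_e, T_c, T_bi] M (Nat.sub (T_bi u) (Nat.mod (T_bi u) M)) (Nat.mod (T_bi u) M) u) (lF [T_e, T_c, T_bi, T_ci, T_b, T_vi, T_vi, T_e] M (Nat.sub (T_bi u) (Nat.mod (T_bi u) M)) (Nat.mod (T_bi u) M) u) (Nat.ble (nat_lit 17) j)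
noncomputable def dp_bi_8 (j u : ℕ) : Bool :=
  Bool.rec (motive := fun _ => Bool) (dp_bi_6 j u) (dp_bi_7 j u) (Nat.ble (nat_lit 16) j)
noncomputable def dp_bi_9 (j u : ℕ) : Bool :=
  Bool.rec (motive := fun _ => Bool) (dp_bi_5 j u) (dp_bi_8 j u) (Nat.ble (nat_lit 14) j)
noncomputable def dp_bi_10 (j u : ℕ) : Bool :=
  Bool.rec (motive := fun _ => Bool) (lS MG [T_vi, T_b, T_c] M (Nat.sub (T_bi u) (Nat.mod (T_bi u) M)) (nat_lit 40) (Nat.mod (T_bi u) M) u) (lS MG [T_w, T_b, T_wi] M (Nat.sub (T_bi u) (Nat.mod (T_bi u) M)) (nat_lit 40) (Nat.mod (T_bi u) M) u) (Nat.ble (nat_lit 20) j)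
noncomputable def dp_bi_11 (j u : ℕ) : Bool :=
  Bool.rec (motive := fun _ => Bool) (lS MG [T_v, T_b, T_ci] M (Nat.sub (T_bi u) (Nat.mod (T_bi u) M)) (nat_lit 40) (Nat.mod (T_bi u) M) u) (dp_bi_10 j u) (Nat.ble (nat_lit 19) j)
noncomputable def dp_bi_12 (j u : ℕ) : Bool :=
  Bool.rec (motive := fun _ => Bool) (lF [T_bi, T_ci, T_e, T_c, T_e, T_c] M (Nat.sub (T_bi u) (Nat.mod (T_bi u) M)) (Nat.mod (T_bi u) M) u) (lF [T_c, T_b, T_wi, T_vi, T_bi, T_ci, T_b, T_v] M (Nat.sub (T_bi u) (Nat.mod (T_bi u) M)) (Nat.mod (T_bi u) M) u) (Nat.ble (nat_lit 23) j)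
noncomputable def dp_bi_13 (j u : ℕ) : Bool :=
  Bool.rec (motive := fun _ => Bool) (lS MG [T_d, T_b, T_di] M (Nat.sub (T_bi u) (Nat.mod (T_bi u) M)) (nat_lit 40) (Nat.mod (T_bi u) M) u) (dp_bi_12 j u) (Nat.ble (nat_lit 22) j)
noncomputable def dp_bi_14 (j u : ℕ) : Bool :=
  Bool.rec (motive := fun _ => Bool) (lF [T_ci, T_b, T_u, T_bi, T_c, T_b, T_w, T_ui] M (Nat.sub (T_bi u) (Nat.mod (T_bi u) M)) (Nat.mod (T_bi u) M) u) (lF [T_c, T_b, T_v, T_w, T_bi, T_ci, T_b, T_vi] M (Nat.sub (T_bi u) (Nat.mod (T_bi u) M)) (Nat.mod (T_bi u) M) u) (Nat.ble (nat_lit 26) j)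
noncomputable def dp_bi_15 (j u : ℕ) : Bool :=
  Bool.rec (motive := fun _ => Bool) (lF [T_ci, T_ci, T_bi, T_ci, T_b, T_b, T_c, T_c, T_v] M (Nat.sub (T_bi u) (Nat.mod (T_bi u) M)) (Nat.mod (T_bi u) M) u) (dp_bi_14 j u) (Nat.ble (nat_lit 25) j)
noncomputable def dp_bi_16 (j u : ℕ) : Bool :=
  Bool.rec (motive := fun _ => Bool) (dp_bi_13 j u) (dp_bi_15 j u) (Nat.ble (nat_lit 24) j)
noncomputable def dp_bi_17 (j u : ℕ) : Bool :=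
  Bool.rec (motive := fun _ => Bool) (dp_bi_11 j u) (dp_bi_16 j u) (Nat.ble (nat_lit 21) j)
noncomputable def dp_bi_18 (j u : ℕ) : Bool :=
  Bool.rec (motive := fun _ => Bool) (lF [T_c, T_b, T_u, T_wi, T_bi, T_ci, T_b, T_ui] M (Nat.sub (T_bi u) (Nat.mod (T_bi u) M)) (Nat.mod (T_bi u) M) u) (lF [T_u, T_b, T_v, T_c, T_v, T_bi, T_ci, T_b, T_ui] M (Nat.sub (T_bi u) (Nat.mod (T_bi u) M)) (Nat.mod (T_bi u) M) u) (Nat.ble (nat_lit 28) j)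
noncomputable def dp_bi_19 (j u : ℕ) : Bool :=
  Bool.rec (motive := fun _ => Bool) (lF [T_ci, T_b, T_vi, T_bi, T_c, T_b, T_v, T_w] M (Nat.sub (T_bi u) (Nat.mod (T_bi u) M)) (Nat.mod (T_bi u) M) u) (lF [T_ai, T_bi, T_ai, T_bi, T_ai, T_bi, T_ai] M (Nat.sub (T_bi u) (Nat.mod (T_bi u) M)) (Nat.mod (T_bi u) M) u) (Nat.ble (nat_lit 30) j)
noncomputable def dp_bi_20 (j u : ℕ) : Bool :=
  Bool.rec (motive := fun _ => Bool) (dp_bi_18 j u) (dp_bi_19 j u) (Nat.ble (nat_lit 29) j)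
noncomputable def dp_bi_21 (j u : ℕ) : Bool :=
  Bool.rec (motive := fun _ => Bool) (lF [T_ci, T_b, T_v, T_bi, T_c, T_b, T_wi, T_vi] M (Nat.sub (T_bi u) (Nat.mod (T_bi u) M)) (Nat.mod (T_bi u) M) u) (lS MG [T_di, T_b, T_d] M (Nat.sub (T_bi u) (Nat.mod (T_bi u) M)) (nat_lit 40) (Nat.mod (T_bi u) M) u) (Nat.ble (nat_lit 32) j)
noncomputable def dp_bi_22 (j u : ℕ) : Bool :=
  Bool.rec (motive := fun _ => Bool) (lF [T_c, T_b, T_w, T_ui, T_bi, T_ci, T_b, T_u] M (Nat.sub (T_bi u) (Nat.mod (T_bi u) M)) (Nat.mod (T_bi u) M) u) (lF [T_bi, T_c, T_b, T_c, T_c, T_b, T_vi, T_ci, T_ci] M (Nat.sub (T_bi u) (Nat.mod (T_bi u) M)) (Nat.mod (T_bi u) M) u) (Nat.ble (nat_lit 35) j)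
noncomputable def dp_bi_23 (j u : ℕ) : Bool :=
  Bool.rec (motive := fun _ => Bool) (lF [T_c, T_b, T_c, T_c, T_b, T_vi, T_ci, T_ci, T_bi] M (Nat.sub (T_bi u) (Nat.mod (T_bi u) M)) (Nat.mod (T_bi u) M) u) (dp_bi_22 j u) (Nat.ble (nat_lit 34) j)
noncomputable def dp_bi_24 (j u : ℕ) : Bool :=
  Bool.rec (motive := fun _ => Bool) (dp_bi_21 j u) (dp_bi_23 j u) (Nat.ble (nat_lit 33) j)
noncomputable def dp_bi_25 (j u : ℕ) : Bool :=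
  Bool.rec (motive := fun _ => Bool) (dp_bi_20 j u) (dp_bi_24 j u) (Nat.ble (nat_lit 31) j)
noncomputable def dp_bi_26 (j u : ℕ) : Bool :=
  Bool.rec (motive := fun _ => Bool) (lF [T_ui, T_b, T_u, T_bi, T_c, T_b, T_vi, T_ci, T_vi] M (Nat.sub (T_bi u) (Nat.mod (T_bi u) M)) (Nat.mod (T_bi u) M) u) (lS MG [T_e, T_v, T_e, T_vi, T_bi, T_c] M (Nat.sub (T_bi u) (Nat.mod (T_bi u) M)) (nat_lit 40) (Nat.mod (T_bi u) M) u) (Nat.ble (nat_lit 37) j)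
noncomputable def dp_bi_27 (j u : ℕ) : Bool :=
  Bool.rec (motive := fun _ => Bool) (lS MG [T_ai, T_bi, T_ai, T_bi, T_ai, T_bi, T_ai] M (Nat.sub (T_bi u) (Nat.mod (T_bi u) M)) (nat_lit 40) (Nat.mod (T_bi u) M) u) (lF [T_ci, T_b, T_ui, T_bi, T_c, T_b, T_u, T_wi] M (Nat.sub (T_bi u) (Nat.mod (T_bi u) M)) (Nat.mod (T_bi u) M) u) (Nat.ble (nat_lit 39) j)
noncomputable def dp_bi_28 (j u : ℕ) : Bool :=
  Bool.rec (motive := fun _ => Bool) (dp_bi_26 j u) (dp_bi_27 j u) (Nat.ble (nat_lit 38) j)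
noncomputable def dp_bi_29 (j u : ℕ) : Bool :=
  Bool.rec (motive := fun _ => Bool) (lF [T_ci, T_ci, T_b, T_c, T_v, T_ai, T_bi, T_ci, T_b, T_a] M (Nat.sub (T_bi u) (Nat.mod (T_bi u) M)) (Nat.mod (T_bi u) M) u) (lF [T_ci, T_b, T_e, T_b, T_b, T_a, T_u, T_ci, T_vi, T_ai, T_e] M (Nat.sub (T_bi u) (Nat.mod (T_bi u) M)) (Nat.mod (T_bi u) M) u) (Nat.ble (nat_lit 41) j)
noncomputable def dp_bi_30 (j u : ℕ) : Bool :=
  Bool.rec (motive := fun _ => Bool) (lF [T_bi, T_ai, T_d, T_e, T_bi, T_u, T_ai, T_e, T_ai, T_e, T_ai, T_w, T_v, T_c, T_b, T_a] M (Nat.sub (T_bi u) (Nat.mod (T_bi u) M)) (Nat.mod (T_bi u) M) u) (lF [T_c, T_b, T_ci, T_e, T_b, T_e, T_v, T_v] M (Nat.sub (T_bi u) (Nat.mod (T_bi u) M)) (Nat.mod (T_bi u) M) u) (Nat.ble (nat_lit 44) j)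
noncomputable def dp_bi_31 (j u : ℕ) : Bool :=
  Bool.rec (motive := fun _ => Bool) (lF [T_ai, T_e, T_a, T_a, T_e, T_v, T_wi, T_ci, T_ai, T_b, T_ai, T_bi] M (Nat.sub (T_bi u) (Nat.mod (T_bi u) M)) (Nat.mod (T_bi u) M) u) (dp_bi_30 j u) (Nat.ble (nat_lit 43) j)
noncomputable def dp_bi_32 (j u : ℕ) : Bool :=
  Bool.rec (motive := fun _ => Bool) (dp_bi_29 j u) (dp_bi_31 j u) (Nat.ble (nat_lit 42) j)
noncomputable def dp_bi_33 (j u : ℕ) : Bool :=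
  Bool.rec (motive := fun _ => Bool) (dp_bi_28 j u) (dp_bi_32 j u) (Nat.ble (nat_lit 40) j)
noncomputable def dp_bi_34 (j u : ℕ) : Bool :=
  Bool.rec (motive := fun _ => Bool) (lS MG [T_c, T_b, T_w, T_ui, T_bi, T_ci, T_b, T_u] M (Nat.sub (T_bi u) (Nat.mod (T_bi u) M)) (nat_lit 40) (Nat.mod (T_bi u) M) u) (lS MG [T_ai, T_ai, T_b, T_a, T_a] M (Nat.sub (T_bi u) (Nat.mod (T_bi u) M)) (nat_lit 40) (Nat.mod (T_bi u) M) u) (Nat.ble (nat_lit 46) j)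
noncomputable def dp_bi_35 (j u : ℕ) : Bool :=
  Bool.rec (motive := fun _ => Bool) (lF [T_c, T_b, T_ci, T_e, T_w, T_e, T_v, T_ci] M (Nat.sub (T_bi u) (Nat.mod (T_bi u) M)) (Nat.mod (T_bi u) M) u) (lF [T_bi, T_ai, T_e, T_a, T_a, T_c, T_w, T_vi, T_e, T_ai, T_b, T_ai] M (Nat.sub (T_bi u) (Nat.mod (T_bi u) M)) (Nat.mod (T_bi u) M) u) (Nat.ble (nat_lit 48) j)
noncomputable def dp_bi_36 (j u : ℕ) : Bool :=
  Bool.rec (motive := fun _ => Bool) (dp_bi_34 j u) (dp_bi_35 j u) (Nat.ble (nat_lit 47) j)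
noncomputable def dp_bi_37 (j u : ℕ) : Bool :=
  Bool.rec (motive := fun _ => Bool) (lF [T_ci, T_b, T_c, T_bi, T_c, T_b, T_w, T_w, T_ci] M (Nat.sub (T_bi u) (Nat.mod (T_bi u) M)) (Nat.mod (T_bi u) M) u) (lS MG [T_ui, T_b, T_u, T_bi, T_c, T_b, T_vi, T_ci, T_vi] M (Nat.sub (T_bi u) (Nat.mod (T_bi u) M)) (nat_lit 40) (Nat.mod (T_bi u) M) u) (Nat.ble (nat_lit 50) j)
noncomputable def dp_bi_38 (j u : ℕ) : Bool :=
  Bool.rec (motive := fun _ => Bool) (lS MG [T_ci, T_b, T_u, T_bi, T_c, T_b, T_w, T_ui] M (Nat.sub (T_bi u) (Nat.mod (T_bi u) M)) (nat_lit 40) (Nat.mod (T_bi u) M) u) (lF [T_c, T_b, T_a, T_vi, T_ci, T_bi, T_c, T_c, T_b, T_ai] M (Nat.sub (T_bi u) (Nat.mod (T_bi u) M)) (Nat.mod (T_bi u) M) u) (Nat.ble (nat_lit 52) j)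
noncomputable def dp_bi_39 (j u : ℕ) : Bool :=
  Bool.rec (motive := fun _ => Bool) (dp_bi_37 j u) (dp_bi_38 j u) (Nat.ble (nat_lit 51) j)
noncomputable def dp_bi_40 (j u : ℕ) : Bool :=
  Bool.rec (motive := fun _ => Bool) (dp_bi_36 j u) (dp_bi_39 j u) (Nat.ble (nat_lit 49) j)
noncomputable def dp_bi_41 (j u : ℕ) : Bool :=
  Bool.rec (motive := fun _ => Bool) (lF [T_c, T_b, T_c, T_wi, T_wi, T_bi, T_ci, T_b, T_ci] M (Nat.sub (T_bi u) (Nat.mod (T_bi u) M)) (Nat.mod (T_bi u) M) u) (lS MG [T_ci, T_e, T_c, T_e, T_c, T_bi] M (Nat.sub (T_bi u) (Nat.mod (T_bi u) M)) (nat_lit 40) (Nat.mod (T_bi u) M) u) (Nat.ble (nat_lit 54) j)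
noncomputable def dp_bi_42 (j u : ℕ) : Bool :=
  Bool.rec (motive := fun _ => Bool) (lF [T_ci, T_b, T_vi, T_vi, T_e, T_bi, T_e, T_c] M (Nat.sub (T_bi u) (Nat.mod (T_bi u) M)) (Nat.mod (T_bi u) M) u) (lS MG [T_ci, T_b, T_e, T_b, T_b, T_a, T_u, T_ci, T_vi, T_ai, T_e] M (Nat.sub (T_bi u) (Nat.mod (T_bi u) M)) (nat_lit 40) (Nat.mod (T_bi u) M) u) (Nat.ble (nat_lit 56) j)
noncomputable def dp_bi_43 (j u : ℕ) : Bool :=
  Bool.rec (motive := fun _ => Bool) (dp_bi_41 j u) (dp_bi_42 j u) (Nat.ble (nat_lit 55) j)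
noncomputable def dp_bi_44 (j u : ℕ) : Bool :=
  Bool.rec (motive := fun _ => Bool) (lS MG [T_c, T_b, T_wi, T_vi, T_bi, T_ci, T_b, T_v] M (Nat.sub (T_bi u) (Nat.mod (T_bi u) M)) (nat_lit 40) (Nat.mod (T_bi u) M) u) (lF [T_e, T_bi, T_c, T_b, T_e, T_a, T_v, T_c, T_ui, T_ai, T_bi] M (Nat.sub (T_bi u) (Nat.mod (T_bi u) M)) (Nat.mod (T_bi u) M) u) (Nat.ble (nat_lit 58) j)
noncomputable def dp_bi_45 (j u : ℕ) : Bool :=
  Bool.rec (motive := fun _ => Bool) (lS MG [T_e, T_c, T_bi, T_ci, T_b, T_vi, T_vi, T_e] M (Nat.sub (T_bi u) (Nat.mod (T_bi u) M)) (nat_lit 40) (Nat.mod (T_bi u) M) u) (lS MG [T_c, T_b, T_a, T_vi, T_ci, T_bi, T_c, T_c, T_b, T_ai] M (Nat.sub (T_bi u) (Nat.mod (T_bi u) M)) (nat_lit 40) (Nat.mod (T_bi u) M) u) (Nat.ble (nat_lit 60) j)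
noncomputable def dp_bi_46 (j u : ℕ) : Bool :=
  Bool.rec (motive := fun _ => Bool) (dp_bi_44 j u) (dp_bi_45 j u) (Nat.ble (nat_lit 59) j)
noncomputable def dp_bi_47 (j u : ℕ) : Bool :=
  Bool.rec (motive := fun _ => Bool) (dp_bi_43 j u) (dp_bi_46 j u) (Nat.ble (nat_lit 57) j)
noncomputable def dp_bi_48 (j u : ℕ) : Bool :=
  Bool.rec (motive := fun _ => Bool) (dp_bi_40 j u) (dp_bi_47 j u) (Nat.ble (nat_lit 53) j)
noncomputable def dp_bi_49 (j u : ℕ) : Bool :=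
  Bool.rec (motive := fun _ => Bool) (dp_bi_33 j u) (dp_bi_48 j u) (Nat.ble (nat_lit 45) j)
noncomputable def dp_bi_50 (j u : ℕ) : Bool :=
  Bool.rec (motive := fun _ => Bool) (dp_bi_25 j u) (dp_bi_49 j u) (Nat.ble (nat_lit 36) j)
noncomputable def dp_bi_51 (j u : ℕ) : Bool :=
  Bool.rec (motive := fun _ => Bool) (dp_bi_17 j u) (dp_bi_50 j u) (Nat.ble (nat_lit 27) j)
noncomputable def dp_bi_52 (j u : ℕ) : Bool :=
  Bool.rec (motive := fun _ => Bool) (dp_bi_9 j u) (dp_bi_51 j u) (Nat.ble (nat_lit 18) j)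
noncomputable def dp_bi_53 (j u : ℕ) : Bool :=
  Bool.rec (motive := fun _ => Bool) (dp_bi_3 j u) (dp_bi_52 j u) (Nat.ble (nat_lit 11) j)
noncomputable def dp_bi_54 (j u : ℕ) : Bool :=
  Bool.rec (motive := fun _ => Bool) (Bool.rec (motive := fun _ => Bool) (lDef P (nat_lit 3) (Nat.mod (T_bi u) M) u) (dp_bi_1 j u) (Nat.ble (nat_lit 6) j)) (dp_bi_53 j u) (Nat.ble (nat_lit 8) j)
noncomputable def dp_bi_55 (j u : ℕ) : Bool :=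
  Bool.rec (motive := fun _ => Bool) (Bool.rec (motive := fun _ => Bool) (lF3 T_w T_b T_wi M (Nat.sub (T_bi u) (Nat.mod (T_bi u) M)) (Nat.mod (T_bi u) M) u) (dp_bi_0 j u) (Nat.ble (nat_lit 3) j)) (dp_bi_54 j u) (Nat.ble (nat_lit 5) j)
noncomputable def disp_bi (j u : ℕ) : Bool :=
  Bool.rec (motive := fun _ => Bool) (Bool.rec (motive := fun _ => Bool) (lF1 T_b M (Nat.sub (T_bi u) (Nat.mod (T_bi u) M)) (Nat.mod (T_bi u) M) u) (lF3 T_wi T_b T_w M (Nat.sub (T_bi u) (Nat.mod (T_bi u) M)) (Nat.mod (T_bi u) M) u) (Nat.ble (nat_lit 1) j)) (dp_bi_55 j u) (Nat.ble (nat_lit 2) j)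
noncomputable def chk_bi (j u : ℕ) : Bool :=
  Bool.rec (motive := fun _ => Bool) (disp_bi j u) (Nat.ble (Nat.succ (MG u)) A) (Nat.ble A (T_bi u))
noncomputable def dp_c_0 (j u : ℕ) : Bool :=
  Bool.rec (motive := fun _ => Bool) (lF3 T_bi T_vi T_b M (Nat.sub (T_c u) (Nat.mod (T_c u) M)) (Nat.mod (T_c u) M) u) (lF3 T_a T_ui T_ai M (Nat.sub (T_c u) (Nat.mod (T_c u) M)) (Nat.mod (T_c u) M) u) (Nat.ble (nat_lit 6) j)
noncomputable def dp_c_1 (j u : ℕ) : Bool :=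
  Bool.rec (motive := fun _ => Bool) (lF [T_e, T_c, T_bi, T_bi, T_ci, T_e] M (Nat.sub (T_c u) (Nat.mod (T_c u) M)) (Nat.mod (T_c u) M) u) (lF [T_w, T_ui, T_ci, T_u] M (Nat.sub (T_c u) (Nat.mod (T_c u) M)) (Nat.mod (T_c u) M) u) (Nat.ble (nat_lit 10) j)
noncomputable def dp_c_2 (j u : ℕ) : Bool :=
  Bool.rec (motive := fun _ => Bool) (lF [T_u, T_wi, T_ci, T_ui] M (Nat.sub (T_c u) (Nat.mod (T_c u) M)) (Nat.mod (T_c u) M) u) (dp_c_1 j u) (Nat.ble (nat_lit 9) j)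
noncomputable def dp_c_3 (j u : ℕ) : Bool :=
  Bool.rec (motive := fun _ => Bool) (lS MG [T_ci] M (Nat.sub (T_c u) (Nat.mod (T_c u) M)) (nat_lit 40) (Nat.mod (T_c u) M) u) (dp_c_2 j u) (Nat.ble (nat_lit 8) j)
noncomputable def dp_c_4 (j u : ℕ) : Bool :=
  Bool.rec (motive := fun _ => Bool) (lF [T_c, T_c, T_c, T_c] M (Nat.sub (T_c u) (Nat.mod (T_c u) M)) (Nat.mod (T_c u) M) u) (lF [T_ai, T_u, T_a, T_c] M (Nat.sub (T_c u) (Nat.mod (T_c u) M)) (Nat.mod (T_c u) M) u) (Nat.ble (nat_lit 12) j)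
noncomputable def dp_c_5 (j u : ℕ) : Bool :=
  Bool.rec (motive := fun _ => Bool) (lF [T_c, T_ai, T_u, T_a] M (Nat.sub (T_c u) (Nat.mod (T_c u) M)) (Nat.mod (T_c u) M) u) (lF [T_v, T_wi, T_wi, T_ci, T_vi] M (Nat.sub (T_c u) (Nat.mod (T_c u) M)) (Nat.mod (T_c u) M) u) (Nat.ble (nat_lit 14) j)
noncomputable def dp_c_6 (j u : ℕ) : Bool :=
  Bool.rec (motive := fun _ => Bool) (dp_c_4 j u) (dp_c_5 j u) (Nat.ble (nat_lit 13) j)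
noncomputable def dp_c_7 (j u : ℕ) : Bool :=
  Bool.rec (motive := fun _ => Bool) (lF [T_b, T_b, T_ci, T_e, T_ci, T_e] M (Nat.sub (T_c u) (Nat.mod (T_c u) M)) (Nat.mod (T_c u) M) u) (lS MG [T_wi, T_ci, T_w] M (Nat.sub (T_c u) (Nat.mod (T_c u) M)) (nat_lit 40) (Nat.mod (T_c u) M) u) (Nat.ble (nat_lit 16) j)
noncomputable def dp_c_8 (j u : ℕ) : Bool :=
  Bool.rec (motive := fun _ => Bool) (lF [T_bi, T_bi, T_ci, T_e, T_c, T_e] M (Nat.sub (T_c u) (Nat.mod (T_c u) M)) (Nat.mod (T_c u) M) u) (lS MG [T_a, T_ui, T_ai] M (Nat.sub (T_c u) (Nat.mod (T_c u) M)) (nat_lit 40) (Nat.mod (T_c u) M) u) (Nat.ble (nat_lit 19) j)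
noncomputable def dp_c_9 (j u : ℕ) : Bool :=
  Bool.rec (motive := fun _ => Bool) (lS MG [T_w, T_ci, T_wi] M (Nat.sub (T_c u) (Nat.mod (T_c u) M)) (nat_lit 40) (Nat.mod (T_c u) M) u) (dp_c_8 j u) (Nat.ble (nat_lit 18) j)
noncomputable def dp_c_10 (j u : ℕ) : Bool :=
  Bool.rec (motive := fun _ => Bool) (dp_c_7 j u) (dp_c_9 j u) (Nat.ble (nat_lit 17) j)
noncomputable def dp_c_11 (j u : ℕ) : Bool :=
  Bool.rec (motive := fun _ => Bool) (lS MG [T_bi, T_vi, T_b] M (Nat.sub (T_c u) (Nat.mod (T_c u) M)) (nat_lit 40) (Nat.mod (T_c u) M) u) (lF [T_w, T_w, T_vi, T_ci, T_v] M (Nat.sub (T_c u) (Nat.mod (T_c u) M)) (Nat.mod (T_c u) M) u) (Nat.ble (nat_lit 21) j)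
noncomputable def dp_c_12 (j u : ℕ) : Bool :=
  Bool.rec (motive := fun _ => Bool) (lS MG [T_bi, T_bi, T_ci, T_e, T_c, T_e] M (Nat.sub (T_c u) (Nat.mod (T_c u) M)) (nat_lit 40) (Nat.mod (T_c u) M) u) (lF [T_bi, T_ci, T_b, T_c, T_vi, T_e, T_wi, T_e] M (Nat.sub (T_c u) (Nat.mod (T_c u) M)) (Nat.mod (T_c u) M) u) (Nat.ble (nat_lit 23) j)
noncomputable def dp_c_13 (j u : ℕ) : Bool :=
  Bool.rec (motive := fun _ => Bool) (lF [T_b, T_u, T_wi, T_bi, T_ci, T_b, T_ui, T_bi] M (Nat.sub (T_c u) (Nat.mod (T_c u) M)) (Nat.mod (T_c u) M) u) (lF [T_b, T_v, T_w, T_bi, T_ci, T_b, T_vi, T_bi] M (Nat.sub (T_c u) (Nat.mod (T_c u) M)) (Nat.mod (T_c u) M) u) (Nat.ble (nat_lit 25) j)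
noncomputable def dp_c_14 (j u : ℕ) : Bool :=
  Bool.rec (motive := fun _ => Bool) (dp_c_12 j u) (dp_c_13 j u) (Nat.ble (nat_lit 24) j)
noncomputable def dp_c_15 (j u : ℕ) : Bool :=
  Bool.rec (motive := fun _ => Bool) (dp_c_11 j u) (dp_c_14 j u) (Nat.ble (nat_lit 22) j)
noncomputable def dp_c_16 (j u : ℕ) : Bool :=
  Bool.rec (motive := fun _ => Bool) (lF [T_vi, T_e, T_wi, T_e, T_c, T_bi, T_ci, T_b] M (Nat.sub (T_c u) (Nat.mod (T_c u) M)) (Nat.mod (T_c u) M) u) (lF [T_bi, T_e, T_v, T_e, T_vi, T_bi] M (Nat.sub (T_c u) (Nat.mod (T_c u) M)) (Nat.mod (T_c u) M) u) (Nat.ble (nat_lit 27) j)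
noncomputable def dp_c_17 (j u : ℕ) : Bool :=
  Bool.rec (motive := fun _ => Bool) (lS MG [T_e, T_c, T_bi, T_bi, T_ci, T_e] M (Nat.sub (T_c u) (Nat.mod (T_c u) M)) (nat_lit 40) (Nat.mod (T_c u) M) u) (lF [T_b, T_vi, T_ci, T_ci, T_bi, T_bi, T_c, T_b, T_c] M (Nat.sub (T_c u) (Nat.mod (T_c u) M)) (Nat.mod (T_c u) M) u) (Nat.ble (nat_lit 29) j)
noncomputable def dp_c_18 (j u : ℕ) : Bool :=
  Bool.rec (motive := fun _ => Bool) (dp_c_16 j u) (dp_c_17 j u) (Nat.ble (nat_lit 28) j)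
noncomputable def dp_c_19 (j u : ℕ) : Bool :=
  Bool.rec (motive := fun _ => Bool) (lF [T_b, T_wi, T_vi, T_bi, T_ci, T_b, T_v, T_bi] M (Nat.sub (T_c u) (Nat.mod (T_c u) M)) (Nat.mod (T_c u) M) u) (lS MG [T_u, T_wi, T_ci, T_ui] M (Nat.sub (T_c u) (Nat.mod (T_c u) M)) (nat_lit 40) (Nat.mod (T_c u) M) u) (Nat.ble (nat_lit 31) j)
noncomputable def dp_c_20 (j u : ℕ) : Bool :=
  Bool.rec (motive := fun _ => Bool) (lF [T_b, T_w, T_ui, T_bi, T_ci, T_b, T_u, T_bi] M (Nat.sub (T_c u) (Nat.mod (T_c u) M)) (Nat.mod (T_c u) M) u) (lF [T_bi, T_ci, T_b, T_vi, T_vi, T_e, T_bi, T_e] M (Nat.sub (T_c u) (Nat.mod (T_c u) M)) (Nat.mod (T_c u) M) u) (Nat.ble (nat_lit 33) j)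
noncomputable def dp_c_21 (j u : ℕ) : Bool :=
  Bool.rec (motive := fun _ => Bool) (dp_c_19 j u) (dp_c_20 j u) (Nat.ble (nat_lit 32) j)
noncomputable def dp_c_22 (j u : ℕ) : Bool :=
  Bool.rec (motive := fun _ => Bool) (dp_c_18 j u) (dp_c_21 j u) (Nat.ble (nat_lit 30) j)
noncomputable def dp_c_23 (j u : ℕ) : Bool :=
  Bool.rec (motive := fun _ => Bool) (lF [T_v, T_ai, T_vi, T_a, T_c, T_ui, T_bi, T_ci, T_b, T_v] M (Nat.sub (T_c u) (Nat.mod (T_c u) M)) (Nat.mod (T_c u) M) u) (lF [T_ui, T_bi, T_ci, T_b, T_v, T_c, T_v, T_ai, T_vi, T_a] M (Nat.sub (T_c u) (Nat.mod (T_c u) M)) (Nat.mod (T_c u) M) u) (Nat.ble (nat_lit 35) j)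
noncomputable def dp_c_24 (j u : ℕ) : Bool :=
  Bool.rec (motive := fun _ => Bool) (lH [] [] M (Nat.sub (T_c u) (Nat.mod (T_c u) M)) (Nat.mod (T_c u) M) u) (lF [T_w, T_vi, T_e, T_ai, T_b, T_ai, T_bi, T_bi, T_ai, T_e, T_a, T_a] M (Nat.sub (T_c u) (Nat.mod (T_c u) M)) (Nat.mod (T_c u) M) u) (Nat.ble (nat_lit 37) j)
noncomputable def dp_c_25 (j u : ℕ) : Bool :=
  Bool.rec (motive := fun _ => Bool) (lS MG [T_ai, T_u, T_a, T_c] M (Nat.sub (T_c u) (Nat.mod (T_c u) M)) (nat_lit 40) (Nat.mod (T_c u) M) u) (lS MG [T_c, T_v, T_bi, T_ci, T_ci, T_bi, T_ci, T_b, T_b] M (Nat.sub (T_c u) (Nat.mod (T_c u) M)) (nat_lit 40) (Nat.mod (T_c u) M) u) (Nat.ble (nat_lit 39) j)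
noncomputable def dp_c_26 (j u : ℕ) : Bool :=
  Bool.rec (motive := fun _ => Bool) (dp_c_24 j u) (dp_c_25 j u) (Nat.ble (nat_lit 38) j)
noncomputable def dp_c_27 (j u : ℕ) : Bool :=
  Bool.rec (motive := fun _ => Bool) (dp_c_23 j u) (dp_c_26 j u) (Nat.ble (nat_lit 36) j)
noncomputable def dp_c_28 (j u : ℕ) : Bool :=
  Bool.rec (motive := fun _ => Bool) (lS MG [T_v, T_wi, T_wi, T_ci, T_vi] M (Nat.sub (T_c u) (Nat.mod (T_c u) M)) (nat_lit 40) (Nat.mod (T_c u) M) u) (lF [T_b, T_ci, T_e, T_b, T_e, T_v, T_v, T_bi] M (Nat.sub (T_c u) (Nat.mod (T_c u) M)) (Nat.mod (T_c u) M) u) (Nat.ble (nat_lit 41) j)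
noncomputable def dp_c_29 (j u : ℕ) : Bool :=
  Bool.rec (motive := fun _ => Bool) (lF [T_b, T_ci, T_e, T_w, T_e, T_v, T_ci, T_bi] M (Nat.sub (T_c u) (Nat.mod (T_c u) M)) (Nat.mod (T_c u) M) u) (lS MG [T_b, T_c, T_c, T_b, T_vi, T_ci, T_ci, T_bi, T_bi] M (Nat.sub (T_c u) (Nat.mod (T_c u) M)) (nat_lit 40) (Nat.mod (T_c u) M) u) (Nat.ble (nat_lit 43) j)
noncomputable def dp_c_30 (j u : ℕ) : Bool :=
  Bool.rec (motive := fun _ => Bool) (dp_c_28 j u) (dp_c_29 j u) (Nat.ble (nat_lit 42) j)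
noncomputable def dp_c_31 (j u : ℕ) : Bool :=
  Bool.rec (motive := fun _ => Bool) (lF [T_v, T_bi, T_ci, T_b, T_ui, T_bi, T_u, T_b, T_v] M (Nat.sub (T_c u) (Nat.mod (T_c u) M)) (Nat.mod (T_c u) M) u) (lS MG [T_ui, T_bi, T_ci, T_b, T_v, T_c, T_v, T_ai, T_vi, T_a] M (Nat.sub (T_c u) (Nat.mod (T_c u) M)) (nat_lit 40) (Nat.mod (T_c u) M) u) (Nat.ble (nat_lit 45) j)
noncomputable def dp_c_32 (j u : ℕ) : Bool :=
  Bool.rec (motive := fun _ => Bool) (lF [T_bi, T_c, T_b, T_w, T_w, T_ci, T_bi, T_ci, T_b] M (Nat.sub (T_c u) (Nat.mod (T_c u) M)) (Nat.mod (T_c u) M) u) (lS MG [T_b, T_b, T_ci, T_e, T_ci, T_e] M (Nat.sub (T_c u) (Nat.mod (T_c u) M)) (nat_lit 40) (Nat.mod (T_c u) M) u) (Nat.ble (nat_lit 48) j)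
noncomputable def dp_c_33 (j u : ℕ) : Bool :=
  Bool.rec (motive := fun _ => Bool) (lS MG [T_w, T_ui, T_ci, T_u] M (Nat.sub (T_c u) (Nat.mod (T_c u) M)) (nat_lit 40) (Nat.mod (T_c u) M) u) (dp_c_32 j u) (Nat.ble (nat_lit 47) j)
noncomputable def dp_c_34 (j u : ℕ) : Bool :=
  Bool.rec (motive := fun _ => Bool) (dp_c_31 j u) (dp_c_33 j u) (Nat.ble (nat_lit 46) j)
noncomputable def dp_c_35 (j u : ℕ) : Bool :=
  Bool.rec (motive := fun _ => Bool) (dp_c_30 j u) (dp_c_34 j u) (Nat.ble (nat_lit 44) j)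
noncomputable def dp_c_36 (j u : ℕ) : Bool :=
  Bool.rec (motive := fun _ => Bool) (dp_c_27 j u) (dp_c_35 j u) (Nat.ble (nat_lit 40) j)
noncomputable def dp_c_37 (j u : ℕ) : Bool :=
  Bool.rec (motive := fun _ => Bool) (dp_c_22 j u) (dp_c_36 j u) (Nat.ble (nat_lit 34) j)
noncomputable def dp_c_38 (j u : ℕ) : Bool :=
  Bool.rec (motive := fun _ => Bool) (dp_c_15 j u) (dp_c_37 j u) (Nat.ble (nat_lit 26) j)
noncomputable def dp_c_39 (j u : ℕ) : Bool :=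
  Bool.rec (motive := fun _ => Bool) (dp_c_10 j u) (dp_c_38 j u) (Nat.ble (nat_lit 20) j)
noncomputable def dp_c_40 (j u : ℕ) : Bool :=
  Bool.rec (motive := fun _ => Bool) (dp_c_6 j u) (dp_c_39 j u) (Nat.ble (nat_lit 15) j)
noncomputable def dp_c_41 (j u : ℕ) : Bool :=
  Bool.rec (motive := fun _ => Bool) (dp_c_3 j u) (dp_c_40 j u) (Nat.ble (nat_lit 11) j)
noncomputable def dp_c_42 (j u : ℕ) : Bool :=
  Bool.rec (motive := fun _ => Bool) (dp_c_0 j u) (dp_c_41 j u) (Nat.ble (nat_lit 7) j)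
noncomputable def dp_c_43 (j u : ℕ) : Bool :=
  Bool.rec (motive := fun _ => Bool) (Bool.rec (motive := fun _ => Bool) (lF3 T_w T_ci T_wi M (Nat.sub (T_c u) (Nat.mod (T_c u) M)) (Nat.mod (T_c u) M) u) (Bool.rec (motive := fun _ => Bool) (lDef P (nat_lit 4) (Nat.mod (T_c u) M) u) (lDef P (nat_lit 5) u (Nat.mod (T_c u) M)) (Nat.ble (nat_lit 4) j)) (Nat.ble (nat_lit 3) j)) (dp_c_42 j u) (Nat.ble (nat_lit 5) j)
noncomputable def disp_c (j u : ℕ) : Bool :=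
  Bool.rec (motive := fun _ => Bool) (Bool.rec (motive := fun _ => Bool) (lF1 T_ci M (Nat.sub (T_c u) (Nat.mod (T_c u) M)) (Nat.mod (T_c u) M) u) (lF3 T_wi T_ci T_w M (Nat.sub (T_c u) (Nat.mod (T_c u) M)) (Nat.mod (T_c u) M) u) (Nat.ble (nat_lit 1) j)) (dp_c_43 j u) (Nat.ble (nat_lit 2) j)
noncomputable def chk_c (j u : ℕ) : Bool :=
  Bool.rec (motive := fun _ => Bool) (disp_c j u) (Nat.ble (Nat.succ (MG u)) A) (Nat.ble A (T_c u))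
noncomputable def dp_ci_0 (j u : ℕ) : Bool :=
  Bool.rec (motive := fun _ => Bool) (lF3 T_bi T_v T_b M (Nat.sub (T_ci u) (Nat.mod (T_ci u) M)) (Nat.mod (T_ci u) M) u) (lF3 T_a T_u T_ai M (Nat.sub (T_ci u) (Nat.mod (T_ci u) M)) (Nat.mod (T_ci u) M) u) (Nat.ble (nat_lit 6) j)
noncomputable def dp_ci_1 (j u : ℕ) : Bool :=
  Bool.rec (motive := fun _ => Bool) (lF [T_ai, T_ui, T_a, T_ci] M (Nat.sub (T_ci u) (Nat.mod (T_ci u) M)) (Nat.mod (T_ci u) M) u) (lF [T_e, T_c, T_b, T_b, T_ci, T_e] M (Nat.sub (T_ci u) (Nat.mod (T_ci u) M)) (Nat.mod (T_ci u) M) u) (Nat.ble (nat_lit 10) j)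
noncomputable def dp_ci_2 (j u : ℕ) : Bool :=
  Bool.rec (motive := fun _ => Bool) (lF [T_u, T_c, T_w, T_ui] M (Nat.sub (T_ci u) (Nat.mod (T_ci u) M)) (Nat.mod (T_ci u) M) u) (dp_ci_1 j u) (Nat.ble (nat_lit 9) j)
noncomputable def dp_ci_3 (j u : ℕ) : Bool :=
  Bool.rec (motive := fun _ => Bool) (lS MG [T_c] M (Nat.sub (T_ci u) (Nat.mod (T_ci u) M)) (nat_lit 40) (Nat.mod (T_ci u) M) u) (dp_ci_2 j u) (Nat.ble (nat_lit 8) j)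
noncomputable def dp_ci_4 (j u : ℕ) : Bool :=
  Bool.rec (motive := fun _ => Bool) (lF [T_ci, T_ai, T_ui, T_a] M (Nat.sub (T_ci u) (Nat.mod (T_ci u) M)) (Nat.mod (T_ci u) M) u) (lF [T_ci, T_ci, T_ci, T_ci] M (Nat.sub (T_ci u) (Nat.mod (T_ci u) M)) (Nat.mod (T_ci u) M) u) (Nat.ble (nat_lit 13) j)
noncomputable def dp_ci_5 (j u : ℕ) : Bool :=
  Bool.rec (motive := fun _ => Bool) (lF [T_ui, T_c, T_u, T_wi] M (Nat.sub (T_ci u) (Nat.mod (T_ci u) M)) (Nat.mod (T_ci u) M) u) (dp_ci_4 j u) (Nat.ble (nat_lit 12) j)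
noncomputable def dp_ci_6 (j u : ℕ) : Bool :=
  Bool.rec (motive := fun _ => Bool) (lF [T_v, T_c, T_w, T_w, T_vi] M (Nat.sub (T_ci u) (Nat.mod (T_ci u) M)) (Nat.mod (T_ci u) M) u) (lF [T_e, T_c, T_e, T_c, T_bi, T_bi] M (Nat.sub (T_ci u) (Nat.mod (T_ci u) M)) (Nat.mod (T_ci u) M) u) (Nat.ble (nat_lit 16) j)
noncomputable def dp_ci_7 (j u : ℕ) : Bool :=
  Bool.rec (motive := fun _ => Bool) (lF [T_e, T_ci, T_e, T_c, T_b, T_b] M (Nat.sub (T_ci u) (Nat.mod (T_ci u) M)) (Nat.mod (T_ci u) M) u) (dp_ci_6 j u) (Nat.ble (nat_lit 15) j)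
noncomputable def dp_ci_8 (j u : ℕ) : Bool :=
  Bool.rec (motive := fun _ => Bool) (dp_ci_5 j u) (dp_ci_7 j u) (Nat.ble (nat_lit 14) j)
noncomputable def dp_ci_9 (j u : ℕ) : Bool :=
  Bool.rec (motive := fun _ => Bool) (lS MG [T_wi, T_c, T_w] M (Nat.sub (T_ci u) (Nat.mod (T_ci u) M)) (nat_lit 40) (Nat.mod (T_ci u) M) u) (lS MG [T_a, T_u, T_ai] M (Nat.sub (T_ci u) (Nat.mod (T_ci u) M)) (nat_lit 40) (Nat.mod (T_ci u) M) u) (Nat.ble (nat_lit 18) j)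
noncomputable def dp_ci_10 (j u : ℕ) : Bool :=
  Bool.rec (motive := fun _ => Bool) (lS MG [T_bi, T_v, T_b] M (Nat.sub (T_ci u) (Nat.mod (T_ci u) M)) (nat_lit 40) (Nat.mod (T_ci u) M) u) (lS MG [T_e, T_c, T_b, T_b, T_ci, T_e] M (Nat.sub (T_ci u) (Nat.mod (T_ci u) M)) (nat_lit 40) (Nat.mod (T_ci u) M) u) (Nat.ble (nat_lit 21) j)
noncomputable def dp_ci_11 (j u : ℕ) : Bool :=
  Bool.rec (motive := fun _ => Bool) (lS MG [T_w, T_c, T_wi] M (Nat.sub (T_ci u) (Nat.mod (T_ci u) M)) (nat_lit 40) (Nat.mod (T_ci u) M) u) (dp_ci_10 j u) (Nat.ble (nat_lit 20) j)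
noncomputable def dp_ci_12 (j u : ℕ) : Bool :=
  Bool.rec (motive := fun _ => Bool) (dp_ci_9 j u) (dp_ci_11 j u) (Nat.ble (nat_lit 19) j)
noncomputable def dp_ci_13 (j u : ℕ) : Bool :=
  Bool.rec (motive := fun _ => Bool) (lF [T_vi, T_c, T_v, T_wi, T_wi] M (Nat.sub (T_ci u) (Nat.mod (T_ci u) M)) (Nat.mod (T_ci u) M) u) (lF [T_b, T_v, T_e, T_vi, T_e, T_b] M (Nat.sub (T_ci u) (Nat.mod (T_ci u) M)) (Nat.mod (T_ci u) M) u) (Nat.ble (nat_lit 23) j)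
noncomputable def dp_ci_14 (j u : ℕ) : Bool :=
  Bool.rec (motive := fun _ => Bool) (lS MG [T_ai, T_ui, T_a, T_ci] M (Nat.sub (T_ci u) (Nat.mod (T_ci u) M)) (nat_lit 40) (Nat.mod (T_ci u) M) u) (lF [T_b, T_u, T_bi, T_c, T_b, T_w, T_ui, T_bi] M (Nat.sub (T_ci u) (Nat.mod (T_ci u) M)) (Nat.mod (T_ci u) M) u) (Nat.ble (nat_lit 25) j)
noncomputable def dp_ci_15 (j u : ℕ) : Bool :=
  Bool.rec (motive := fun _ => Bool) (lF [T_b, T_v, T_c, T_v, T_ai, T_vi, T_a, T_c, T_ui, T_bi] M (Nat.sub (T_ci u) (Nat.mod (T_ci u) M)) (Nat.mod (T_ci u) M) u) (lS MG [T_u, T_c, T_w, T_ui] M (Nat.sub (T_ci u) (Nat.mod (T_ci u) M)) (nat_lit 40) (Nat.mod (T_ci u) M) u) (Nat.ble (nat_lit 28) j)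
noncomputable def dp_ci_16 (j u : ℕ) : Bool :=
  Bool.rec (motive := fun _ => Bool) (lF [T_b, T_ui, T_bi, T_c, T_b, T_u, T_wi, T_bi] M (Nat.sub (T_ci u) (Nat.mod (T_ci u) M)) (Nat.mod (T_ci u) M) u) (dp_ci_15 j u) (Nat.ble (nat_lit 27) j)
noncomputable def dp_ci_17 (j u : ℕ) : Bool :=
  Bool.rec (motive := fun _ => Bool) (dp_ci_14 j u) (dp_ci_16 j u) (Nat.ble (nat_lit 26) j)
noncomputable def dp_ci_18 (j u : ℕ) : Bool :=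
  Bool.rec (motive := fun _ => Bool) (dp_ci_13 j u) (dp_ci_17 j u) (Nat.ble (nat_lit 24) j)
noncomputable def dp_ci_19 (j u : ℕ) : Bool :=
  Bool.rec (motive := fun _ => Bool) (lF [T_b, T_vi, T_vi, T_e, T_bi, T_e, T_c, T_bi] M (Nat.sub (T_ci u) (Nat.mod (T_ci u) M)) (Nat.mod (T_ci u) M) u) (lF [T_b, T_v, T_bi, T_c, T_b, T_wi, T_vi, T_bi] M (Nat.sub (T_ci u) (Nat.mod (T_ci u) M)) (Nat.mod (T_ci u) M) u) (Nat.ble (nat_lit 31) j)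
noncomputable def dp_ci_20 (j u : ℕ) : Bool :=
  Bool.rec (motive := fun _ => Bool) (lF [T_b, T_c, T_bi, T_c, T_b, T_w, T_w, T_ci, T_bi] M (Nat.sub (T_ci u) (Nat.mod (T_ci u) M)) (Nat.mod (T_ci u) M) u) (dp_ci_19 j u) (Nat.ble (nat_lit 30) j)
noncomputable def dp_ci_21 (j u : ℕ) : Bool :=
  Bool.rec (motive := fun _ => Bool) (lS MG [T_b, T_v, T_e, T_vi, T_e, T_b] M (Nat.sub (T_ci u) (Nat.mod (T_ci u) M)) (nat_lit 40) (Nat.mod (T_ci u) M) u) (lF [T_b, T_c, T_vi, T_e, T_wi, T_e, T_c, T_bi] M (Nat.sub (T_ci u) (Nat.mod (T_ci u) M)) (Nat.mod (T_ci u) M) u) (Nat.ble (nat_lit 33) j)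
noncomputable def dp_ci_22 (j u : ℕ) : Bool :=
  Bool.rec (motive := fun _ => Bool) (lF [T_ci, T_bi, T_bi, T_c, T_b, T_c, T_c, T_b, T_vi] M (Nat.sub (T_ci u) (Nat.mod (T_ci u) M)) (Nat.mod (T_ci u) M) u) (lS MG [T_e, T_c, T_e, T_c, T_bi, T_bi] M (Nat.sub (T_ci u) (Nat.mod (T_ci u) M)) (nat_lit 40) (Nat.mod (T_ci u) M) u) (Nat.ble (nat_lit 36) j)
noncomputable def dp_ci_23 (j u : ℕ) : Bool :=
  Bool.rec (motive := fun _ => Bool) (lF [T_bi, T_ci, T_b, T_b, T_c, T_c, T_v, T_bi, T_ci] M (Nat.sub (T_ci u) (Nat.mod (T_ci u) M)) (Nat.mod (T_ci u) M) u) (dp_ci_22 j u) (Nat.ble (nat_lit 35) j)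
noncomputable def dp_ci_24 (j u : ℕ) : Bool :=
  Bool.rec (motive := fun _ => Bool) (dp_ci_21 j u) (dp_ci_23 j u) (Nat.ble (nat_lit 34) j)
noncomputable def dp_ci_25 (j u : ℕ) : Bool :=
  Bool.rec (motive := fun _ => Bool) (dp_ci_20 j u) (dp_ci_24 j u) (Nat.ble (nat_lit 32) j)
noncomputable def dp_ci_26 (j u : ℕ) : Bool :=
  Bool.rec (motive := fun _ => Bool) (lF [T_ai, T_v, T_a, T_vi, T_ci, T_vi, T_bi, T_c, T_b, T_u] M (Nat.sub (T_ci u) (Nat.mod (T_ci u) M)) (Nat.mod (T_ci u) M) u) (lS MG [T_ui, T_c, T_u, T_wi] M (Nat.sub (T_ci u) (Nat.mod (T_ci u) M)) (nat_lit 40) (Nat.mod (T_ci u) M) u) (Nat.ble (nat_lit 39) j)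
noncomputable def dp_ci_27 (j u : ℕ) : Bool :=
  Bool.rec (motive := fun _ => Bool) (lF [T_b, T_b, T_c, T_c, T_v, T_bi, T_ci, T_ci, T_bi] M (Nat.sub (T_ci u) (Nat.mod (T_ci u) M)) (Nat.mod (T_ci u) M) u) (dp_ci_26 j u) (Nat.ble (nat_lit 38) j)
noncomputable def dp_ci_28 (j u : ℕ) : Bool :=
  Bool.rec (motive := fun _ => Bool) (lF [T_bi, T_c, T_b, T_ci, T_e, T_w, T_e, T_v] M (Nat.sub (T_ci u) (Nat.mod (T_ci u) M)) (Nat.mod (T_ci u) M) u) (lF [T_bi, T_c, T_b, T_c, T_wi, T_wi, T_bi, T_ci, T_b] M (Nat.sub (T_ci u) (Nat.mod (T_ci u) M)) (Nat.mod (T_ci u) M) u) (Nat.ble (nat_lit 42) j)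
noncomputable def dp_ci_29 (j u : ℕ) : Bool :=
  Bool.rec (motive := fun _ => Bool) (lF [T_vi, T_bi, T_ui, T_b, T_u, T_bi, T_c, T_b, T_vi] M (Nat.sub (T_ci u) (Nat.mod (T_ci u) M)) (Nat.mod (T_ci u) M) u) (dp_ci_28 j u) (Nat.ble (nat_lit 41) j)
noncomputable def dp_ci_30 (j u : ℕ) : Bool :=
  Bool.rec (motive := fun _ => Bool) (dp_ci_27 j u) (dp_ci_29 j u) (Nat.ble (nat_lit 40) j)
noncomputable def dp_ci_31 (j u : ℕ) : Bool :=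
  Bool.rec (motive := fun _ => Bool) (lF [T_ci, T_bi, T_ci, T_b, T_b, T_c, T_c, T_v, T_bi] M (Nat.sub (T_ci u) (Nat.mod (T_ci u) M)) (Nat.mod (T_ci u) M) u) (lF [T_e, T_w, T_e, T_v, T_ci, T_bi, T_c, T_b] M (Nat.sub (T_ci u) (Nat.mod (T_ci u) M)) (Nat.mod (T_ci u) M) u) (Nat.ble (nat_lit 45) j)
noncomputable def dp_ci_32 (j u : ℕ) : Bool :=
  Bool.rec (motive := fun _ => Bool) (lS MG [T_b, T_vi, T_bi, T_c, T_b, T_v, T_w, T_bi] M (Nat.sub (T_ci u) (Nat.mod (T_ci u) M)) (nat_lit 40) (Nat.mod (T_ci u) M) u) (dp_ci_31 j u) (Nat.ble (nat_lit 44) j)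
noncomputable def dp_ci_33 (j u : ℕ) : Bool :=
  Bool.rec (motive := fun _ => Bool) (lF [T_b, T_a, T_bi, T_ci, T_ci, T_b, T_c, T_v, T_ai, T_bi] M (Nat.sub (T_ci u) (Nat.mod (T_ci u) M)) (Nat.mod (T_ci u) M) u) (lS MG [T_ai, T_v, T_a, T_vi, T_ci, T_vi, T_bi, T_c, T_b, T_u] M (Nat.sub (T_ci u) (Nat.mod (T_ci u) M)) (nat_lit 40) (Nat.mod (T_ci u) M) u) (Nat.ble (nat_lit 48) j)
noncomputable def dp_ci_34 (j u : ℕ) : Bool :=
  Bool.rec (motive := fun _ => Bool) (lF [T_e, T_b, T_e, T_v, T_v, T_bi, T_c, T_b] M (Nat.sub (T_ci u) (Nat.mod (T_ci u) M)) (Nat.mod (T_ci u) M) u) (dp_ci_33 j u) (Nat.ble (nat_lit 47) j)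
noncomputable def dp_ci_35 (j u : ℕ) : Bool :=
  Bool.rec (motive := fun _ => Bool) (dp_ci_32 j u) (dp_ci_34 j u) (Nat.ble (nat_lit 46) j)
noncomputable def dp_ci_36 (j u : ℕ) : Bool :=
  Bool.rec (motive := fun _ => Bool) (dp_ci_30 j u) (dp_ci_35 j u) (Nat.ble (nat_lit 43) j)
noncomputable def dp_ci_37 (j u : ℕ) : Bool :=
  Bool.rec (motive := fun _ => Bool) (dp_ci_25 j u) (dp_ci_36 j u) (Nat.ble (nat_lit 37) j)
noncomputable def dp_ci_38 (j u : ℕ) : Bool :=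
  Bool.rec (motive := fun _ => Bool) (dp_ci_18 j u) (dp_ci_37 j u) (Nat.ble (nat_lit 29) j)
noncomputable def dp_ci_39 (j u : ℕ) : Bool :=
  Bool.rec (motive := fun _ => Bool) (dp_ci_12 j u) (dp_ci_38 j u) (Nat.ble (nat_lit 22) j)
noncomputable def dp_ci_40 (j u : ℕ) : Bool :=
  Bool.rec (motive := fun _ => Bool) (dp_ci_8 j u) (dp_ci_39 j u) (Nat.ble (nat_lit 17) j)
noncomputable def dp_ci_41 (j u : ℕ) : Bool :=
  Bool.rec (motive := fun _ => Bool) (dp_ci_3 j u) (dp_ci_40 j u) (Nat.ble (nat_lit 11) j)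
noncomputable def dp_ci_42 (j u : ℕ) : Bool :=
  Bool.rec (motive := fun _ => Bool) (dp_ci_0 j u) (dp_ci_41 j u) (Nat.ble (nat_lit 7) j)
noncomputable def dp_ci_43 (j u : ℕ) : Bool :=
  Bool.rec (motive := fun _ => Bool) (Bool.rec (motive := fun _ => Bool) (lF3 T_wi T_c T_w M (Nat.sub (T_ci u) (Nat.mod (T_ci u) M)) (Nat.mod (T_ci u) M) u) (Bool.rec (motive := fun _ => Bool) (lDef P (nat_lit 4) u (Nat.mod (T_ci u) M)) (lDef P (nat_lit 5) (Nat.mod (T_ci u) M) u) (Nat.ble (nat_lit 4) j)) (Nat.ble (nat_lit 3) j)) (dp_ci_42 j u) (Nat.ble (nat_lit 5) j)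
noncomputable def disp_ci (j u : ℕ) : Bool :=
  Bool.rec (motive := fun _ => Bool) (Bool.rec (motive := fun _ => Bool) (lF1 T_c M (Nat.sub (T_ci u) (Nat.mod (T_ci u) M)) (Nat.mod (T_ci u) M) u) (lF3 T_w T_c T_wi M (Nat.sub (T_ci u) (Nat.mod (T_ci u) M)) (Nat.mod (T_ci u) M) u) (Nat.ble (nat_lit 1) j)) (dp_ci_43 j u) (Nat.ble (nat_lit 2) j)
noncomputable def chk_ci (j u : ℕ) : Bool :=
  Bool.rec (motive := fun _ => Bool) (disp_ci j u) (Nat.ble (Nat.succ (MG u)) A) (Nat.ble A (T_ci u))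
noncomputable def dp_d_0 (j u : ℕ) : Bool :=
  Bool.rec (motive := fun _ => Bool) (lDef P (nat_lit 6) (Nat.mod (T_d u) M) u) (lS MG [T_di] M (Nat.sub (T_d u) (Nat.mod (T_d u) M)) (nat_lit 40) (Nat.mod (T_d u) M) u) (Nat.ble (nat_lit 5) j)
noncomputable def dp_d_1 (j u : ℕ) : Bool :=
  Bool.rec (motive := fun _ => Bool) (lF [T_ai, T_ai, T_ai, T_ai, T_d] M (Nat.sub (T_d u) (Nat.mod (T_d u) M)) (Nat.mod (T_d u) M) u) (lF [T_d, T_ai, T_ai, T_ai, T_ai] M (Nat.sub (T_d u) (Nat.mod (T_d u) M)) (Nat.mod (T_d u) M) u) (Nat.ble (nat_lit 7) j)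
noncomputable def dp_d_2 (j u : ℕ) : Bool :=
  Bool.rec (motive := fun _ => Bool) (lF [T_a, T_a, T_a, T_di, T_ai] M (Nat.sub (T_d u) (Nat.mod (T_d u) M)) (Nat.mod (T_d u) M) u) (lF [T_ai, T_ai, T_ai, T_di, T_a] M (Nat.sub (T_d u) (Nat.mod (T_d u) M)) (Nat.mod (T_d u) M) u) (Nat.ble (nat_lit 9) j)
noncomputable def dp_d_3 (j u : ℕ) : Bool :=
  Bool.rec (motive := fun _ => Bool) (lS MG [T_ai, T_ai, T_ai, T_di, T_a] M (Nat.sub (T_d u) (Nat.mod (T_d u) M)) (nat_lit 40) (Nat.mod (T_d u) M) u) (lS MG [T_a, T_a, T_a, T_di, T_ai] M (Nat.sub (T_d u) (Nat.mod (T_d u) M)) (nat_lit 40) (Nat.mod (T_d u) M) u) (Nat.ble (nat_lit 14) j)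
noncomputable def dp_d_4 (j u : ℕ) : Bool :=
  Bool.rec (motive := fun _ => Bool) (lS MG [T_d, T_ai, T_ai, T_ai, T_ai] M (Nat.sub (T_d u) (Nat.mod (T_d u) M)) (nat_lit 40) (Nat.mod (T_d u) M) u) (dp_d_3 j u) (Nat.ble (nat_lit 13) j)
noncomputable def dp_d_5 (j u : ℕ) : Bool :=
  Bool.rec (motive := fun _ => Bool) (lS MG [T_ai, T_ai, T_ai, T_ai, T_d] M (Nat.sub (T_d u) (Nat.mod (T_d u) M)) (nat_lit 40) (Nat.mod (T_d u) M) u) (lF [T_wi, T_d, T_w, T_ai, T_ai, T_d, T_w] M (Nat.sub (T_d u) (Nat.mod (T_d u) M)) (Nat.mod (T_d u) M) u) (Nat.ble (nat_lit 16) j)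
noncomputable def dp_d_6 (j u : ℕ) : Bool :=
  Bool.rec (motive := fun _ => Bool) (lF [T_w, T_d, T_wi, T_d, T_w, T_ai, T_ai] M (Nat.sub (T_d u) (Nat.mod (T_d u) M)) (Nat.mod (T_d u) M) u) (lS MG [T_wi, T_d, T_w, T_ai, T_ai, T_d, T_w] M (Nat.sub (T_d u) (Nat.mod (T_d u) M)) (nat_lit 40) (Nat.mod (T_d u) M) u) (Nat.ble (nat_lit 20) j)
noncomputable def dp_d_7 (j u : ℕ) : Bool :=
  Bool.rec (motive := fun _ => Bool) (lS MG [T_e, T_bi, T_u, T_ai, T_e, T_ai, T_e, T_ai, T_w, T_v, T_c, T_b, T_a, T_bi, T_bi, T_ai] M (Nat.sub (T_d u) (Nat.mod (T_d u) M)) (nat_lit 40) (Nat.mod (T_d u) M) u) (dp_d_6 j u) (Nat.ble (nat_lit 19) j)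
noncomputable def dp_d_8 (j u : ℕ) : Bool :=
  Bool.rec (motive := fun _ => Bool) (lF [T_w, T_ai, T_ai, T_d, T_w, T_d, T_wi] M (Nat.sub (T_d u) (Nat.mod (T_d u) M)) (Nat.mod (T_d u) M) u) (dp_d_7 j u) (Nat.ble (nat_lit 18) j)
noncomputable def dp_d_9 (j u : ℕ) : Bool :=
  Bool.rec (motive := fun _ => Bool) (dp_d_5 j u) (dp_d_8 j u) (Nat.ble (nat_lit 17) j)
noncomputable def dp_d_10 (j u : ℕ) : Bool :=
  Bool.rec (motive := fun _ => Bool) (dp_d_4 j u) (dp_d_9 j u) (Nat.ble (nat_lit 15) j)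
noncomputable def dp_d_11 (j u : ℕ) : Bool :=
  Bool.rec (motive := fun _ => Bool) (lS MG [T_b, T_di, T_bi] M (Nat.sub (T_d u) (Nat.mod (T_d u) M)) (nat_lit 40) (Nat.mod (T_d u) M) u) (dp_d_10 j u) (Nat.ble (nat_lit 12) j)
noncomputable def dp_d_12 (j u : ℕ) : Bool :=
  Bool.rec (motive := fun _ => Bool) (lS MG [T_bi, T_di, T_b] M (Nat.sub (T_d u) (Nat.mod (T_d u) M)) (nat_lit 40) (Nat.mod (T_d u) M) u) (dp_d_11 j u) (Nat.ble (nat_lit 11) j)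
noncomputable def dp_d_13 (j u : ℕ) : Bool :=
  Bool.rec (motive := fun _ => Bool) (dp_d_2 j u) (dp_d_12 j u) (Nat.ble (nat_lit 10) j)
noncomputable def dp_d_14 (j u : ℕ) : Bool :=
  Bool.rec (motive := fun _ => Bool) (dp_d_1 j u) (dp_d_13 j u) (Nat.ble (nat_lit 8) j)
noncomputable def dp_d_15 (j u : ℕ) : Bool :=
  Bool.rec (motive := fun _ => Bool) (dp_d_0 j u) (dp_d_14 j u) (Nat.ble (nat_lit 6) j)
noncomputable def dp_d_16 (j u : ℕ) : Bool :=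
  Bool.rec (motive := fun _ => Bool) (Bool.rec (motive := fun _ => Bool) (lF3 T_bi T_di T_b M (Nat.sub (T_d u) (Nat.mod (T_d u) M)) (Nat.mod (T_d u) M) u) (lDef P (nat_lit 7) u (Nat.mod (T_d u) M)) (Nat.ble (nat_lit 3) j)) (dp_d_15 j u) (Nat.ble (nat_lit 4) j)
noncomputable def disp_d (j u : ℕ) : Bool :=
  Bool.rec (motive := fun _ => Bool) (Bool.rec (motive := fun _ => Bool) (lF1 T_di M (Nat.sub (T_d u) (Nat.mod (T_d u) M)) (Nat.mod (T_d u) M) u) (lF3 T_b T_di T_bi M (Nat.sub (T_d u) (Nat.mod (T_d u) M)) (Nat.mod (T_d u) M) u) (Nat.ble (nat_lit 1) j)) (dp_d_16 j u) (Nat.ble (nat_lit 2) j)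
noncomputable def chk_d (j u : ℕ) : Bool :=
  Bool.rec (motive := fun _ => Bool) (disp_d j u) (Nat.ble (Nat.succ (MG u)) A) (Nat.ble A (T_d u))
noncomputable def dp_di_0 (j u : ℕ) : Bool :=
  Bool.rec (motive := fun _ => Bool) (lDef P (nat_lit 6) u (Nat.mod (T_di u) M)) (lS MG [T_d] M (Nat.sub (T_di u) (Nat.mod (T_di u) M)) (nat_lit 40) (Nat.mod (T_di u) M) u) (Nat.ble (nat_lit 5) j)
noncomputable def dp_di_1 (j u : ℕ) : Bool :=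
  Bool.rec (motive := fun _ => Bool) (lF [T_a, T_a, T_a, T_a, T_di] M (Nat.sub (T_di u) (Nat.mod (T_di u) M)) (Nat.mod (T_di u) M) u) (lF [T_di, T_a, T_a, T_a, T_a] M (Nat.sub (T_di u) (Nat.mod (T_di u) M)) (Nat.mod (T_di u) M) u) (Nat.ble (nat_lit 7) j)
noncomputable def dp_di_2 (j u : ℕ) : Bool :=
  Bool.rec (motive := fun _ => Bool) (lF [T_a, T_d, T_ai, T_ai, T_ai] M (Nat.sub (T_di u) (Nat.mod (T_di u) M)) (Nat.mod (T_di u) M) u) (lF [T_ai, T_d, T_a, T_a, T_a] M (Nat.sub (T_di u) (Nat.mod (T_di u) M)) (Nat.mod (T_di u) M) u) (Nat.ble (nat_lit 9) j)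
noncomputable def dp_di_3 (j u : ℕ) : Bool :=
  Bool.rec (motive := fun _ => Bool) (lS MG [T_ai, T_d, T_a, T_a, T_a] M (Nat.sub (T_di u) (Nat.mod (T_di u) M)) (nat_lit 40) (Nat.mod (T_di u) M) u) (lF [T_wi, T_di, T_a, T_a, T_wi, T_di, T_w] M (Nat.sub (T_di u) (Nat.mod (T_di u) M)) (Nat.mod (T_di u) M) u) (Nat.ble (nat_lit 13) j)
noncomputable def dp_di_4 (j u : ℕ) : Bool :=
  Bool.rec (motive := fun _ => Bool) (lS MG [T_a, T_b, T_b, T_ai, T_bi, T_ci, T_vi, T_wi, T_a, T_e, T_a, T_e, T_a, T_ui, T_b, T_e] M (Nat.sub (T_di u) (Nat.mod (T_di u) M)) (nat_lit 40) (Nat.mod (T_di u) M) u) (lS MG [T_a, T_a, T_a, T_a, T_di] M (Nat.sub (T_di u) (Nat.mod (T_di u) M)) (nat_lit 40) (Nat.mod (T_di u) M) u) (Nat.ble (nat_lit 18) j)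
noncomputable def dp_di_5 (j u : ℕ) : Bool :=
  Bool.rec (motive := fun _ => Bool) (lS MG [T_di, T_a, T_a, T_a, T_a] M (Nat.sub (T_di u) (Nat.mod (T_di u) M)) (nat_lit 40) (Nat.mod (T_di u) M) u) (dp_di_4 j u) (Nat.ble (nat_lit 17) j)
noncomputable def dp_di_6 (j u : ℕ) : Bool :=
  Bool.rec (motive := fun _ => Bool) (lF [T_w, T_di, T_wi, T_di, T_a, T_a, T_wi] M (Nat.sub (T_di u) (Nat.mod (T_di u) M)) (Nat.mod (T_di u) M) u) (dp_di_5 j u) (Nat.ble (nat_lit 16) j)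
noncomputable def dp_di_7 (j u : ℕ) : Bool :=
  Bool.rec (motive := fun _ => Bool) (lS MG [T_a, T_d, T_ai, T_ai, T_ai] M (Nat.sub (T_di u) (Nat.mod (T_di u) M)) (nat_lit 40) (Nat.mod (T_di u) M) u) (dp_di_6 j u) (Nat.ble (nat_lit 15) j)
noncomputable def dp_di_8 (j u : ℕ) : Bool :=
  Bool.rec (motive := fun _ => Bool) (dp_di_3 j u) (dp_di_7 j u) (Nat.ble (nat_lit 14) j)
noncomputable def dp_di_9 (j u : ℕ) : Bool :=
  Bool.rec (motive := fun _ => Bool) (lS MG [T_b, T_d, T_bi] M (Nat.sub (T_di u) (Nat.mod (T_di u) M)) (nat_lit 40) (Nat.mod (T_di u) M) u) (dp_di_8 j u) (Nat.ble (nat_lit 12) j)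
noncomputable def dp_di_10 (j u : ℕ) : Bool :=
  Bool.rec (motive := fun _ => Bool) (lS MG [T_bi, T_d, T_b] M (Nat.sub (T_di u) (Nat.mod (T_di u) M)) (nat_lit 40) (Nat.mod (T_di u) M) u) (dp_di_9 j u) (Nat.ble (nat_lit 11) j)
noncomputable def dp_di_11 (j u : ℕ) : Bool :=
  Bool.rec (motive := fun _ => Bool) (dp_di_2 j u) (dp_di_10 j u) (Nat.ble (nat_lit 10) j)
noncomputable def dp_di_12 (j u : ℕ) : Bool :=
  Bool.rec (motive := fun _ => Bool) (dp_di_1 j u) (dp_di_11 j u) (Nat.ble (nat_lit 8) j)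
noncomputable def dp_di_13 (j u : ℕ) : Bool :=
  Bool.rec (motive := fun _ => Bool) (dp_di_0 j u) (dp_di_12 j u) (Nat.ble (nat_lit 6) j)
noncomputable def dp_di_14 (j u : ℕ) : Bool :=
  Bool.rec (motive := fun _ => Bool) (Bool.rec (motive := fun _ => Bool) (lF3 T_bi T_d T_b M (Nat.sub (T_di u) (Nat.mod (T_di u) M)) (Nat.mod (T_di u) M) u) (lDef P (nat_lit 7) (Nat.mod (T_di u) M) u) (Nat.ble (nat_lit 3) j)) (dp_di_13 j u) (Nat.ble (nat_lit 4) j)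
noncomputable def disp_di (j u : ℕ) : Bool :=
  Bool.rec (motive := fun _ => Bool) (Bool.rec (motive := fun _ => Bool) (lF1 T_d M (Nat.sub (T_di u) (Nat.mod (T_di u) M)) (Nat.mod (T_di u) M) u) (lF3 T_b T_d T_bi M (Nat.sub (T_di u) (Nat.mod (T_di u) M)) (Nat.mod (T_di u) M) u) (Nat.ble (nat_lit 1) j)) (dp_di_14 j u) (Nat.ble (nat_lit 2) j)
noncomputable def chk_di (j u : ℕ) : Bool :=
  Bool.rec (motive := fun _ => Bool) (disp_di j u) (Nat.ble (Nat.succ (MG u)) A) (Nat.ble A (T_di u))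
noncomputable def dp_e_0 (j u : ℕ) : Bool :=
  Bool.rec (motive := fun _ => Bool) (lF [T_b, T_ci, T_b, T_v, T_e, T_vi] M (Nat.sub (T_e u) (Nat.mod (T_e u) M)) (Nat.mod (T_e u) M) u) (lF [T_c, T_e, T_c, T_bi, T_bi, T_ci] M (Nat.sub (T_e u) (Nat.mod (T_e u) M)) (Nat.mod (T_e u) M) u) (Nat.ble (nat_lit 5) j)
noncomputable def dp_e_1 (j u : ℕ) : Bool :=
  Bool.rec (motive := fun _ => Bool) (lF [T_ci, T_e, T_c, T_b, T_b, T_ci] M (Nat.sub (T_e u) (Nat.mod (T_e u) M)) (Nat.mod (T_e u) M) u) (lF [T_vi, T_bi, T_c, T_bi, T_e, T_v] M (Nat.sub (T_e u) (Nat.mod (T_e u) M)) (Nat.mod (T_e u) M) u) (Nat.ble (nat_lit 7) j)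
noncomputable def dp_e_2 (j u : ℕ) : Bool :=
  Bool.rec (motive := fun _ => Bool) (lF [T_vi, T_e, T_b, T_ci, T_b, T_v] M (Nat.sub (T_e u) (Nat.mod (T_e u) M)) (Nat.mod (T_e u) M) u) (lF [T_c, T_bi, T_bi, T_ci, T_e, T_c] M (Nat.sub (T_e u) (Nat.mod (T_e u) M)) (Nat.mod (T_e u) M) u) (Nat.ble (nat_lit 9) j)
noncomputable def dp_e_3 (j u : ℕ) : Bool :=
  Bool.rec (motive := fun _ => Bool) (lF [T_v, T_v, T_bi, T_c, T_b, T_ci, T_e, T_b] M (Nat.sub (T_e u) (Nat.mod (T_e u) M)) (Nat.mod (T_e u) M) u) (lS MG [T_vi, T_bi, T_c, T_bi, T_e, T_v] M (Nat.sub (T_e u) (Nat.mod (T_e u) M)) (nat_lit 40) (Nat.mod (T_e u) M) u) (Nat.ble (nat_lit 13) j)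
noncomputable def dp_e_4 (j u : ℕ) : Bool :=
  Bool.rec (motive := fun _ => Bool) (lF [T_c, T_b, T_b, T_ci, T_e, T_ci] M (Nat.sub (T_e u) (Nat.mod (T_e u) M)) (Nat.mod (T_e u) M) u) (dp_e_3 j u) (Nat.ble (nat_lit 12) j)
noncomputable def dp_e_5 (j u : ℕ) : Bool :=
  Bool.rec (motive := fun _ => Bool) (lS MG [T_e] M (Nat.sub (T_e u) (Nat.mod (T_e u) M)) (nat_lit 40) (Nat.mod (T_e u) M) u) (dp_e_4 j u) (Nat.ble (nat_lit 11) j)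
noncomputable def dp_e_6 (j u : ℕ) : Bool :=
  Bool.rec (motive := fun _ => Bool) (lS MG [T_v, T_e, T_vi, T_bi, T_c, T_bi] M (Nat.sub (T_e u) (Nat.mod (T_e u) M)) (nat_lit 40) (Nat.mod (T_e u) M) u) (lS MG [T_vi, T_e, T_b, T_ci, T_b, T_v] M (Nat.sub (T_e u) (Nat.mod (T_e u) M)) (nat_lit 40) (Nat.mod (T_e u) M) u) (Nat.ble (nat_lit 16) j)
noncomputable def dp_e_7 (j u : ℕ) : Bool :=
  Bool.rec (motive := fun _ => Bool) (lF [T_v, T_ci, T_bi, T_c, T_b, T_ci, T_e, T_w] M (Nat.sub (T_e u) (Nat.mod (T_e u) M)) (Nat.mod (T_e u) M) u) (dp_e_6 j u) (Nat.ble (nat_lit 15) j)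
noncomputable def dp_e_8 (j u : ℕ) : Bool :=
  Bool.rec (motive := fun _ => Bool) (lS MG [T_b, T_ci, T_b, T_v, T_e, T_vi] M (Nat.sub (T_e u) (Nat.mod (T_e u) M)) (nat_lit 40) (Nat.mod (T_e u) M) u) (lS MG [T_c, T_e, T_c, T_bi, T_bi, T_ci] M (Nat.sub (T_e u) (Nat.mod (T_e u) M)) (nat_lit 40) (Nat.mod (T_e u) M) u) (Nat.ble (nat_lit 18) j)
noncomputable def dp_e_9 (j u : ℕ) : Bool :=
  Bool.rec (motive := fun _ => Bool) (lS MG [T_ci, T_e, T_c, T_b, T_b, T_ci] M (Nat.sub (T_e u) (Nat.mod (T_e u) M)) (nat_lit 40) (Nat.mod (T_e u) M) u) (lF [T_wi, T_e, T_c, T_bi, T_ci, T_b, T_c, T_vi] M (Nat.sub (T_e u) (Nat.mod (T_e u) M)) (Nat.mod (T_e u) M) u) (Nat.ble (nat_lit 20) j)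
noncomputable def dp_e_10 (j u : ℕ) : Bool :=
  Bool.rec (motive := fun _ => Bool) (dp_e_8 j u) (dp_e_9 j u) (Nat.ble (nat_lit 19) j)
noncomputable def dp_e_11 (j u : ℕ) : Bool :=
  Bool.rec (motive := fun _ => Bool) (dp_e_7 j u) (dp_e_10 j u) (Nat.ble (nat_lit 17) j)
noncomputable def dp_e_12 (j u : ℕ) : Bool :=
  Bool.rec (motive := fun _ => Bool) (lS MG [T_c, T_bi, T_bi, T_ci, T_e, T_c] M (Nat.sub (T_e u) (Nat.mod (T_e u) M)) (nat_lit 40) (Nat.mod (T_e u) M) u) (lF [T_bi, T_e, T_c, T_bi, T_ci, T_b, T_vi, T_vi] M (Nat.sub (T_e u) (Nat.mod (T_e u) M)) (Nat.mod (T_e u) M) u) (Nat.ble (nat_lit 23) j)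
noncomputable def dp_e_13 (j u : ℕ) : Bool :=
  Bool.rec (motive := fun _ => Bool) (lF [T_b, T_e, T_v, T_v, T_bi, T_c, T_b, T_ci] M (Nat.sub (T_e u) (Nat.mod (T_e u) M)) (Nat.mod (T_e u) M) u) (dp_e_12 j u) (Nat.ble (nat_lit 22) j)
noncomputable def dp_e_14 (j u : ℕ) : Bool :=
  Bool.rec (motive := fun _ => Bool) (lF [T_c, T_bi, T_ci, T_b, T_c, T_vi, T_e, T_wi] M (Nat.sub (T_e u) (Nat.mod (T_e u) M)) (Nat.mod (T_e u) M) u) (lF [T_c, T_bi, T_ci, T_b, T_vi, T_vi, T_e, T_bi] M (Nat.sub (T_e u) (Nat.mod (T_e u) M)) (Nat.mod (T_e u) M) u) (Nat.ble (nat_lit 26) j)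
noncomputable def dp_e_15 (j u : ℕ) : Bool :=
  Bool.rec (motive := fun _ => Bool) (lF [T_w, T_e, T_v, T_ci, T_bi, T_c, T_b, T_ci] M (Nat.sub (T_e u) (Nat.mod (T_e u) M)) (Nat.mod (T_e u) M) u) (dp_e_14 j u) (Nat.ble (nat_lit 25) j)
noncomputable def dp_e_16 (j u : ℕ) : Bool :=
  Bool.rec (motive := fun _ => Bool) (dp_e_13 j u) (dp_e_15 j u) (Nat.ble (nat_lit 24) j)
noncomputable def dp_e_17 (j u : ℕ) : Bool :=
  Bool.rec (motive := fun _ => Bool) (lS MG [T_c, T_b, T_b, T_ci, T_e, T_ci] M (Nat.sub (T_e u) (Nat.mod (T_e u) M)) (nat_lit 40) (Nat.mod (T_e u) M) u) (lF [T_v, T_wi, T_ci, T_ai, T_b, T_ai, T_bi, T_bi, T_ai, T_e, T_a, T_a] M (Nat.sub (T_e u) (Nat.mod (T_e u) M)) (Nat.mod (T_e u) M) u) (Nat.ble (nat_lit 29) j)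
noncomputable def dp_e_18 (j u : ℕ) : Bool :=
  Bool.rec (motive := fun _ => Bool) (lF [T_a, T_v, T_c, T_ui, T_ai, T_bi, T_bi, T_e, T_bi, T_c, T_b] M (Nat.sub (T_e u) (Nat.mod (T_e u) M)) (Nat.mod (T_e u) M) u) (dp_e_17 j u) (Nat.ble (nat_lit 28) j)
noncomputable def dp_e_19 (j u : ℕ) : Bool :=
  Bool.rec (motive := fun _ => Bool) (lF [T_a, T_a, T_c, T_w, T_vi, T_e, T_ai, T_b, T_ai, T_bi, T_bi, T_ai] M (Nat.sub (T_e u) (Nat.mod (T_e u) M)) (Nat.mod (T_e u) M) u) (lF [T_bi, T_c, T_b, T_e, T_a, T_v, T_c, T_ui, T_ai, T_bi, T_bi] M (Nat.sub (T_e u) (Nat.mod (T_e u) M)) (Nat.mod (T_e u) M) u) (Nat.ble (nat_lit 31) j)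
noncomputable def dp_e_20 (j u : ℕ) : Bool :=
  Bool.rec (motive := fun _ => Bool) (lF [T_a, T_a, T_e, T_v, T_wi, T_ci, T_ai, T_b, T_ai, T_bi, T_bi, T_ai] M (Nat.sub (T_e u) (Nat.mod (T_e u) M)) (Nat.mod (T_e u) M) u) (lF [T_u, T_e, T_ui, T_e, T_ai, T_ai, T_ai, T_bi, T_ci, T_b, T_ai, T_v, T_ui] M (Nat.sub (T_e u) (Nat.mod (T_e u) M)) (Nat.mod (T_e u) M) u) (Nat.ble (nat_lit 33) j)
noncomputable def dp_e_21 (j u : ℕ) : Bool :=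
  Bool.rec (motive := fun _ => Bool) (lF [T_ui, T_e, T_u, T_vi, T_a, T_bi, T_c, T_b, T_a, T_a, T_a, T_e, T_u] M (Nat.sub (T_e u) (Nat.mod (T_e u) M)) (Nat.mod (T_e u) M) u) (lS MG [T_b, T_e, T_v, T_v, T_bi, T_c, T_b, T_ci] M (Nat.sub (T_e u) (Nat.mod (T_e u) M)) (nat_lit 40) (Nat.mod (T_e u) M) u) (Nat.ble (nat_lit 35) j)
noncomputable def dp_e_22 (j u : ℕ) : Bool :=
  Bool.rec (motive := fun _ => Bool) (dp_e_20 j u) (dp_e_21 j u) (Nat.ble (nat_lit 34) j)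
noncomputable def dp_e_23 (j u : ℕ) : Bool :=
  Bool.rec (motive := fun _ => Bool) (dp_e_19 j u) (dp_e_22 j u) (Nat.ble (nat_lit 32) j)
noncomputable def dp_e_24 (j u : ℕ) : Bool :=
  Bool.rec (motive := fun _ => Bool) (dp_e_18 j u) (dp_e_23 j u) (Nat.ble (nat_lit 30) j)
noncomputable def dp_e_25 (j u : ℕ) : Bool :=
  Bool.rec (motive := fun _ => Bool) (lF [T_ai, T_ai, T_e, T_a, T_b, T_b, T_a, T_bi, T_a, T_c, T_w, T_vi] M (Nat.sub (T_e u) (Nat.mod (T_e u) M)) (Nat.mod (T_e u) M) u) (lF [T_a, T_b, T_b, T_a, T_bi, T_a, T_c, T_w, T_vi, T_e, T_ai, T_ai] M (Nat.sub (T_e u) (Nat.mod (T_e u) M)) (Nat.mod (T_e u) M) u) (Nat.ble (nat_lit 37) j)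
noncomputable def dp_e_26 (j u : ℕ) : Bool :=
  Bool.rec (motive := fun _ => Bool) (lS MG [T_w, T_e, T_v, T_ci, T_bi, T_c, T_b, T_ci] M (Nat.sub (T_e u) (Nat.mod (T_e u) M)) (nat_lit 40) (Nat.mod (T_e u) M) u) (lS MG [T_bi, T_e, T_c, T_bi, T_ci, T_b, T_vi, T_vi] M (Nat.sub (T_e u) (Nat.mod (T_e u) M)) (nat_lit 40) (Nat.mod (T_e u) M) u) (Nat.ble (nat_lit 39) j)
noncomputable def dp_e_27 (j u : ℕ) : Bool :=
  Bool.rec (motive := fun _ => Bool) (dp_e_25 j u) (dp_e_26 j u) (Nat.ble (nat_lit 38) j)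
noncomputable def dp_e_28 (j u : ℕ) : Bool :=
  Bool.rec (motive := fun _ => Bool) (lS MG [T_v, T_ci, T_bi, T_c, T_b, T_ci, T_e, T_w] M (Nat.sub (T_e u) (Nat.mod (T_e u) M)) (nat_lit 40) (Nat.mod (T_e u) M) u) (lS MG [T_c, T_bi, T_ci, T_b, T_vi, T_vi, T_e, T_bi] M (Nat.sub (T_e u) (Nat.mod (T_e u) M)) (nat_lit 40) (Nat.mod (T_e u) M) u) (Nat.ble (nat_lit 41) j)
noncomputable def dp_e_29 (j u : ℕ) : Bool :=
  Bool.rec (motive := fun _ => Bool) (lF [T_bi, T_ci, T_b, T_e, T_b, T_b, T_a, T_u, T_ci, T_vi, T_ai] M (Nat.sub (T_e u) (Nat.mod (T_e u) M)) (Nat.mod (T_e u) M) u) (lF [T_b, T_b, T_a, T_u, T_ci, T_vi, T_ai, T_e, T_bi, T_ci, T_b] M (Nat.sub (T_e u) (Nat.mod (T_e u) M)) (Nat.mod (T_e u) M) u) (Nat.ble (nat_lit 44) j)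
noncomputable def dp_e_30 (j u : ℕ) : Bool :=
  Bool.rec (motive := fun _ => Bool) (lF [T_v, T_wi, T_ci, T_ai, T_ai, T_e, T_a, T_b, T_b, T_a, T_bi, T_a] M (Nat.sub (T_e u) (Nat.mod (T_e u) M)) (Nat.mod (T_e u) M) u) (dp_e_29 j u) (Nat.ble (nat_lit 43) j)
noncomputable def dp_e_31 (j u : ℕ) : Bool :=
  Bool.rec (motive := fun _ => Bool) (dp_e_28 j u) (dp_e_30 j u) (Nat.ble (nat_lit 42) j)
noncomputable def dp_e_32 (j u : ℕ) : Bool :=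
  Bool.rec (motive := fun _ => Bool) (dp_e_27 j u) (dp_e_31 j u) (Nat.ble (nat_lit 40) j)
noncomputable def dp_e_33 (j u : ℕ) : Bool :=
  Bool.rec (motive := fun _ => Bool) (lF [T_ai, T_ai, T_ai, T_bi, T_ci, T_b, T_ai, T_v, T_ui, T_e, T_u, T_e, T_ui] M (Nat.sub (T_e u) (Nat.mod (T_e u) M)) (Nat.mod (T_e u) M) u) (lF [T_a, T_b, T_b, T_a, T_bi, T_a, T_e, T_v, T_wi, T_ci, T_ai, T_ai] M (Nat.sub (T_e u) (Nat.mod (T_e u) M)) (Nat.mod (T_e u) M) u) (Nat.ble (nat_lit 46) j)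
noncomputable def dp_e_34 (j u : ℕ) : Bool :=
  Bool.rec (motive := fun _ => Bool) (lF [T_u, T_vi, T_a, T_bi, T_c, T_b, T_a, T_a, T_a, T_e, T_u, T_e, T_ui] M (Nat.sub (T_e u) (Nat.mod (T_e u) M)) (Nat.mod (T_e u) M) u) (lS MG [T_c, T_bi, T_ci, T_b, T_c, T_vi, T_e, T_wi] M (Nat.sub (T_e u) (Nat.mod (T_e u) M)) (nat_lit 40) (Nat.mod (T_e u) M) u) (Nat.ble (nat_lit 48) j)
noncomputable def dp_e_35 (j u : ℕ) : Bool :=
  Bool.rec (motive := fun _ => Bool) (lS MG [T_bi, T_c, T_b, T_e, T_a, T_v, T_c, T_ui, T_ai, T_bi, T_bi] M (Nat.sub (T_e u) (Nat.mod (T_e u) M)) (nat_lit 40) (Nat.mod (T_e u) M) u) (lS MG [T_bi, T_ci, T_b, T_e, T_b, T_b, T_a, T_u, T_ci, T_vi, T_ai] M (Nat.sub (T_e u) (Nat.mod (T_e u) M)) (nat_lit 40) (Nat.mod (T_e u) M) u) (Nat.ble (nat_lit 51) j)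
noncomputable def dp_e_36 (j u : ℕ) : Bool :=
  Bool.rec (motive := fun _ => Bool) (lS MG [T_a, T_b, T_b, T_a, T_bi, T_a, T_c, T_w, T_vi, T_e, T_ai, T_ai] M (Nat.sub (T_e u) (Nat.mod (T_e u) M)) (nat_lit 40) (Nat.mod (T_e u) M) u) (dp_e_35 j u) (Nat.ble (nat_lit 50) j)
noncomputable def dp_e_37 (j u : ℕ) : Bool :=
  Bool.rec (motive := fun _ => Bool) (dp_e_34 j u) (dp_e_36 j u) (Nat.ble (nat_lit 49) j)
noncomputable def dp_e_38 (j u : ℕ) : Bool :=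
  Bool.rec (motive := fun _ => Bool) (dp_e_33 j u) (dp_e_37 j u) (Nat.ble (nat_lit 47) j)
noncomputable def dp_e_39 (j u : ℕ) : Bool :=
  Bool.rec (motive := fun _ => Bool) (lF [T_u, T_e, T_ui, T_e, T_u, T_vi, T_a, T_bi, T_c, T_b, T_a, T_a, T_a] M (Nat.sub (T_e u) (Nat.mod (T_e u) M)) (Nat.mod (T_e u) M) u) (lS MG [T_v, T_v, T_bi, T_c, T_b, T_ci, T_e, T_b] M (Nat.sub (T_e u) (Nat.mod (T_e u) M)) (nat_lit 40) (Nat.mod (T_e u) M) u) (Nat.ble (nat_lit 53) j)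
noncomputable def dp_e_40 (j u : ℕ) : Bool :=
  Bool.rec (motive := fun _ => Bool) (lS MG [T_wi, T_e, T_c, T_bi, T_ci, T_b, T_c, T_vi] M (Nat.sub (T_e u) (Nat.mod (T_e u) M)) (nat_lit 40) (Nat.mod (T_e u) M) u) (lS MG [T_a, T_a, T_c, T_w, T_vi, T_e, T_ai, T_b, T_ai, T_bi, T_bi, T_ai] M (Nat.sub (T_e u) (Nat.mod (T_e u) M)) (nat_lit 40) (Nat.mod (T_e u) M) u) (Nat.ble (nat_lit 55) j)
noncomputable def dp_e_41 (j u : ℕ) : Bool :=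
  Bool.rec (motive := fun _ => Bool) (dp_e_39 j u) (dp_e_40 j u) (Nat.ble (nat_lit 54) j)
noncomputable def dp_e_42 (j u : ℕ) : Bool :=
  Bool.rec (motive := fun _ => Bool) (lS MG [T_u, T_e, T_ui, T_e, T_u, T_vi, T_a, T_bi, T_c, T_b, T_a, T_a, T_a] M (Nat.sub (T_e u) (Nat.mod (T_e u) M)) (nat_lit 40) (Nat.mod (T_e u) M) u) (lS MG [T_u, T_vi, T_a, T_bi, T_c, T_b, T_a, T_a, T_a, T_e, T_u, T_e, T_ui] M (Nat.sub (T_e u) (Nat.mod (T_e u) M)) (nat_lit 40) (Nat.mod (T_e u) M) u) (Nat.ble (nat_lit 57) j)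
noncomputable def dp_e_43 (j u : ℕ) : Bool :=
  Bool.rec (motive := fun _ => Bool) (lS MG [T_a, T_v, T_c, T_ui, T_ai, T_bi, T_bi, T_e, T_bi, T_c, T_b] M (Nat.sub (T_e u) (Nat.mod (T_e u) M)) (nat_lit 40) (Nat.mod (T_e u) M) u) (lS MG [T_v, T_wi, T_ci, T_ai, T_ai, T_e, T_a, T_b, T_b, T_a, T_bi, T_a] M (Nat.sub (T_e u) (Nat.mod (T_e u) M)) (nat_lit 40) (Nat.mod (T_e u) M) u) (Nat.ble (nat_lit 60) j)
noncomputable def dp_e_44 (j u : ℕ) : Bool :=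
  Bool.rec (motive := fun _ => Bool) (lF [T_ui, T_e, T_ai, T_ai, T_ai, T_bi, T_ci, T_b, T_ai, T_v, T_ui, T_e, T_u] M (Nat.sub (T_e u) (Nat.mod (T_e u) M)) (Nat.mod (T_e u) M) u) (dp_e_43 j u) (Nat.ble (nat_lit 59) j)
noncomputable def dp_e_45 (j u : ℕ) : Bool :=
  Bool.rec (motive := fun _ => Bool) (dp_e_42 j u) (dp_e_44 j u) (Nat.ble (nat_lit 58) j)
noncomputable def dp_e_46 (j u : ℕ) : Bool :=
  Bool.rec (motive := fun _ => Bool) (dp_e_41 j u) (dp_e_45 j u) (Nat.ble (nat_lit 56) j)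
noncomputable def dp_e_47 (j u : ℕ) : Bool :=
  Bool.rec (motive := fun _ => Bool) (dp_e_38 j u) (dp_e_46 j u) (Nat.ble (nat_lit 52) j)
noncomputable def dp_e_48 (j u : ℕ) : Bool :=
  Bool.rec (motive := fun _ => Bool) (dp_e_32 j u) (dp_e_47 j u) (Nat.ble (nat_lit 45) j)
noncomputable def dp_e_49 (j u : ℕ) : Bool :=
  Bool.rec (motive := fun _ => Bool) (dp_e_24 j u) (dp_e_48 j u) (Nat.ble (nat_lit 36) j)
noncomputable def dp_e_50 (j u : ℕ) : Bool :=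
  Bool.rec (motive := fun _ => Bool) (dp_e_16 j u) (dp_e_49 j u) (Nat.ble (nat_lit 27) j)
noncomputable def dp_e_51 (j u : ℕ) : Bool :=
  Bool.rec (motive := fun _ => Bool) (dp_e_11 j u) (dp_e_50 j u) (Nat.ble (nat_lit 21) j)
noncomputable def dp_e_52 (j u : ℕ) : Bool :=
  Bool.rec (motive := fun _ => Bool) (dp_e_5 j u) (dp_e_51 j u) (Nat.ble (nat_lit 14) j)
noncomputable def dp_e_53 (j u : ℕ) : Bool :=
  Bool.rec (motive := fun _ => Bool) (Bool.rec (motive := fun _ => Bool) (dp_e_1 j u) (dp_e_2 j u) (Nat.ble (nat_lit 8) j)) (dp_e_52 j u) (Nat.ble (nat_lit 10) j)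
noncomputable def disp_e (j u : ℕ) : Bool :=
  Bool.rec (motive := fun _ => Bool) (Bool.rec (motive := fun _ => Bool) (lF1 T_e M (Nat.sub (T_e u) (Nat.mod (T_e u) M)) (Nat.mod (T_e u) M) u) (lDef P (nat_lit 8) (Nat.mod (T_e u) M) u) (Nat.ble (nat_lit 1) j)) (Bool.rec (motive := fun _ => Bool) (Bool.rec (motive := fun _ => Bool) (lDef P (nat_lit 8) u (Nat.mod (T_e u) M)) (Bool.rec (motive := fun _ => Bool) (lF [T_v, T_e, T_vi, T_bi, T_c, T_bi] M (Nat.sub (T_e u) (Nat.mod (T_e u) M)) (Nat.mod (T_e u) M) u) (dp_e_0 j u) (Nat.ble (nat_lit 4) j)) (Nat.ble (nat_lit 3) j)) (dp_e_53 j u) (Nat.ble (nat_lit 6) j)) (Nat.ble (nat_lit 2) j)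
noncomputable def chk_e (j u : ℕ) : Bool :=
  Bool.rec (motive := fun _ => Bool) (disp_e j u) (Nat.ble (Nat.succ (MG u)) A) (Nat.ble A (T_e u))
noncomputable def dp_u_0 (j u : ℕ) : Bool :=
  Bool.rec (motive := fun _ => Bool) (lF3 T_vi T_ui T_v M (Nat.sub (T_u u) (Nat.mod (T_u u) M)) (Nat.mod (T_u u) M) u) (lF3 T_v T_ui T_vi M (Nat.sub (T_u u) (Nat.mod (T_u u) M)) (Nat.mod (T_u u) M) u) (Nat.ble (nat_lit 6) j)
noncomputable def dp_u_1 (j u : ℕ) : Bool :=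
  Bool.rec (motive := fun _ => Bool) (lF3 T_ai T_ci T_a M (Nat.sub (T_u u) (Nat.mod (T_u u) M)) (Nat.mod (T_u u) M) u) (lS MG [T_ui] M (Nat.sub (T_u u) (Nat.mod (T_u u) M)) (nat_lit 40) (Nat.mod (T_u u) M) u) (Nat.ble (nat_lit 8) j)
noncomputable def dp_u_2 (j u : ℕ) : Bool :=
  Bool.rec (motive := fun _ => Bool) (lF [T_a, T_c, T_c, T_ai] M (Nat.sub (T_u u) (Nat.mod (T_u u) M)) (Nat.mod (T_u u) M) u) (lF [T_c, T_w, T_ui, T_ci] M (Nat.sub (T_u u) (Nat.mod (T_u u) M)) (Nat.mod (T_u u) M) u) (Nat.ble (nat_lit 10) j)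
noncomputable def dp_u_3 (j u : ℕ) : Bool :=
  Bool.rec (motive := fun _ => Bool) (lS MG [T_w, T_ui, T_wi] M (Nat.sub (T_u u) (Nat.mod (T_u u) M)) (nat_lit 40) (Nat.mod (T_u u) M) u) (lS MG [T_vi, T_ui, T_v] M (Nat.sub (T_u u) (Nat.mod (T_u u) M)) (nat_lit 40) (Nat.mod (T_u u) M) u) (Nat.ble (nat_lit 13) j)
noncomputable def dp_u_4 (j u : ℕ) : Bool :=
  Bool.rec (motive := fun _ => Bool) (lF [T_wi, T_ci, T_ui, T_c] M (Nat.sub (T_u u) (Nat.mod (T_u u) M)) (Nat.mod (T_u u) M) u) (dp_u_3 j u) (Nat.ble (nat_lit 12) j)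
noncomputable def dp_u_5 (j u : ℕ) : Bool :=
  Bool.rec (motive := fun _ => Bool) (lS MG [T_wi, T_ui, T_w] M (Nat.sub (T_u u) (Nat.mod (T_u u) M)) (nat_lit 40) (Nat.mod (T_u u) M) u) (lS MG [T_v, T_ui, T_vi] M (Nat.sub (T_u u) (Nat.mod (T_u u) M)) (nat_lit 40) (Nat.mod (T_u u) M) u) (Nat.ble (nat_lit 15) j)
noncomputable def dp_u_6 (j u : ℕ) : Bool :=
  Bool.rec (motive := fun _ => Bool) (lS MG [T_ai, T_ci, T_a] M (Nat.sub (T_u u) (Nat.mod (T_u u) M)) (nat_lit 40) (Nat.mod (T_u u) M) u) (lF [T_bi, T_c, T_b, T_w, T_ui, T_bi, T_ci, T_b] M (Nat.sub (T_u u) (Nat.mod (T_u u) M)) (Nat.mod (T_u u) M) u) (Nat.ble (nat_lit 17) j)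
noncomputable def dp_u_7 (j u : ℕ) : Bool :=
  Bool.rec (motive := fun _ => Bool) (lF [T_b, T_v, T_c, T_v, T_bi, T_ci, T_b, T_ui, T_bi] M (Nat.sub (T_u u) (Nat.mod (T_u u) M)) (Nat.mod (T_u u) M) u) (lF [T_e, T_ui, T_e, T_u, T_vi, T_a, T_bi, T_c, T_b, T_a, T_a, T_a, T_e] M (Nat.sub (T_u u) (Nat.mod (T_u u) M)) (Nat.mod (T_u u) M) u) (Nat.ble (nat_lit 19) j)
noncomputable def dp_u_8 (j u : ℕ) : Bool :=
  Bool.rec (motive := fun _ => Bool) (lF [T_wi, T_bi, T_ci, T_b, T_ui, T_bi, T_c, T_b] M (Nat.sub (T_u u) (Nat.mod (T_u u) M)) (Nat.mod (T_u u) M) u) (lS MG [T_a, T_c, T_c, T_ai] M (Nat.sub (T_u u) (Nat.mod (T_u u) M)) (nat_lit 40) (Nat.mod (T_u u) M) u) (Nat.ble (nat_lit 21) j)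
noncomputable def dp_u_9 (j u : ℕ) : Bool :=
  Bool.rec (motive := fun _ => Bool) (lF [T_bi, T_c, T_b, T_vi, T_ci, T_vi, T_bi, T_ui, T_b] M (Nat.sub (T_u u) (Nat.mod (T_u u) M)) (Nat.mod (T_u u) M) u) (lS MG [T_b, T_v, T_c, T_v, T_bi, T_ci, T_b, T_ui, T_bi] M (Nat.sub (T_u u) (Nat.mod (T_u u) M)) (nat_lit 40) (Nat.mod (T_u u) M) u) (Nat.ble (nat_lit 23) j)
noncomputable def dp_u_10 (j u : ℕ) : Bool :=
  Bool.rec (motive := fun _ => Bool) (lF [T_ci, T_vi, T_ai, T_e, T_bi, T_ci, T_b, T_e, T_b, T_b, T_a] M (Nat.sub (T_u u) (Nat.mod (T_u u) M)) (Nat.mod (T_u u) M) u) (lF [T_ci, T_ai, T_v, T_a, T_vi, T_ci, T_vi, T_bi, T_c, T_b] M (Nat.sub (T_u u) (Nat.mod (T_u u) M)) (Nat.mod (T_u u) M) u) (Nat.ble (nat_lit 25) j)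
noncomputable def dp_u_11 (j u : ℕ) : Bool :=
  Bool.rec (motive := fun _ => Bool) (dp_u_9 j u) (dp_u_10 j u) (Nat.ble (nat_lit 24) j)
noncomputable def dp_u_12 (j u : ℕ) : Bool :=
  Bool.rec (motive := fun _ => Bool) (dp_u_8 j u) (dp_u_11 j u) (Nat.ble (nat_lit 22) j)
noncomputable def dp_u_13 (j u : ℕ) : Bool :=
  Bool.rec (motive := fun _ => Bool) (dp_u_7 j u) (dp_u_12 j u) (Nat.ble (nat_lit 20) j)
noncomputable def dp_u_14 (j u : ℕ) : Bool :=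
  Bool.rec (motive := fun _ => Bool) (dp_u_6 j u) (dp_u_13 j u) (Nat.ble (nat_lit 18) j)
noncomputable def dp_u_15 (j u : ℕ) : Bool :=
  Bool.rec (motive := fun _ => Bool) (dp_u_5 j u) (dp_u_14 j u) (Nat.ble (nat_lit 16) j)
noncomputable def dp_u_16 (j u : ℕ) : Bool :=
  Bool.rec (motive := fun _ => Bool) (dp_u_4 j u) (dp_u_15 j u) (Nat.ble (nat_lit 14) j)
noncomputable def dp_u_17 (j u : ℕ) : Bool :=
  Bool.rec (motive := fun _ => Bool) (dp_u_2 j u) (dp_u_16 j u) (Nat.ble (nat_lit 11) j)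
noncomputable def dp_u_18 (j u : ℕ) : Bool :=
  Bool.rec (motive := fun _ => Bool) (dp_u_1 j u) (dp_u_17 j u) (Nat.ble (nat_lit 9) j)
noncomputable def dp_u_19 (j u : ℕ) : Bool :=
  Bool.rec (motive := fun _ => Bool) (dp_u_0 j u) (dp_u_18 j u) (Nat.ble (nat_lit 7) j)
noncomputable def dp_u_20 (j u : ℕ) : Bool :=
  Bool.rec (motive := fun _ => Bool) (Bool.rec (motive := fun _ => Bool) (lF3 T_wi T_ui T_w M (Nat.sub (T_u u) (Nat.mod (T_u u) M)) (Nat.mod (T_u u) M) u) (Bool.rec (motive := fun _ => Bool) (lDef P (nat_lit 10) u (Nat.mod (T_u u) M)) (lDef P (nat_lit 9) (Nat.mod (T_u u) M) u) (Nat.ble (nat_lit 4) j)) (Nat.ble (nat_lit 3) j)) (dp_u_19 j u) (Nat.ble (nat_lit 5) j)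
noncomputable def disp_u (j u : ℕ) : Bool :=
  Bool.rec (motive := fun _ => Bool) (Bool.rec (motive := fun _ => Bool) (lF1 T_ui M (Nat.sub (T_u u) (Nat.mod (T_u u) M)) (Nat.mod (T_u u) M) u) (lF3 T_w T_ui T_wi M (Nat.sub (T_u u) (Nat.mod (T_u u) M)) (Nat.mod (T_u u) M) u) (Nat.ble (nat_lit 1) j)) (dp_u_20 j u) (Nat.ble (nat_lit 2) j)
noncomputable def chk_u (j u : ℕ) : Bool :=
  Bool.rec (motive := fun _ => Bool) (disp_u j u) (Nat.ble (Nat.succ (MG u)) A) (Nat.ble A (T_u u))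
noncomputable def dp_ui_0 (j u : ℕ) : Bool :=
  Bool.rec (motive := fun _ => Bool) (lF3 T_v T_u T_vi M (Nat.sub (T_ui u) (Nat.mod (T_ui u) M)) (Nat.mod (T_ui u) M) u) (lF3 T_ai T_c T_a M (Nat.sub (T_ui u) (Nat.mod (T_ui u) M)) (Nat.mod (T_ui u) M) u) (Nat.ble (nat_lit 6) j)
noncomputable def dp_ui_1 (j u : ℕ) : Bool :=
  Bool.rec (motive := fun _ => Bool) (lF3 T_vi T_u T_v M (Nat.sub (T_ui u) (Nat.mod (T_ui u) M)) (Nat.mod (T_ui u) M) u) (lS MG [T_u] M (Nat.sub (T_ui u) (Nat.mod (T_ui u) M)) (nat_lit 40) (Nat.mod (T_ui u) M) u) (Nat.ble (nat_lit 8) j)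
noncomputable def dp_ui_2 (j u : ℕ) : Bool :=
  Bool.rec (motive := fun _ => Bool) (lF [T_a, T_ci, T_ci, T_ai] M (Nat.sub (T_ui u) (Nat.mod (T_ui u) M)) (Nat.mod (T_ui u) M) u) (lF [T_c, T_u, T_wi, T_ci] M (Nat.sub (T_ui u) (Nat.mod (T_ui u) M)) (Nat.mod (T_ui u) M) u) (Nat.ble (nat_lit 10) j)
noncomputable def dp_ui_3 (j u : ℕ) : Bool :=
  Bool.rec (motive := fun _ => Bool) (lF [T_ci, T_u, T_c, T_w] M (Nat.sub (T_ui u) (Nat.mod (T_ui u) M)) (Nat.mod (T_ui u) M) u) (lS MG [T_wi, T_u, T_w] M (Nat.sub (T_ui u) (Nat.mod (T_ui u) M)) (nat_lit 40) (Nat.mod (T_ui u) M) u) (Nat.ble (nat_lit 12) j)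
noncomputable def dp_ui_4 (j u : ℕ) : Bool :=
  Bool.rec (motive := fun _ => Bool) (lS MG [T_ai, T_c, T_a] M (Nat.sub (T_ui u) (Nat.mod (T_ui u) M)) (nat_lit 40) (Nat.mod (T_ui u) M) u) (lS MG [T_vi, T_u, T_v] M (Nat.sub (T_ui u) (Nat.mod (T_ui u) M)) (nat_lit 40) (Nat.mod (T_ui u) M) u) (Nat.ble (nat_lit 15) j)
noncomputable def dp_ui_5 (j u : ℕ) : Bool :=
  Bool.rec (motive := fun _ => Bool) (lS MG [T_w, T_u, T_wi] M (Nat.sub (T_ui u) (Nat.mod (T_ui u) M)) (nat_lit 40) (Nat.mod (T_ui u) M) u) (dp_ui_4 j u) (Nat.ble (nat_lit 14) j)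
noncomputable def dp_ui_6 (j u : ℕ) : Bool :=
  Bool.rec (motive := fun _ => Bool) (lF [T_bi, T_c, T_b, T_u, T_wi, T_bi, T_ci, T_b] M (Nat.sub (T_ui u) (Nat.mod (T_ui u) M)) (Nat.mod (T_ui u) M) u) (lF [T_b, T_u, T_bi, T_c, T_b, T_vi, T_ci, T_vi, T_bi] M (Nat.sub (T_ui u) (Nat.mod (T_ui u) M)) (Nat.mod (T_ui u) M) u) (Nat.ble (nat_lit 18) j)
noncomputable def dp_ui_7 (j u : ℕ) : Bool :=
  Bool.rec (motive := fun _ => Bool) (lS MG [T_v, T_u, T_vi] M (Nat.sub (T_ui u) (Nat.mod (T_ui u) M)) (nat_lit 40) (Nat.mod (T_ui u) M) u) (dp_ui_6 j u) (Nat.ble (nat_lit 17) j)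
noncomputable def dp_ui_8 (j u : ℕ) : Bool :=
  Bool.rec (motive := fun _ => Bool) (lS MG [T_a, T_ci, T_ci, T_ai] M (Nat.sub (T_ui u) (Nat.mod (T_ui u) M)) (nat_lit 40) (Nat.mod (T_ui u) M) u) (lF [T_bi, T_ci, T_b, T_u, T_bi, T_c, T_b, T_w] M (Nat.sub (T_ui u) (Nat.mod (T_ui u) M)) (Nat.mod (T_ui u) M) u) (Nat.ble (nat_lit 20) j)
noncomputable def dp_ui_9 (j u : ℕ) : Bool :=
  Bool.rec (motive := fun _ => Bool) (lF [T_e, T_u, T_vi, T_a, T_bi, T_c, T_b, T_a, T_a, T_a, T_e, T_u, T_e] M (Nat.sub (T_ui u) (Nat.mod (T_ui u) M)) (Nat.mod (T_ui u) M) u) (lS MG [T_c, T_u, T_wi, T_ci] M (Nat.sub (T_ui u) (Nat.mod (T_ui u) M)) (nat_lit 40) (Nat.mod (T_ui u) M) u) (Nat.ble (nat_lit 22) j)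
noncomputable def dp_ui_10 (j u : ℕ) : Bool :=
  Bool.rec (motive := fun _ => Bool) (lF [T_bi, T_u, T_b, T_v, T_c, T_v, T_bi, T_ci, T_b] M (Nat.sub (T_ui u) (Nat.mod (T_ui u) M)) (Nat.mod (T_ui u) M) u) (lF [T_ai, T_bi, T_bi, T_e, T_bi, T_c, T_b, T_e, T_a, T_v, T_c] M (Nat.sub (T_ui u) (Nat.mod (T_ui u) M)) (Nat.mod (T_ui u) M) u) (Nat.ble (nat_lit 25) j)
noncomputable def dp_ui_11 (j u : ℕ) : Bool :=
  Bool.rec (motive := fun _ => Bool) (lS MG [T_e, T_u, T_vi, T_a, T_bi, T_c, T_b, T_a, T_a, T_a, T_e, T_u, T_e] M (Nat.sub (T_ui u) (Nat.mod (T_ui u) M)) (nat_lit 40) (Nat.mod (T_ui u) M) u) (dp_ui_10 j u) (Nat.ble (nat_lit 24) j)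
noncomputable def dp_ui_12 (j u : ℕ) : Bool :=
  Bool.rec (motive := fun _ => Bool) (dp_ui_9 j u) (dp_ui_11 j u) (Nat.ble (nat_lit 23) j)
noncomputable def dp_ui_13 (j u : ℕ) : Bool :=
  Bool.rec (motive := fun _ => Bool) (dp_ui_8 j u) (dp_ui_12 j u) (Nat.ble (nat_lit 21) j)
noncomputable def dp_ui_14 (j u : ℕ) : Bool :=
  Bool.rec (motive := fun _ => Bool) (dp_ui_7 j u) (dp_ui_13 j u) (Nat.ble (nat_lit 19) j)
noncomputable def dp_ui_15 (j u : ℕ) : Bool :=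
  Bool.rec (motive := fun _ => Bool) (dp_ui_5 j u) (dp_ui_14 j u) (Nat.ble (nat_lit 16) j)
noncomputable def dp_ui_16 (j u : ℕ) : Bool :=
  Bool.rec (motive := fun _ => Bool) (dp_ui_3 j u) (dp_ui_15 j u) (Nat.ble (nat_lit 13) j)
noncomputable def dp_ui_17 (j u : ℕ) : Bool :=
  Bool.rec (motive := fun _ => Bool) (dp_ui_2 j u) (dp_ui_16 j u) (Nat.ble (nat_lit 11) j)
noncomputable def dp_ui_18 (j u : ℕ) : Bool :=
  Bool.rec (motive := fun _ => Bool) (dp_ui_1 j u) (dp_ui_17 j u) (Nat.ble (nat_lit 9) j)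
noncomputable def dp_ui_19 (j u : ℕ) : Bool :=
  Bool.rec (motive := fun _ => Bool) (dp_ui_0 j u) (dp_ui_18 j u) (Nat.ble (nat_lit 7) j)
noncomputable def dp_ui_20 (j u : ℕ) : Bool :=
  Bool.rec (motive := fun _ => Bool) (Bool.rec (motive := fun _ => Bool) (lF3 T_wi T_u T_w M (Nat.sub (T_ui u) (Nat.mod (T_ui u) M)) (Nat.mod (T_ui u) M) u) (Bool.rec (motive := fun _ => Bool) (lDef P (nat_lit 10) (Nat.mod (T_ui u) M) u) (lDef P (nat_lit 9) u (Nat.mod (T_ui u) M)) (Nat.ble (nat_lit 4) j)) (Nat.ble (nat_lit 3) j)) (dp_ui_19 j u) (Nat.ble (nat_lit 5) j)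
noncomputable def disp_ui (j u : ℕ) : Bool :=
  Bool.rec (motive := fun _ => Bool) (Bool.rec (motive := fun _ => Bool) (lF1 T_u M (Nat.sub (T_ui u) (Nat.mod (T_ui u) M)) (Nat.mod (T_ui u) M) u) (lF3 T_w T_u T_wi M (Nat.sub (T_ui u) (Nat.mod (T_ui u) M)) (Nat.mod (T_ui u) M) u) (Nat.ble (nat_lit 1) j)) (dp_ui_20 j u) (Nat.ble (nat_lit 2) j)
noncomputable def chk_ui (j u : ℕ) : Bool :=
  Bool.rec (motive := fun _ => Bool) (disp_ui j u) (Nat.ble (Nat.succ (MG u)) A) (Nat.ble A (T_ui u))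
noncomputable def dp_v_0 (j u : ℕ) : Bool :=
  Bool.rec (motive := fun _ => Bool) (lF3 T_ui T_vi T_u M (Nat.sub (T_v u) (Nat.mod (T_v u) M)) (Nat.mod (T_v u) M) u) (lS MG [T_vi] M (Nat.sub (T_v u) (Nat.mod (T_v u) M)) (nat_lit 40) (Nat.mod (T_v u) M) u) (Nat.ble (nat_lit 8) j)
noncomputable def dp_v_1 (j u : ℕ) : Bool :=
  Bool.rec (motive := fun _ => Bool) (lF [T_wi, T_wi, T_ci, T_vi, T_c] M (Nat.sub (T_v u) (Nat.mod (T_v u) M)) (Nat.mod (T_v u) M) u) (lS MG [T_w, T_vi, T_wi] M (Nat.sub (T_v u) (Nat.mod (T_v u) M)) (nat_lit 40) (Nat.mod (T_v u) M) u) (Nat.ble (nat_lit 12) j)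
noncomputable def dp_v_2 (j u : ℕ) : Bool :=
  Bool.rec (motive := fun _ => Bool) (lF [T_c, T_w, T_w, T_vi, T_ci] M (Nat.sub (T_v u) (Nat.mod (T_v u) M)) (Nat.mod (T_v u) M) u) (dp_v_1 j u) (Nat.ble (nat_lit 11) j)
noncomputable def dp_v_3 (j u : ℕ) : Bool :=
  Bool.rec (motive := fun _ => Bool) (lF [T_e, T_vi, T_bi, T_c, T_bi, T_e] M (Nat.sub (T_v u) (Nat.mod (T_v u) M)) (Nat.mod (T_v u) M) u) (dp_v_2 j u) (Nat.ble (nat_lit 10) j)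
noncomputable def dp_v_4 (j u : ℕ) : Bool :=
  Bool.rec (motive := fun _ => Bool) (lS MG [T_b, T_ci, T_bi] M (Nat.sub (T_v u) (Nat.mod (T_v u) M)) (nat_lit 40) (Nat.mod (T_v u) M) u) (lS MG [T_ui, T_vi, T_u] M (Nat.sub (T_v u) (Nat.mod (T_v u) M)) (nat_lit 40) (Nat.mod (T_v u) M) u) (Nat.ble (nat_lit 16) j)
noncomputable def dp_v_5 (j u : ℕ) : Bool :=
  Bool.rec (motive := fun _ => Bool) (lF [T_e, T_vi, T_e, T_b, T_ci, T_b] M (Nat.sub (T_v u) (Nat.mod (T_v u) M)) (Nat.mod (T_v u) M) u) (dp_v_4 j u) (Nat.ble (nat_lit 15) j)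
noncomputable def dp_v_6 (j u : ℕ) : Bool :=
  Bool.rec (motive := fun _ => Bool) (lS MG [T_wi, T_vi, T_w] M (Nat.sub (T_v u) (Nat.mod (T_v u) M)) (nat_lit 40) (Nat.mod (T_v u) M) u) (dp_v_5 j u) (Nat.ble (nat_lit 14) j)
noncomputable def dp_v_7 (j u : ℕ) : Bool :=
  Bool.rec (motive := fun _ => Bool) (lF [T_bi, T_c, T_b, T_ci, T_e, T_b, T_e, T_v] M (Nat.sub (T_v u) (Nat.mod (T_v u) M)) (Nat.mod (T_v u) M) u) (lS MG [T_u, T_vi, T_ui] M (Nat.sub (T_v u) (Nat.mod (T_v u) M)) (nat_lit 40) (Nat.mod (T_v u) M) u) (Nat.ble (nat_lit 18) j)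
noncomputable def dp_v_8 (j u : ℕ) : Bool :=
  Bool.rec (motive := fun _ => Bool) (lS MG [T_e, T_vi, T_bi, T_c, T_bi, T_e] M (Nat.sub (T_v u) (Nat.mod (T_v u) M)) (nat_lit 40) (Nat.mod (T_v u) M) u) (lF [T_bi, T_c, T_b, T_wi, T_vi, T_bi, T_ci, T_b] M (Nat.sub (T_v u) (Nat.mod (T_v u) M)) (Nat.mod (T_v u) M) u) (Nat.ble (nat_lit 20) j)
noncomputable def dp_v_9 (j u : ℕ) : Bool :=
  Bool.rec (motive := fun _ => Bool) (dp_v_7 j u) (dp_v_8 j u) (Nat.ble (nat_lit 19) j)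
noncomputable def dp_v_10 (j u : ℕ) : Bool :=
  Bool.rec (motive := fun _ => Bool) (lF [T_w, T_bi, T_ci, T_b, T_vi, T_bi, T_c, T_b] M (Nat.sub (T_v u) (Nat.mod (T_v u) M)) (Nat.mod (T_v u) M) u) (lS MG [T_e, T_vi, T_e, T_b, T_ci, T_b] M (Nat.sub (T_v u) (Nat.mod (T_v u) M)) (nat_lit 40) (Nat.mod (T_v u) M) u) (Nat.ble (nat_lit 24) j)
noncomputable def dp_v_11 (j u : ℕ) : Bool :=
  Bool.rec (motive := fun _ => Bool) (lF [T_v, T_bi, T_c, T_b, T_ci, T_e, T_b, T_e] M (Nat.sub (T_v u) (Nat.mod (T_v u) M)) (Nat.mod (T_v u) M) u) (dp_v_10 j u) (Nat.ble (nat_lit 23) j)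
noncomputable def dp_v_12 (j u : ℕ) : Bool :=
  Bool.rec (motive := fun _ => Bool) (lF [T_ci, T_bi, T_c, T_b, T_ci, T_e, T_w, T_e] M (Nat.sub (T_v u) (Nat.mod (T_v u) M)) (Nat.mod (T_v u) M) u) (dp_v_11 j u) (Nat.ble (nat_lit 22) j)
noncomputable def dp_v_13 (j u : ℕ) : Bool :=
  Bool.rec (motive := fun _ => Bool) (lF [T_bi, T_ci, T_b, T_ui, T_bi, T_u, T_b, T_v, T_c] M (Nat.sub (T_v u) (Nat.mod (T_v u) M)) (Nat.mod (T_v u) M) u) (lF [T_c, T_v, T_ai, T_vi, T_a, T_c, T_ui, T_bi, T_ci, T_b] M (Nat.sub (T_v u) (Nat.mod (T_v u) M)) (Nat.mod (T_v u) M) u) (Nat.ble (nat_lit 27) j)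
noncomputable def dp_v_14 (j u : ℕ) : Bool :=
  Bool.rec (motive := fun _ => Bool) (lF [T_c, T_v, T_bi, T_ci, T_b, T_ui, T_bi, T_u, T_b] M (Nat.sub (T_v u) (Nat.mod (T_v u) M)) (Nat.mod (T_v u) M) u) (dp_v_13 j u) (Nat.ble (nat_lit 26) j)
noncomputable def dp_v_15 (j u : ℕ) : Bool :=
  Bool.rec (motive := fun _ => Bool) (lF [T_a, T_vi, T_ci, T_vi, T_bi, T_c, T_b, T_u, T_ci, T_ai] M (Nat.sub (T_v u) (Nat.mod (T_v u) M)) (Nat.mod (T_v u) M) u) (lS MG [T_c, T_w, T_w, T_vi, T_ci] M (Nat.sub (T_v u) (Nat.mod (T_v u) M)) (nat_lit 40) (Nat.mod (T_v u) M) u) (Nat.ble (nat_lit 30) j)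
noncomputable def dp_v_16 (j u : ℕ) : Bool :=
  Bool.rec (motive := fun _ => Bool) (lF [T_c, T_ui, T_ai, T_bi, T_bi, T_e, T_bi, T_c, T_b, T_e, T_a] M (Nat.sub (T_v u) (Nat.mod (T_v u) M)) (Nat.mod (T_v u) M) u) (dp_v_15 j u) (Nat.ble (nat_lit 29) j)
noncomputable def dp_v_17 (j u : ℕ) : Bool :=
  Bool.rec (motive := fun _ => Bool) (lF [T_bi, T_ci, T_ci, T_bi, T_ci, T_b, T_b, T_c, T_c] M (Nat.sub (T_v u) (Nat.mod (T_v u) M)) (Nat.mod (T_v u) M) u) (lS MG [T_v, T_bi, T_c, T_b, T_ci, T_e, T_b, T_e] M (Nat.sub (T_v u) (Nat.mod (T_v u) M)) (nat_lit 40) (Nat.mod (T_v u) M) u) (Nat.ble (nat_lit 32) j)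
noncomputable def dp_v_18 (j u : ℕ) : Bool :=
  Bool.rec (motive := fun _ => Bool) (lS MG [T_wi, T_ci, T_ai, T_ai, T_e, T_a, T_b, T_b, T_a, T_bi, T_a, T_e] M (Nat.sub (T_v u) (Nat.mod (T_v u) M)) (nat_lit 40) (Nat.mod (T_v u) M) u) (lF [T_wi, T_ci, T_ai, T_ai, T_e, T_a, T_b, T_b, T_a, T_bi, T_a, T_e] M (Nat.sub (T_v u) (Nat.mod (T_v u) M)) (Nat.mod (T_v u) M) u) (Nat.ble (nat_lit 34) j)
noncomputable def dp_v_19 (j u : ℕ) : Bool :=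
  Bool.rec (motive := fun _ => Bool) (dp_v_17 j u) (dp_v_18 j u) (Nat.ble (nat_lit 33) j)
noncomputable def dp_v_20 (j u : ℕ) : Bool :=
  Bool.rec (motive := fun _ => Bool) (dp_v_16 j u) (dp_v_19 j u) (Nat.ble (nat_lit 31) j)
noncomputable def dp_v_21 (j u : ℕ) : Bool :=
  Bool.rec (motive := fun _ => Bool) (dp_v_14 j u) (dp_v_20 j u) (Nat.ble (nat_lit 28) j)
noncomputable def dp_v_22 (j u : ℕ) : Bool :=
  Bool.rec (motive := fun _ => Bool) (dp_v_12 j u) (dp_v_21 j u) (Nat.ble (nat_lit 25) j)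
noncomputable def dp_v_23 (j u : ℕ) : Bool :=
  Bool.rec (motive := fun _ => Bool) (dp_v_9 j u) (dp_v_22 j u) (Nat.ble (nat_lit 21) j)
noncomputable def dp_v_24 (j u : ℕ) : Bool :=
  Bool.rec (motive := fun _ => Bool) (dp_v_6 j u) (dp_v_23 j u) (Nat.ble (nat_lit 17) j)
noncomputable def dp_v_25 (j u : ℕ) : Bool :=
  Bool.rec (motive := fun _ => Bool) (dp_v_3 j u) (dp_v_24 j u) (Nat.ble (nat_lit 13) j)
noncomputable def dp_v_26 (j u : ℕ) : Bool :=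
  Bool.rec (motive := fun _ => Bool) (dp_v_0 j u) (dp_v_25 j u) (Nat.ble (nat_lit 9) j)
noncomputable def dp_v_27 (j u : ℕ) : Bool :=
  Bool.rec (motive := fun _ => Bool) (Bool.rec (motive := fun _ => Bool) (lF3 T_b T_ci T_bi M (Nat.sub (T_v u) (Nat.mod (T_v u) M)) (Nat.mod (T_v u) M) u) (lF3 T_u T_vi T_ui M (Nat.sub (T_v u) (Nat.mod (T_v u) M)) (Nat.mod (T_v u) M) u) (Nat.ble (nat_lit 6) j)) (dp_v_26 j u) (Nat.ble (nat_lit 7) j)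
noncomputable def disp_v (j u : ℕ) : Bool :=
  Bool.rec (motive := fun _ => Bool) (Bool.rec (motive := fun _ => Bool) (lF1 T_vi M (Nat.sub (T_v u) (Nat.mod (T_v u) M)) (Nat.mod (T_v u) M) u) (lF3 T_w T_vi T_wi M (Nat.sub (T_v u) (Nat.mod (T_v u) M)) (Nat.mod (T_v u) M) u) (Nat.ble (nat_lit 1) j)) (Bool.rec (motive := fun _ => Bool) (Bool.rec (motive := fun _ => Bool) (lF3 T_wi T_vi T_w M (Nat.sub (T_v u) (Nat.mod (T_v u) M)) (Nat.mod (T_v u) M) u) (Bool.rec (motive := fun _ => Bool) (lDef P (nat_lit 11) (Nat.mod (T_v u) M) u) (lDef P (nat_lit 12) u (Nat.mod (T_v u) M)) (Nat.ble (nat_lit 4) j)) (Nat.ble (nat_lit 3) j)) (dp_v_27 j u) (Nat.ble (nat_lit 5) j)) (Nat.ble (nat_lit 2) j)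
noncomputable def chk_v (j u : ℕ) : Bool :=
  Bool.rec (motive := fun _ => Bool) (disp_v j u) (Nat.ble (Nat.succ (MG u)) A) (Nat.ble A (T_v u))
noncomputable def dp_vi_0 (j u : ℕ) : Bool :=
  Bool.rec (motive := fun _ => Bool) (lF3 T_ui T_v T_u M (Nat.sub (T_vi u) (Nat.mod (T_vi u) M)) (Nat.mod (T_vi u) M) u) (lS MG [T_v] M (Nat.sub (T_vi u) (Nat.mod (T_vi u) M)) (nat_lit 40) (Nat.mod (T_vi u) M) u) (Nat.ble (nat_lit 8) j)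
noncomputable def dp_vi_1 (j u : ℕ) : Bool :=
  Bool.rec (motive := fun _ => Bool) (lF [T_c, T_v, T_wi, T_wi, T_ci] M (Nat.sub (T_vi u) (Nat.mod (T_vi u) M)) (Nat.mod (T_vi u) M) u) (lF [T_ci, T_v, T_c, T_w, T_w] M (Nat.sub (T_vi u) (Nat.mod (T_vi u) M)) (Nat.mod (T_vi u) M) u) (Nat.ble (nat_lit 11) j)
noncomputable def dp_vi_2 (j u : ℕ) : Bool :=
  Bool.rec (motive := fun _ => Bool) (lF [T_e, T_b, T_ci, T_b, T_v, T_e] M (Nat.sub (T_vi u) (Nat.mod (T_vi u) M)) (Nat.mod (T_vi u) M) u) (dp_vi_1 j u) (Nat.ble (nat_lit 10) j)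
noncomputable def dp_vi_3 (j u : ℕ) : Bool :=
  Bool.rec (motive := fun _ => Bool) (lS MG [T_b, T_c, T_bi] M (Nat.sub (T_vi u) (Nat.mod (T_vi u) M)) (nat_lit 40) (Nat.mod (T_vi u) M) u) (lS MG [T_e, T_b, T_ci, T_b, T_v, T_e] M (Nat.sub (T_vi u) (Nat.mod (T_vi u) M)) (nat_lit 40) (Nat.mod (T_vi u) M) u) (Nat.ble (nat_lit 15) j)
noncomputable def dp_vi_4 (j u : ℕ) : Bool :=
  Bool.rec (motive := fun _ => Bool) (lS MG [T_w, T_v, T_wi] M (Nat.sub (T_vi u) (Nat.mod (T_vi u) M)) (nat_lit 40) (Nat.mod (T_vi u) M) u) (dp_vi_3 j u) (Nat.ble (nat_lit 14) j)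
noncomputable def dp_vi_5 (j u : ℕ) : Bool :=
  Bool.rec (motive := fun _ => Bool) (lF [T_bi, T_c, T_bi, T_e, T_v, T_e] M (Nat.sub (T_vi u) (Nat.mod (T_vi u) M)) (Nat.mod (T_vi u) M) u) (dp_vi_4 j u) (Nat.ble (nat_lit 13) j)
noncomputable def dp_vi_6 (j u : ℕ) : Bool :=
  Bool.rec (motive := fun _ => Bool) (lS MG [T_wi, T_v, T_w] M (Nat.sub (T_vi u) (Nat.mod (T_vi u) M)) (nat_lit 40) (Nat.mod (T_vi u) M) u) (lF [T_bi, T_c, T_b, T_v, T_w, T_bi, T_ci, T_b] M (Nat.sub (T_vi u) (Nat.mod (T_vi u) M)) (Nat.mod (T_vi u) M) u) (Nat.ble (nat_lit 17) j)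
noncomputable def dp_vi_7 (j u : ℕ) : Bool :=
  Bool.rec (motive := fun _ => Bool) (lF [T_e, T_wi, T_e, T_c, T_bi, T_ci, T_b, T_c] M (Nat.sub (T_vi u) (Nat.mod (T_vi u) M)) (Nat.mod (T_vi u) M) u) (lF [T_bi, T_ui, T_b, T_u, T_bi, T_c, T_b, T_vi, T_ci] M (Nat.sub (T_vi u) (Nat.mod (T_vi u) M)) (Nat.mod (T_vi u) M) u) (Nat.ble (nat_lit 19) j)
noncomputable def dp_vi_8 (j u : ℕ) : Bool :=
  Bool.rec (motive := fun _ => Bool) (lF [T_a, T_c, T_ui, T_bi, T_ci, T_b, T_v, T_c, T_v, T_ai] M (Nat.sub (T_vi u) (Nat.mod (T_vi u) M)) (Nat.mod (T_vi u) M) u) (lF [T_e, T_bi, T_e, T_c, T_bi, T_ci, T_b, T_vi] M (Nat.sub (T_vi u) (Nat.mod (T_vi u) M)) (Nat.mod (T_vi u) M) u) (Nat.ble (nat_lit 21) j)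
noncomputable def dp_vi_9 (j u : ℕ) : Bool :=
  Bool.rec (motive := fun _ => Bool) (dp_vi_7 j u) (dp_vi_8 j u) (Nat.ble (nat_lit 20) j)
noncomputable def dp_vi_10 (j u : ℕ) : Bool :=
  Bool.rec (motive := fun _ => Bool) (dp_vi_6 j u) (dp_vi_9 j u) (Nat.ble (nat_lit 18) j)
noncomputable def dp_vi_11 (j u : ℕ) : Bool :=
  Bool.rec (motive := fun _ => Bool) (lF [T_ci, T_bi, T_c, T_c, T_b, T_ai, T_bi, T_c, T_b, T_a] M (Nat.sub (T_vi u) (Nat.mod (T_vi u) M)) (Nat.mod (T_vi u) M) u) (lF [T_bi, T_ci, T_b, T_v, T_bi, T_c, T_b, T_wi] M (Nat.sub (T_vi u) (Nat.mod (T_vi u) M)) (Nat.mod (T_vi u) M) u) (Nat.ble (nat_lit 23) j)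
noncomputable def dp_vi_12 (j u : ℕ) : Bool :=
  Bool.rec (motive := fun _ => Bool) (lS MG [T_c, T_v, T_wi, T_wi, T_ci] M (Nat.sub (T_vi u) (Nat.mod (T_vi u) M)) (nat_lit 40) (Nat.mod (T_vi u) M) u) (lS MG [T_ci, T_v, T_c, T_w, T_w] M (Nat.sub (T_vi u) (Nat.mod (T_vi u) M)) (nat_lit 40) (Nat.mod (T_vi u) M) u) (Nat.ble (nat_lit 25) j)
noncomputable def dp_vi_13 (j u : ℕ) : Bool :=
  Bool.rec (motive := fun _ => Bool) (lS MG [T_ui, T_v, T_u] M (Nat.sub (T_vi u) (Nat.mod (T_vi u) M)) (nat_lit 40) (Nat.mod (T_vi u) M) u) (lS MG [T_u, T_v, T_ui] M (Nat.sub (T_vi u) (Nat.mod (T_vi u) M)) (nat_lit 40) (Nat.mod (T_vi u) M) u) (Nat.ble (nat_lit 27) j)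
noncomputable def dp_vi_14 (j u : ℕ) : Bool :=
  Bool.rec (motive := fun _ => Bool) (dp_vi_12 j u) (dp_vi_13 j u) (Nat.ble (nat_lit 26) j)
noncomputable def dp_vi_15 (j u : ℕ) : Bool :=
  Bool.rec (motive := fun _ => Bool) (dp_vi_11 j u) (dp_vi_14 j u) (Nat.ble (nat_lit 24) j)
noncomputable def dp_vi_16 (j u : ℕ) : Bool :=
  Bool.rec (motive := fun _ => Bool) (lF [T_ci, T_ci, T_bi, T_bi, T_c, T_b, T_c, T_c, T_b] M (Nat.sub (T_vi u) (Nat.mod (T_vi u) M)) (Nat.mod (T_vi u) M) u) (lS MG [T_e, T_ai, T_ai, T_e, T_a, T_b, T_b, T_a, T_bi, T_a, T_c, T_w] M (Nat.sub (T_vi u) (Nat.mod (T_vi u) M)) (nat_lit 40) (Nat.mod (T_vi u) M) u) (Nat.ble (nat_lit 30) j)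
noncomputable def dp_vi_17 (j u : ℕ) : Bool :=
  Bool.rec (motive := fun _ => Bool) (lS MG [T_bi, T_ci, T_b, T_v, T_bi, T_c, T_b, T_wi] M (Nat.sub (T_vi u) (Nat.mod (T_vi u) M)) (nat_lit 40) (Nat.mod (T_vi u) M) u) (dp_vi_16 j u) (Nat.ble (nat_lit 29) j)
noncomputable def dp_vi_18 (j u : ℕ) : Bool :=
  Bool.rec (motive := fun _ => Bool) (lS MG [T_a, T_c, T_ui, T_bi, T_ci, T_b, T_v, T_c, T_v, T_ai] M (Nat.sub (T_vi u) (Nat.mod (T_vi u) M)) (nat_lit 40) (Nat.mod (T_vi u) M) u) (lS MG [T_bi, T_c, T_bi, T_e, T_v, T_e] M (Nat.sub (T_vi u) (Nat.mod (T_vi u) M)) (nat_lit 40) (Nat.mod (T_vi u) M) u) (Nat.ble (nat_lit 33) j)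
noncomputable def dp_vi_19 (j u : ℕ) : Bool :=
  Bool.rec (motive := fun _ => Bool) (lF [T_ci, T_vi, T_bi, T_c, T_b, T_u, T_ci, T_ai, T_v, T_a] M (Nat.sub (T_vi u) (Nat.mod (T_vi u) M)) (Nat.mod (T_vi u) M) u) (dp_vi_18 j u) (Nat.ble (nat_lit 32) j)
noncomputable def dp_vi_20 (j u : ℕ) : Bool :=
  Bool.rec (motive := fun _ => Bool) (lS MG [T_e, T_ai, T_b, T_ai, T_bi, T_bi, T_ai, T_e, T_a, T_a, T_c, T_w] M (Nat.sub (T_vi u) (Nat.mod (T_vi u) M)) (nat_lit 40) (Nat.mod (T_vi u) M) u) (lS MG [T_bi, T_c, T_b, T_v, T_w, T_bi, T_ci, T_b] M (Nat.sub (T_vi u) (Nat.mod (T_vi u) M)) (nat_lit 40) (Nat.mod (T_vi u) M) u) (Nat.ble (nat_lit 35) j)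
noncomputable def dp_vi_21 (j u : ℕ) : Bool :=
  Bool.rec (motive := fun _ => Bool) (lS MG [T_e, T_wi, T_e, T_c, T_bi, T_ci, T_b, T_c] M (Nat.sub (T_vi u) (Nat.mod (T_vi u) M)) (nat_lit 40) (Nat.mod (T_vi u) M) u) (lF [T_e, T_ai, T_ai, T_e, T_a, T_b, T_b, T_a, T_bi, T_a, T_c, T_w] M (Nat.sub (T_vi u) (Nat.mod (T_vi u) M)) (Nat.mod (T_vi u) M) u) (Nat.ble (nat_lit 37) j)
noncomputable def dp_vi_22 (j u : ℕ) : Bool :=
  Bool.rec (motive := fun _ => Bool) (dp_vi_20 j u) (dp_vi_21 j u) (Nat.ble (nat_lit 36) j)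
noncomputable def dp_vi_23 (j u : ℕ) : Bool :=
  Bool.rec (motive := fun _ => Bool) (dp_vi_19 j u) (dp_vi_22 j u) (Nat.ble (nat_lit 34) j)
noncomputable def dp_vi_24 (j u : ℕ) : Bool :=
  Bool.rec (motive := fun _ => Bool) (dp_vi_17 j u) (dp_vi_23 j u) (Nat.ble (nat_lit 31) j)
noncomputable def dp_vi_25 (j u : ℕ) : Bool :=
  Bool.rec (motive := fun _ => Bool) (dp_vi_15 j u) (dp_vi_24 j u) (Nat.ble (nat_lit 28) j)
noncomputable def dp_vi_26 (j u : ℕ) : Bool :=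
  Bool.rec (motive := fun _ => Bool) (dp_vi_10 j u) (dp_vi_25 j u) (Nat.ble (nat_lit 22) j)
noncomputable def dp_vi_27 (j u : ℕ) : Bool :=
  Bool.rec (motive := fun _ => Bool) (dp_vi_5 j u) (dp_vi_26 j u) (Nat.ble (nat_lit 16) j)
noncomputable def dp_vi_28 (j u : ℕ) : Bool :=
  Bool.rec (motive := fun _ => Bool) (dp_vi_2 j u) (dp_vi_27 j u) (Nat.ble (nat_lit 12) j)
noncomputable def dp_vi_29 (j u : ℕ) : Bool :=
  Bool.rec (motive := fun _ => Bool) (dp_vi_0 j u) (dp_vi_28 j u) (Nat.ble (nat_lit 9) j)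
noncomputable def dp_vi_30 (j u : ℕ) : Bool :=
  Bool.rec (motive := fun _ => Bool) (Bool.rec (motive := fun _ => Bool) (lF3 T_b T_c T_bi M (Nat.sub (T_vi u) (Nat.mod (T_vi u) M)) (Nat.mod (T_vi u) M) u) (lF3 T_u T_v T_ui M (Nat.sub (T_vi u) (Nat.mod (T_vi u) M)) (Nat.mod (T_vi u) M) u) (Nat.ble (nat_lit 6) j)) (dp_vi_29 j u) (Nat.ble (nat_lit 7) j)
noncomputable def dp_vi_31 (j u : ℕ) : Bool :=
  Bool.rec (motive := fun _ => Bool) (Bool.rec (motive := fun _ => Bool) (lF3 T_wi T_v T_w M (Nat.sub (T_vi u) (Nat.mod (T_vi u) M)) (Nat.mod (T_vi u) M) u) (Bool.rec (motive := fun _ => Bool) (lDef P (nat_lit 11) u (Nat.mod (T_vi u) M)) (lDef P (nat_lit 12) (Nat.mod (T_vi u) M) u) (Nat.ble (nat_lit 4) j)) (Nat.ble (nat_lit 3) j)) (dp_vi_30 j u) (Nat.ble (nat_lit 5) j)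
noncomputable def disp_vi (j u : ℕ) : Bool :=
  Bool.rec (motive := fun _ => Bool) (Bool.rec (motive := fun _ => Bool) (lF1 T_v M (Nat.sub (T_vi u) (Nat.mod (T_vi u) M)) (Nat.mod (T_vi u) M) u) (lF3 T_w T_v T_wi M (Nat.sub (T_vi u) (Nat.mod (T_vi u) M)) (Nat.mod (T_vi u) M) u) (Nat.ble (nat_lit 1) j)) (dp_vi_31 j u) (Nat.ble (nat_lit 2) j)
noncomputable def chk_vi (j u : ℕ) : Bool :=
  Bool.rec (motive := fun _ => Bool) (disp_vi j u) (Nat.ble (Nat.succ (MG u)) A) (Nat.ble A (T_vi u))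
noncomputable def dp_w_0 (j u : ℕ) : Bool :=
  Bool.rec (motive := fun _ => Bool) (lF3 T_bi T_wi T_b M (Nat.sub (T_w u) (Nat.mod (T_w u) M)) (Nat.mod (T_w u) M) u) (lF3 T_c T_wi T_ci M (Nat.sub (T_w u) (Nat.mod (T_w u) M)) (Nat.mod (T_w u) M) u) (Nat.ble (nat_lit 5) j)
noncomputable def dp_w_1 (j u : ℕ) : Bool :=
  Bool.rec (motive := fun _ => Bool) (lF3 T_u T_wi T_ui M (Nat.sub (T_w u) (Nat.mod (T_w u) M)) (Nat.mod (T_w u) M) u) (lF3 T_ci T_wi T_c M (Nat.sub (T_w u) (Nat.mod (T_w u) M)) (Nat.mod (T_w u) M) u) (Nat.ble (nat_lit 8) j)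
noncomputable def dp_w_2 (j u : ℕ) : Bool :=
  Bool.rec (motive := fun _ => Bool) (lF3 T_ui T_wi T_u M (Nat.sub (T_w u) (Nat.mod (T_w u) M)) (Nat.mod (T_w u) M) u) (lS MG [T_wi] M (Nat.sub (T_w u) (Nat.mod (T_w u) M)) (nat_lit 40) (Nat.mod (T_w u) M) u) (Nat.ble (nat_lit 10) j)
noncomputable def dp_w_3 (j u : ℕ) : Bool :=
  Bool.rec (motive := fun _ => Bool) (lF3 T_vi T_wi T_v M (Nat.sub (T_w u) (Nat.mod (T_w u) M)) (Nat.mod (T_w u) M) u) (lF [T_a, T_wi, T_wi, T_ai] M (Nat.sub (T_w u) (Nat.mod (T_w u) M)) (Nat.mod (T_w u) M) u) (Nat.ble (nat_lit 12) j)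
noncomputable def dp_w_4 (j u : ℕ) : Bool :=
  Bool.rec (motive := fun _ => Bool) (lF [T_e, T_v, T_ci, T_bi, T_c, T_b, T_ci, T_e] M (Nat.sub (T_w u) (Nat.mod (T_w u) M)) (Nat.mod (T_w u) M) u) (lF [T_w, T_w, T_w, T_w] M (Nat.sub (T_w u) (Nat.mod (T_w u) M)) (Nat.mod (T_w u) M) u) (Nat.ble (nat_lit 14) j)
noncomputable def dp_w_5 (j u : ℕ) : Bool :=
  Bool.rec (motive := fun _ => Bool) (lF [T_ui, T_ci, T_u, T_c] M (Nat.sub (T_w u) (Nat.mod (T_w u) M)) (Nat.mod (T_w u) M) u) (lF [T_ai, T_wi, T_a, T_w] M (Nat.sub (T_w u) (Nat.mod (T_w u) M)) (Nat.mod (T_w u) M) u) (Nat.ble (nat_lit 16) j)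
noncomputable def dp_w_6 (j u : ℕ) : Bool :=
  Bool.rec (motive := fun _ => Bool) (dp_w_4 j u) (dp_w_5 j u) (Nat.ble (nat_lit 15) j)
noncomputable def dp_w_7 (j u : ℕ) : Bool :=
  Bool.rec (motive := fun _ => Bool) (lF [T_w, T_ai, T_wi, T_a] M (Nat.sub (T_w u) (Nat.mod (T_w u) M)) (Nat.mod (T_w u) M) u) (lS MG [T_b, T_wi, T_bi] M (Nat.sub (T_w u) (Nat.mod (T_w u) M)) (nat_lit 40) (Nat.mod (T_w u) M) u) (Nat.ble (nat_lit 18) j)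
noncomputable def dp_w_8 (j u : ℕ) : Bool :=
  Bool.rec (motive := fun _ => Bool) (lS MG [T_c, T_wi, T_ci] M (Nat.sub (T_w u) (Nat.mod (T_w u) M)) (nat_lit 40) (Nat.mod (T_w u) M) u) (lS MG [T_bi, T_wi, T_b] M (Nat.sub (T_w u) (Nat.mod (T_w u) M)) (nat_lit 40) (Nat.mod (T_w u) M) u) (Nat.ble (nat_lit 20) j)
noncomputable def dp_w_9 (j u : ℕ) : Bool :=
  Bool.rec (motive := fun _ => Bool) (dp_w_7 j u) (dp_w_8 j u) (Nat.ble (nat_lit 19) j)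
noncomputable def dp_w_10 (j u : ℕ) : Bool :=
  Bool.rec (motive := fun _ => Bool) (lS MG [T_ci, T_wi, T_c] M (Nat.sub (T_w u) (Nat.mod (T_w u) M)) (nat_lit 40) (Nat.mod (T_w u) M) u) (lS MG [T_u, T_wi, T_ui] M (Nat.sub (T_w u) (Nat.mod (T_w u) M)) (nat_lit 40) (Nat.mod (T_w u) M) u) (Nat.ble (nat_lit 22) j)
noncomputable def dp_w_11 (j u : ℕ) : Bool :=
  Bool.rec (motive := fun _ => Bool) (lS MG [T_vi, T_wi, T_v] M (Nat.sub (T_w u) (Nat.mod (T_w u) M)) (nat_lit 40) (Nat.mod (T_w u) M) u) (lS MG [T_v, T_wi, T_vi] M (Nat.sub (T_w u) (Nat.mod (T_w u) M)) (nat_lit 40) (Nat.mod (T_w u) M) u) (Nat.ble (nat_lit 24) j)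
noncomputable def dp_w_12 (j u : ℕ) : Bool :=
  Bool.rec (motive := fun _ => Bool) (dp_w_10 j u) (dp_w_11 j u) (Nat.ble (nat_lit 23) j)
noncomputable def dp_w_13 (j u : ℕ) : Bool :=
  Bool.rec (motive := fun _ => Bool) (lS MG [T_ui, T_wi, T_u] M (Nat.sub (T_w u) (Nat.mod (T_w u) M)) (nat_lit 40) (Nat.mod (T_w u) M) u) (lF [T_vi, T_ci, T_v, T_c, T_w] M (Nat.sub (T_w u) (Nat.mod (T_w u) M)) (Nat.mod (T_w u) M) u) (Nat.ble (nat_lit 27) j)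
noncomputable def dp_w_14 (j u : ℕ) : Bool :=
  Bool.rec (motive := fun _ => Bool) (lF [T_w, T_vi, T_ci, T_v, T_c] M (Nat.sub (T_w u) (Nat.mod (T_w u) M)) (Nat.mod (T_w u) M) u) (dp_w_13 j u) (Nat.ble (nat_lit 26) j)
noncomputable def dp_w_15 (j u : ℕ) : Bool :=
  Bool.rec (motive := fun _ => Bool) (lF [T_bi, T_ci, T_b, T_vi, T_bi, T_c, T_b, T_v] M (Nat.sub (T_w u) (Nat.mod (T_w u) M)) (Nat.mod (T_w u) M) u) (lF [T_d, T_wi, T_d, T_w, T_ai, T_ai, T_d] M (Nat.sub (T_w u) (Nat.mod (T_w u) M)) (Nat.mod (T_w u) M) u) (Nat.ble (nat_lit 30) j)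
noncomputable def dp_w_16 (j u : ℕ) : Bool :=
  Bool.rec (motive := fun _ => Bool) (lS MG [T_e, T_v, T_ci, T_bi, T_c, T_b, T_ci, T_e] M (Nat.sub (T_w u) (Nat.mod (T_w u) M)) (nat_lit 40) (Nat.mod (T_w u) M) u) (dp_w_15 j u) (Nat.ble (nat_lit 29) j)
noncomputable def dp_w_17 (j u : ℕ) : Bool :=
  Bool.rec (motive := fun _ => Bool) (lF [T_ai, T_ai, T_d, T_w, T_d, T_wi, T_d] M (Nat.sub (T_w u) (Nat.mod (T_w u) M)) (Nat.mod (T_w u) M) u) (lS MG [T_a, T_wi, T_wi, T_ai] M (Nat.sub (T_w u) (Nat.mod (T_w u) M)) (nat_lit 40) (Nat.mod (T_w u) M) u) (Nat.ble (nat_lit 34) j)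
noncomputable def dp_w_18 (j u : ℕ) : Bool :=
  Bool.rec (motive := fun _ => Bool) (lS MG [T_ui, T_bi, T_ci, T_b, T_u, T_bi, T_c, T_b] M (Nat.sub (T_w u) (Nat.mod (T_w u) M)) (nat_lit 40) (Nat.mod (T_w u) M) u) (dp_w_17 j u) (Nat.ble (nat_lit 33) j)
noncomputable def dp_w_19 (j u : ℕ) : Bool :=
  Bool.rec (motive := fun _ => Bool) (lF [T_di, T_wi, T_di, T_a, T_a, T_wi, T_di] M (Nat.sub (T_w u) (Nat.mod (T_w u) M)) (Nat.mod (T_w u) M) u) (dp_w_18 j u) (Nat.ble (nat_lit 32) j)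
noncomputable def dp_w_20 (j u : ℕ) : Bool :=
  Bool.rec (motive := fun _ => Bool) (dp_w_16 j u) (dp_w_19 j u) (Nat.ble (nat_lit 31) j)
noncomputable def dp_w_21 (j u : ℕ) : Bool :=
  Bool.rec (motive := fun _ => Bool) (dp_w_14 j u) (dp_w_20 j u) (Nat.ble (nat_lit 28) j)
noncomputable def dp_w_22 (j u : ℕ) : Bool :=
  Bool.rec (motive := fun _ => Bool) (dp_w_12 j u) (dp_w_21 j u) (Nat.ble (nat_lit 25) j)
noncomputable def dp_w_23 (j u : ℕ) : Bool :=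
  Bool.rec (motive := fun _ => Bool) (dp_w_9 j u) (dp_w_22 j u) (Nat.ble (nat_lit 21) j)
noncomputable def dp_w_24 (j u : ℕ) : Bool :=
  Bool.rec (motive := fun _ => Bool) (dp_w_6 j u) (dp_w_23 j u) (Nat.ble (nat_lit 17) j)
noncomputable def dp_w_25 (j u : ℕ) : Bool :=
  Bool.rec (motive := fun _ => Bool) (dp_w_3 j u) (dp_w_24 j u) (Nat.ble (nat_lit 13) j)
noncomputable def dp_w_26 (j u : ℕ) : Bool :=
  Bool.rec (motive := fun _ => Bool) (dp_w_2 j u) (dp_w_25 j u) (Nat.ble (nat_lit 11) j)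
noncomputable def dp_w_27 (j u : ℕ) : Bool :=
  Bool.rec (motive := fun _ => Bool) (Bool.rec (motive := fun _ => Bool) (lF3 T_v T_wi T_vi M (Nat.sub (T_w u) (Nat.mod (T_w u) M)) (Nat.mod (T_w u) M) u) (dp_w_1 j u) (Nat.ble (nat_lit 7) j)) (dp_w_26 j u) (Nat.ble (nat_lit 9) j)
noncomputable def disp_w (j u : ℕ) : Bool :=
  Bool.rec (motive := fun _ => Bool) (Bool.rec (motive := fun _ => Bool) (lF1 T_wi M (Nat.sub (T_w u) (Nat.mod (T_w u) M)) (Nat.mod (T_w u) M) u) (lDef P (nat_lit 14) u (Nat.mod (T_w u) M)) (Nat.ble (nat_lit 1) j)) (Bool.rec (motive := fun _ => Bool) (Bool.rec (motive := fun _ => Bool) (Bool.rec (motive := fun _ => Bool) (lDef P (nat_lit 13) (Nat.mod (T_w u) M) u) (lF3 T_b T_wi T_bi M (Nat.sub (T_w u) (Nat.mod (T_w u) M)) (Nat.mod (T_w u) M) u) (Nat.ble (nat_lit 3) j)) (dp_w_0 j u) (Nat.ble (nat_lit 4) j)) (dp_w_27 j u) (Nat.ble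 (nat_lit 6) j)) (Nat.ble (nat_lit 2) j)
noncomputable def chk_w (j u : ℕ) : Bool :=
  Bool.rec (motive := fun _ => Bool) (disp_w j u) (Nat.ble (Nat.succ (MG u)) A) (Nat.ble A (T_w u))
noncomputable def dp_wi_0 (j u : ℕ) : Bool :=
  Bool.rec (motive := fun _ => Bool) (lF3 T_bi T_w T_b M (Nat.sub (T_wi u) (Nat.mod (T_wi u) M)) (Nat.mod (T_wi u) M) u) (lF3 T_u T_w T_ui M (Nat.sub (T_wi u) (Nat.mod (T_wi u) M)) (Nat.mod (T_wi u) M) u) (Nat.ble (nat_lit 5) j)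
noncomputable def dp_wi_1 (j u : ℕ) : Bool :=
  Bool.rec (motive := fun _ => Bool) (lF3 T_ci T_w T_c M (Nat.sub (T_wi u) (Nat.mod (T_wi u) M)) (Nat.mod (T_wi u) M) u) (lF3 T_ui T_w T_u M (Nat.sub (T_wi u) (Nat.mod (T_wi u) M)) (Nat.mod (T_wi u) M) u) (Nat.ble (nat_lit 8) j)
noncomputable def dp_wi_2 (j u : ℕ) : Bool :=
  Bool.rec (motive := fun _ => Bool) (lF3 T_vi T_w T_v M (Nat.sub (T_wi u) (Nat.mod (T_wi u) M)) (Nat.mod (T_wi u) M) u) (lS MG [T_w] M (Nat.sub (T_wi u) (Nat.mod (T_wi u) M)) (nat_lit 40) (Nat.mod (T_wi u) M) u) (Nat.ble (nat_lit 10) j)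
noncomputable def dp_wi_3 (j u : ℕ) : Bool :=
  Bool.rec (motive := fun _ => Bool) (lF [T_ci, T_ui, T_c, T_u] M (Nat.sub (T_wi u) (Nat.mod (T_wi u) M)) (Nat.mod (T_wi u) M) u) (lF [T_ai, T_w, T_a, T_wi] M (Nat.sub (T_wi u) (Nat.mod (T_wi u) M)) (Nat.mod (T_wi u) M) u) (Nat.ble (nat_lit 14) j)
noncomputable def dp_wi_4 (j u : ℕ) : Bool :=
  Bool.rec (motive := fun _ => Bool) (lF [T_a, T_w, T_w, T_ai] M (Nat.sub (T_wi u) (Nat.mod (T_wi u) M)) (Nat.mod (T_wi u) M) u) (dp_wi_3 j u) (Nat.ble (nat_lit 13) j)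
noncomputable def dp_wi_5 (j u : ℕ) : Bool :=
  Bool.rec (motive := fun _ => Bool) (lS MG [T_c, T_w, T_ci] M (Nat.sub (T_wi u) (Nat.mod (T_wi u) M)) (nat_lit 40) (Nat.mod (T_wi u) M) u) (lF [T_ci, T_vi, T_c, T_v, T_wi] M (Nat.sub (T_wi u) (Nat.mod (T_wi u) M)) (Nat.mod (T_wi u) M) u) (Nat.ble (nat_lit 18) j)
noncomputable def dp_wi_6 (j u : ℕ) : Bool :=
  Bool.rec (motive := fun _ => Bool) (lF [T_wi, T_ai, T_w, T_a] M (Nat.sub (T_wi u) (Nat.mod (T_wi u) M)) (Nat.mod (T_wi u) M) u) (dp_wi_5 j u) (Nat.ble (nat_lit 17) j)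
noncomputable def dp_wi_7 (j u : ℕ) : Bool :=
  Bool.rec (motive := fun _ => Bool) (lF [T_e, T_c, T_bi, T_ci, T_b, T_c, T_vi, T_e] M (Nat.sub (T_wi u) (Nat.mod (T_wi u) M)) (Nat.mod (T_wi u) M) u) (dp_wi_6 j u) (Nat.ble (nat_lit 16) j)
noncomputable def dp_wi_8 (j u : ℕ) : Bool :=
  Bool.rec (motive := fun _ => Bool) (lS MG [T_ci, T_w, T_c] M (Nat.sub (T_wi u) (Nat.mod (T_wi u) M)) (nat_lit 40) (Nat.mod (T_wi u) M) u) (lF [T_wi, T_wi, T_wi, T_wi] M (Nat.sub (T_wi u) (Nat.mod (T_wi u) M)) (Nat.mod (T_wi u) M) u) (Nat.ble (nat_lit 20) j)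
noncomputable def dp_wi_9 (j u : ℕ) : Bool :=
  Bool.rec (motive := fun _ => Bool) (lS MG [T_u, T_w, T_ui] M (Nat.sub (T_wi u) (Nat.mod (T_wi u) M)) (nat_lit 40) (Nat.mod (T_wi u) M) u) (lS MG [T_vi, T_w, T_v] M (Nat.sub (T_wi u) (Nat.mod (T_wi u) M)) (nat_lit 40) (Nat.mod (T_wi u) M) u) (Nat.ble (nat_lit 23) j)
noncomputable def dp_wi_10 (j u : ℕ) : Bool :=
  Bool.rec (motive := fun _ => Bool) (lS MG [T_b, T_w, T_bi] M (Nat.sub (T_wi u) (Nat.mod (T_wi u) M)) (nat_lit 40) (Nat.mod (T_wi u) M) u) (dp_wi_9 j u) (Nat.ble (nat_lit 22) j)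
noncomputable def dp_wi_11 (j u : ℕ) : Bool :=
  Bool.rec (motive := fun _ => Bool) (dp_wi_8 j u) (dp_wi_10 j u) (Nat.ble (nat_lit 21) j)
noncomputable def dp_wi_12 (j u : ℕ) : Bool :=
  Bool.rec (motive := fun _ => Bool) (lS MG [T_ci, T_vi, T_c, T_v, T_wi] M (Nat.sub (T_wi u) (Nat.mod (T_wi u) M)) (nat_lit 40) (Nat.mod (T_wi u) M) u) (lS MG [T_v, T_w, T_vi] M (Nat.sub (T_wi u) (Nat.mod (T_wi u) M)) (nat_lit 40) (Nat.mod (T_wi u) M) u) (Nat.ble (nat_lit 26) j)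
noncomputable def dp_wi_13 (j u : ℕ) : Bool :=
  Bool.rec (motive := fun _ => Bool) (lF [T_wi, T_ci, T_vi, T_c, T_v] M (Nat.sub (T_wi u) (Nat.mod (T_wi u) M)) (Nat.mod (T_wi u) M) u) (dp_wi_12 j u) (Nat.ble (nat_lit 25) j)
noncomputable def dp_wi_14 (j u : ℕ) : Bool :=
  Bool.rec (motive := fun _ => Bool) (lS MG [T_ui, T_w, T_u] M (Nat.sub (T_wi u) (Nat.mod (T_wi u) M)) (nat_lit 40) (Nat.mod (T_wi u) M) u) (lF [T_vi, T_bi, T_ci, T_b, T_v, T_bi, T_c, T_b] M (Nat.sub (T_wi u) (Nat.mod (T_wi u) M)) (Nat.mod (T_wi u) M) u) (Nat.ble (nat_lit 28) j)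
noncomputable def dp_wi_15 (j u : ℕ) : Bool :=
  Bool.rec (motive := fun _ => Bool) (lS MG [T_bi, T_w, T_b] M (Nat.sub (T_wi u) (Nat.mod (T_wi u) M)) (nat_lit 40) (Nat.mod (T_wi u) M) u) (lS MG [T_ai, T_w, T_a, T_wi] M (Nat.sub (T_wi u) (Nat.mod (T_wi u) M)) (nat_lit 40) (Nat.mod (T_wi u) M) u) (Nat.ble (nat_lit 30) j)
noncomputable def dp_wi_16 (j u : ℕ) : Bool :=
  Bool.rec (motive := fun _ => Bool) (lS MG [T_e, T_c, T_bi, T_ci, T_b, T_c, T_vi, T_e] M (Nat.sub (T_wi u) (Nat.mod (T_wi u) M)) (nat_lit 40) (Nat.mod (T_wi u) M) u) (lF [T_di, T_a, T_a, T_wi, T_di, T_w, T_di] M (Nat.sub (T_wi u) (Nat.mod (T_wi u) M)) (Nat.mod (T_wi u) M) u) (Nat.ble (nat_lit 33) j)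
noncomputable def dp_wi_17 (j u : ℕ) : Bool :=
  Bool.rec (motive := fun _ => Bool) (lF [T_d, T_w, T_ai, T_ai, T_d, T_w, T_d] M (Nat.sub (T_wi u) (Nat.mod (T_wi u) M)) (Nat.mod (T_wi u) M) u) (dp_wi_16 j u) (Nat.ble (nat_lit 32) j)
noncomputable def dp_wi_18 (j u : ℕ) : Bool :=
  Bool.rec (motive := fun _ => Bool) (dp_wi_15 j u) (dp_wi_17 j u) (Nat.ble (nat_lit 31) j)
noncomputable def dp_wi_19 (j u : ℕ) : Bool :=
  Bool.rec (motive := fun _ => Bool) (dp_wi_14 j u) (dp_wi_18 j u) (Nat.ble (nat_lit 29) j)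
noncomputable def dp_wi_20 (j u : ℕ) : Bool :=
  Bool.rec (motive := fun _ => Bool) (dp_wi_13 j u) (dp_wi_19 j u) (Nat.ble (nat_lit 27) j)
noncomputable def dp_wi_21 (j u : ℕ) : Bool :=
  Bool.rec (motive := fun _ => Bool) (dp_wi_11 j u) (dp_wi_20 j u) (Nat.ble (nat_lit 24) j)
noncomputable def dp_wi_22 (j u : ℕ) : Bool :=
  Bool.rec (motive := fun _ => Bool) (dp_wi_7 j u) (dp_wi_21 j u) (Nat.ble (nat_lit 19) j)
noncomputable def dp_wi_23 (j u : ℕ) : Bool :=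
  Bool.rec (motive := fun _ => Bool) (dp_wi_4 j u) (dp_wi_22 j u) (Nat.ble (nat_lit 15) j)
noncomputable def dp_wi_24 (j u : ℕ) : Bool :=
  Bool.rec (motive := fun _ => Bool) (lF3 T_v T_w T_vi M (Nat.sub (T_wi u) (Nat.mod (T_wi u) M)) (Nat.mod (T_wi u) M) u) (dp_wi_23 j u) (Nat.ble (nat_lit 12) j)
noncomputable def dp_wi_25 (j u : ℕ) : Bool :=
  Bool.rec (motive := fun _ => Bool) (dp_wi_2 j u) (dp_wi_24 j u) (Nat.ble (nat_lit 11) j)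
noncomputable def dp_wi_26 (j u : ℕ) : Bool :=
  Bool.rec (motive := fun _ => Bool) (Bool.rec (motive := fun _ => Bool) (lF3 T_c T_w T_ci M (Nat.sub (T_wi u) (Nat.mod (T_wi u) M)) (Nat.mod (T_wi u) M) u) (dp_wi_1 j u) (Nat.ble (nat_lit 7) j)) (dp_wi_25 j u) (Nat.ble (nat_lit 9) j)
noncomputable def disp_wi (j u : ℕ) : Bool :=
  Bool.rec (motive := fun _ => Bool) (Bool.rec (motive := fun _ => Bool) (lF1 T_w M (Nat.sub (T_wi u) (Nat.mod (T_wi u) M)) (Nat.mod (T_wi u) M) u) (lDef P (nat_lit 14) (Nat.mod (T_wi u) M) u) (Nat.ble (nat_lit 1) j)) (Bool.rec (motive := fun _ => Bool) (Bool.rec (motive := fun _ => Bool) (Bool.rec (motive := fun _ => Bool) (lDef P (nat_lit 13) u (Nat.mod (T_wi u) M)) (lF3 T_b T_w T_bi M (Nat.sub (T_wi u) (Nat.mod (T_wi u) M)) (Nat.mod (T_wi u) M) u) (Nat.ble (nat_lit 3) j)) (dp_wi_0 j u) (Nat.ble (nat_lit 4) j)) (dp_wi_26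 j u) (Nat.ble (nat_lit 6) j)) (Nat.ble (nat_lit 2) j)
noncomputable def chk_wi (j u : ℕ) : Bool :=
  Bool.rec (motive := fun _ => Bool) (disp_wi j u) (Nat.ble (Nat.succ (MG u)) A) (Nat.ble A (T_wi u))
noncomputable def dM_0 (j z1 z2 u : ℕ) : Bool :=
  Bool.rec (motive := fun _ => Bool) (Bool.rec (motive := fun _ => Bool) (Bool.rec (motive := fun _ => Bool) (mCo MG T_a M (Nat.sub (MG u) (Nat.mod (MG u) M)) (nat_lit 40) z1 z2 u (Nat.mod (MG u) M)) (mCo MG T_bi M (Nat.sub (MG u) (Nat.mod (MG u) M)) (nat_lit 40) z1 z2 u (Nat.mod (MG u) M)) (Nat.ble (nat_lit 1) j)) (Bool.rec (motive := fun _ => Bool) (mCo MG T_b M (Nat.sub (MG u) (Nat.mod (MG u) M)) (nat_lit 40) z1 z2 u (Nat.mod (MG u) M)) (mCo MG T_v M (Nat.sub (MG u) (Nat.mod (MG u) M)) (nat_lit 40) z1 z2 u (Nat.mod (MG u) M)) (Nat.ble (nat_lit 3) j)) (Nat.ble (nat_lit 2) j)) (Bool.rec (motive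 := fun _ => Bool) (Bool.rec (motive := fun _ => Bool) (mRel MG [T_di, T_bi] [T_bi, T_di] M (Nat.sub (MG u) (Nat.mod (MG u) M)) (nat_lit 40) z1 u (Nat.mod (MG u) M)) (Bool.rec (motive := fun _ => Bool) (mCo MG T_ui M (Nat.sub (MG u) (Nat.mod (MG u) M)) (nat_lit 40) z1 z2 u (Nat.mod (MG u) M)) (mRel MG [T_a, T_a, T_a, T_di] [T_ai, T_d] M (Nat.sub (MG u) (Nat.mod (MG u) M)) (nat_lit 40) z1 u (Nat.mod (MG u) M)) (Nat.ble (nat_lit 6) j)) (Nat.ble (nat_lit 5) j)) (Bool.rec (motive := fun _ => Bool) (mCo MG T_ai M (Nat.sub (MG u) (Nat.mod (MG u) M)) (nat_lit 40) z1 z2 u (Nat.mod (MG u) M)) (Bool.rec (motive := fun _ => Bool) (mCo MG T_d M (Nat.sub (MG u) (Nat.mod (MG u) M)) (nat_lit 40) z1 z2 u (Nat.mod (MG u) M)) (mCo MG T_ci M (Nat.sub (MG u) (Nat.mod (MG u) M)) (nat_lit 40) z1 z2 u (Nat.mod (MG u) M)) (Nat.ble (nat_lit 9) j)) (Nat.ble (nat_lit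 8) j)) (Nat.ble (nat_lit 7) j)) (Nat.ble (nat_lit 4) j)
noncomputable def dM_1 (j z1 z2 u : ℕ) : Bool :=
  Bool.rec (motive := fun _ => Bool) (Bool.rec (motive := fun _ => Bool) (mCo MG T_e M (Nat.sub (MG u) (Nat.mod (MG u) M)) (nat_lit 40) z1 z2 u (Nat.mod (MG u) M)) (Bool.rec (motive := fun _ => Bool) (mCo MG T_di M (Nat.sub (MG u) (Nat.mod (MG u) M)) (nat_lit 40) z1 z2 u (Nat.mod (MG u) M)) (mCo MG T_c M (Nat.sub (MG u) (Nat.mod (MG u) M)) (nat_lit 40) z1 z2 u (Nat.mod (MG u) M)) (Nat.ble (nat_lit 12) j)) (Nat.ble (nat_lit 11) j)) (Bool.rec (motive := fun _ => Bool) (Bool.rec (motive := fun _ => Bool) (mRel MG [T_u, T_ai] [T_ai, T_c] M (Nat.sub (MG u) (Nat.mod (MG u) M)) (nat_lit 40) z1 u (Nat.mod (MG u) M)) (mCo MG T_vi M (Nat.sub (MG u) (Nat.mod (MG u) M)) (nat_lit 40) z1 z2 u (Nat.mod (MG u) M)) (Nat.ble (nat_lit 14) j)) (Bool.rec (motive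 := fun _ => Bool) (mRel MG [T_d, T_b, T_di] [T_b] M (Nat.sub (MG u) (Nat.mod (MG u) M)) (nat_lit 40) z1 u (Nat.mod (MG u) M)) (mCo MG T_u M (Nat.sub (MG u) (Nat.mod (MG u) M)) (nat_lit 40) z1 z2 u (Nat.mod (MG u) M)) (Nat.ble (nat_lit 16) j)) (Nat.ble (nat_lit 15) j)) (Nat.ble (nat_lit 13) j)
noncomputable def dM_2 (j z1 z2 u : ℕ) : Bool :=
  Bool.rec (motive := fun _ => Bool) (Bool.rec (motive := fun _ => Bool) (Bool.rec (motive := fun _ => Bool) (mRel MG [T_d, T_bi] [T_bi, T_d] M (Nat.sub (MG u) (Nat.mod (MG u) M)) (nat_lit 40) z1 u (Nat.mod (MG u) M)) (mCo MG T_wi M (Nat.sub (MG u) (Nat.mod (MG u) M)) (nat_lit 40) z1 z2 u (Nat.mod (MG u) M)) (Nat.ble (nat_lit 18) j)) (Bool.rec (motive := fun _ => Bool) (mRel MG [T_d, T_b] [T_b, T_d] M (Nat.sub (MG u) (Nat.mod (MG u) M)) (nat_lit 40) z1 u (Nat.mod (MG u) M)) (Bool.rec (motive := fun _ =>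 Bool) (mRel MG [T_di, T_b] [T_b, T_di] M (Nat.sub (MG u) (Nat.mod (MG u) M)) (nat_lit 40) z1 u (Nat.mod (MG u) M)) (mCo MG T_w M (Nat.sub (MG u) (Nat.mod (MG u) M)) (nat_lit 40) z1 z2 u (Nat.mod (MG u) M)) (Nat.ble (nat_lit 21) j)) (Nat.ble (nat_lit 20) j)) (Nat.ble (nat_lit 19) j)) (Bool.rec (motive := fun _ => Bool) (Bool.rec (motive := fun _ => Bool) (mRel MG [T_wi, T_c] [T_c, T_wi] M (Nat.sub (MG u) (Nat.mod (MG u) M)) (nat_lit 40) z1 u (Nat.mod (MG u) M)) (Bool.rec (motive := fun _ => Bool) (mRel MG [T_di, T_bi, T_d] [T_bi] M (Nat.sub (MG u) (Nat.mod (MG u) M)) (nat_lit 40) z1 u (Nat.mod (MG u) M)) (mRel MG [T_bi, T_w] [T_w, T_bi] M (Nat.sub (MG u) (Nat.mod (MG u) M)) (nat_lit 40) z1 u (Nat.mod (MG u) M)) (Nat.ble (nat_lit 24) j)) (Nat.ble (nat_lit 23) j)) (Bool.rec (motive := fun _ => Bool) (Bool.rec (motive := fun _ => Bool) (mRel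 MG [T_a, T_di] [T_ai, T_ai, T_ai, T_d] M (Nat.sub (MG u) (Nat.mod (MG u) M)) (nat_lit 40) z1 u (Nat.mod (MG u) M)) (mRel MG [T_a, T_a, T_a, T_a, T_di] [T_d] M (Nat.sub (MG u) (Nat.mod (MG u) M)) (nat_lit 40) z1 u (Nat.mod (MG u) M)) (Nat.ble (nat_lit 26) j)) (Bool.rec (motive := fun _ => Bool) (mRel MG [T_wi, T_b] [T_b, T_wi] M (Nat.sub (MG u) (Nat.mod (MG u) M)) (nat_lit 40) z1 u (Nat.mod (MG u) M)) (mRel MG [T_ai, T_ai, T_d] [T_a, T_a, T_di] M (Nat.sub (MG u) (Nat.mod (MG u) M)) (nat_lit 40) z1 u (Nat.mod (MG u) M)) (Nat.ble (nat_lit 28) j)) (Nat.ble (nat_lit 27) j)) (Nat.ble (nat_lit 25) j)) (Nat.ble (nat_lit 22) j)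
noncomputable def dM_3 (j z1 z2 u : ℕ) : Bool :=
  Bool.rec (motive := fun _ => Bool) (dM_1 j z1 z2 u) (dM_2 j z1 z2 u) (Nat.ble (nat_lit 17) j)
noncomputable def dM_4 (j z1 z2 u : ℕ) : Bool :=
  Bool.rec (motive := fun _ => Bool) (dM_0 j z1 z2 u) (dM_3 j z1 z2 u) (Nat.ble (nat_lit 10) j)
noncomputable def dM_5 (j z1 z2 u : ℕ) : Bool :=
  Bool.rec (motive := fun _ => Bool) (Bool.rec (motive := fun _ => Bool) (Bool.rec (motive := fun _ => Bool) (mRel MG [T_ci, T_a, T_u] [T_a] M (Nat.sub (MG u) (Nat.mod (MG u) M)) (nat_lit 40) z1 u (Nat.mod (MG u) M)) (mRel MG [T_d, T_bi, T_di] [T_bi] M (Nat.sub (MG u) (Nat.mod (MG u) M)) (nat_lit 40) z1 u (Nat.mod (MG u) M)) (Nat.ble (nat_lit 30) j)) (Bool.rec (motive := fun _ => Bool) (mRel MG [T_di, T_b, T_d] [T_b] M (Nat.sub (MG u) (Nat.mod (MG u) M)) (nat_lit 40) z1 u (Nat.mod (MG u) M)) (mRel MG [T_wi,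 T_ci] [T_ci, T_wi] M (Nat.sub (MG u) (Nat.mod (MG u) M)) (nat_lit 40) z1 u (Nat.mod (MG u) M)) (Nat.ble (nat_lit 32) j)) (Nat.ble (nat_lit 31) j)) (Bool.rec (motive := fun _ => Bool) (Bool.rec (motive := fun _ => Bool) (mRel MG [T_ui, T_vi] [T_vi, T_ui] M (Nat.sub (MG u) (Nat.mod (MG u) M)) (nat_lit 40) z1 u (Nat.mod (MG u) M)) (mRel MG [T_di] [T_ai, T_ai, T_ai, T_ai, T_d] M (Nat.sub (MG u) (Nat.mod (MG u) M)) (nat_lit 40) z1 u (Nat.mod (MG u) M)) (Nat.ble (nat_lit 34) j)) (Bool.rec (motive := fun _ => Bool) (mRel MG [T_ai, T_ai, T_ai, T_ai, T_d] [T_di] M (Nat.sub (MG u) (Nat.mod (MG u) M)) (nat_lit 40) z1 u (Nat.mod (MG u) M)) (mRel MG [T_ui, T_w, T_u] [T_w] M (Nat.sub (MG u) (Nat.mod (MG u) M)) (nat_lit 40) z1 u (Nat.mod (MG u) M)) (Nat.ble (nat_lit 36) j)) (Nat.ble (nat_lit 35) j)) (Nat.ble (nat_lit 33) j)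
noncomputable def dM_6 (j z1 z2 u : ℕ) : Bool :=
  Bool.rec (motive := fun _ => Bool) (Bool.rec (motive := fun _ => Bool) (Bool.rec (motive := fun _ => Bool) (mRel MG [T_a, T_a, T_di] [T_ai, T_ai, T_d] M (Nat.sub (MG u) (Nat.mod (MG u) M)) (nat_lit 40) z1 u (Nat.mod (MG u) M)) (mRel MG [T_ci, T_bi] [T_bi, T_vi] M (Nat.sub (MG u) (Nat.mod (MG u) M)) (nat_lit 40) z1 u (Nat.mod (MG u) M)) (Nat.ble (nat_lit 38) j)) (Bool.rec (motive := fun _ => Bool) (mRel MG [T_vi, T_w] [T_w, T_vi] M (Nat.sub (MG u) (Nat.mod (MG u) M)) (nat_lit 40) z1 u (Nat.mod (MG u) M)) (mRel MG [T_w, T_b] [T_b, T_w] M (Nat.sub (MG u) (Nat.mod (MG u) M)) (nat_lit 40) z1 u (Nat.mod (MG u) M)) (Nat.ble (nat_lit 40) j)) (Nat.ble (nat_lit 39) j)) (Bool.rec (motive := fun _ => Bool) (Bool.rec (motive := fun _ => Bool) (mRel MG [T_ai, T_ai, T_ai, T_d] [T_a, T_di] M (Nat.sub (MG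 u) (Nat.mod (MG u) M)) (nat_lit 40) z1 u (Nat.mod (MG u) M)) (Bool.rec (motive := fun _ => Bool) (mRel MG [T_ai, T_c] [T_u, T_ai] M (Nat.sub (MG u) (Nat.mod (MG u) M)) (nat_lit 40) z1 u (Nat.mod (MG u) M)) (mRel MG [T_ai, T_ai, T_di] [T_a, T_di, T_ai] M (Nat.sub (MG u) (Nat.mod (MG u) M)) (nat_lit 40) z1 u (Nat.mod (MG u) M)) (Nat.ble (nat_lit 43) j)) (Nat.ble (nat_lit 42) j)) (Bool.rec (motive := fun _ => Bool) (mRel MG [T_w, T_v] [T_v, T_w] M (Nat.sub (MG u) (Nat.mod (MG u) M)) (nat_lit 40) z1 u (Nat.mod (MG u) M)) (Bool.rec (motive := fun _ => Bool) (mRel MG [T_bi, T_di] [T_di, T_bi] M (Nat.sub (MG u) (Nat.mod (MG u) M)) (nat_lit 40) z1 u (Nat.mod (MG u) M)) (mRel MG [T_bi, T_d] [T_d, T_bi] M (Nat.sub (MG u) (Nat.mod (MG u) M)) (nat_lit 40) z1 u (Nat.mod (MG u) M)) (Nat.ble (nat_lit 46) j)) (Nat.ble (nat_lit 45) j)) (Nat.ble (nat_lit 44)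 j)) (Nat.ble (nat_lit 41) j)
noncomputable def dM_7 (j z1 z2 u : ℕ) : Bool :=
  Bool.rec (motive := fun _ => Bool) (dM_5 j z1 z2 u) (dM_6 j z1 z2 u) (Nat.ble (nat_lit 37) j)
noncomputable def dM_8 (j z1 z2 u : ℕ) : Bool :=
  Bool.rec (motive := fun _ => Bool) (Bool.rec (motive := fun _ => Bool) (Bool.rec (motive := fun _ => Bool) (mRel MG [T_w, T_bi, T_wi] [T_bi] M (Nat.sub (MG u) (Nat.mod (MG u) M)) (nat_lit 40) z1 u (Nat.mod (MG u) M)) (Bool.rec (motive := fun _ => Bool) (mRel MG [T_ci, T_a] [T_a, T_ui] M (Nat.sub (MG u) (Nat.mod (MG u) M)) (nat_lit 40) z1 u (Nat.mod (MG u) M)) (mRel MG [T_wi, T_vi, T_w] [T_vi] M (Nat.sub (MG u) (Nat.mod (MG u) M)) (nat_lit 40) z1 u (Nat.mod (MG u) M)) (Nat.ble (nat_lit 49) j)) (Nat.ble (nat_lit 48) j)) (Bool.rec (motive := fun _ => Bool) (mRel MG [T_v, T_b] [T_b, T_c] M (Nat.sub (MG u) (Nat.mod (MG u)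 M)) (nat_lit 40) z1 u (Nat.mod (MG u) M)) (Bool.rec (motive := fun _ => Bool) (mRel MG [T_w, T_ci] [T_ci, T_w] M (Nat.sub (MG u) (Nat.mod (MG u) M)) (nat_lit 40) z1 u (Nat.mod (MG u) M)) (mRel MG [T_b, T_b, T_ci, T_e, T_ci] [T_ci, T_e] M (Nat.sub (MG u) (Nat.mod (MG u) M)) (nat_lit 40) z1 u (Nat.mod (MG u) M)) (Nat.ble (nat_lit 52) j)) (Nat.ble (nat_lit 51) j)) (Nat.ble (nat_lit 50) j)) (Bool.rec (motive := fun _ => Bool) (Bool.rec (motive := fun _ => Bool) (mRel MG [T_u, T_ai, T_ci] [T_ai] M (Nat.sub (MG u) (Nat.mod (MG u) M)) (nat_lit 40) z1 u (Nat.mod (MG u) M)) (Bool.rec (motive := fun _ => Bool) (mRel MG [T_bi, T_vi] [T_ci, T_bi] M (Nat.sub (MG u) (Nat.mod (MG u) M)) (nat_lit 40) z1 u (Nat.mod (MG u) M)) (mRel MG [T_c, T_a] [T_a, T_u] M (Nat.sub (MG u) (Nat.mod (MG u) M)) (nat_lit 40) z1 u (Nat.mod (MG u) M)) (Nat.ble (nat_lit 55) j))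 (Nat.ble (nat_lit 54) j)) (Bool.rec (motive := fun _ => Bool) (mRel MG [T_ui, T_wi, T_u] [T_wi] M (Nat.sub (MG u) (Nat.mod (MG u) M)) (nat_lit 40) z1 u (Nat.mod (MG u) M)) (Bool.rec (motive := fun _ => Bool) (mRel MG [T_b, T_c] [T_v, T_b] M (Nat.sub (MG u) (Nat.mod (MG u) M)) (nat_lit 40) z1 u (Nat.mod (MG u) M)) (mRel MG [T_a, T_u] [T_c, T_a] M (Nat.sub (MG u) (Nat.mod (MG u) M)) (nat_lit 40) z1 u (Nat.mod (MG u) M)) (Nat.ble (nat_lit 58) j)) (Nat.ble (nat_lit 57) j)) (Nat.ble (nat_lit 56) j)) (Nat.ble (nat_lit 53) j)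
noncomputable def dM_9 (j z1 z2 u : ℕ) : Bool :=
  Bool.rec (motive := fun _ => Bool) (Bool.rec (motive := fun _ => Bool) (mRel MG [T_wi, T_v] [T_v, T_wi] M (Nat.sub (MG u) (Nat.mod (MG u) M)) (nat_lit 40) z1 u (Nat.mod (MG u) M)) (Bool.rec (motive := fun _ => Bool) (mRel MG [T_ui, T_ai] [T_ai, T_ci] M (Nat.sub (MG u) (Nat.mod (MG u) M)) (nat_lit 40) z1 u (Nat.mod (MG u) M)) (mRel MG [T_w, T_ci, T_wi] [T_ci] M (Nat.sub (MG u) (Nat.mod (MG u) M)) (nat_lit 40) z1 u (Nat.mod (MG u) M)) (Nat.ble (nat_lit 61) j)) (Nat.ble (nat_lit 60) j)) (Bool.rec (motive := fun _ => Bool) (Bool.rec (motive := fun _ => Bool) (mRel MG [T_ui, T_v] [T_v, T_ui] M (Nat.sub (MG u) (Nat.mod (MG u) M)) (nat_lit 40) z1 u (Nat.mod (MG u) M)) (mRel MG [T_b, T_v, T_e, T_vi] [T_c, T_bi, T_e] M (Nat.sub (MG u) (Nat.mod (MG u) M)) (nat_lit 40) z1 u (Nat.mod (MG u) M)) (Nat.ble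 (nat_lit 63) j)) (Bool.rec (motive := fun _ => Bool) (mRel MG [T_wi, T_c, T_w] [T_c] M (Nat.sub (MG u) (Nat.mod (MG u) M)) (nat_lit 40) z1 u (Nat.mod (MG u) M)) (Bool.rec (motive := fun _ => Bool) (mRel MG [T_u, T_wi] [T_wi, T_u] M (Nat.sub (MG u) (Nat.mod (MG u) M)) (nat_lit 40) z1 u (Nat.mod (MG u) M)) (mRel MG [T_u, T_wi, T_ui] [T_wi] M (Nat.sub (MG u) (Nat.mod (MG u) M)) (nat_lit 40) z1 u (Nat.mod (MG u) M)) (Nat.ble (nat_lit 66) j)) (Nat.ble (nat_lit 65) j)) (Nat.ble (nat_lit 64) j)) (Nat.ble (nat_lit 62) j)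
noncomputable def dM_10 (j z1 z2 u : ℕ) : Bool :=
  Bool.rec (motive := fun _ => Bool) (Bool.rec (motive := fun _ => Bool) (Bool.rec (motive := fun _ => Bool) (mRel MG [T_d] [T_a, T_a, T_a, T_a, T_di] M (Nat.sub (MG u) (Nat.mod (MG u) M)) (nat_lit 40) z1 u (Nat.mod (MG u) M)) (mRel MG [T_wi, T_bi, T_w] [T_bi] M (Nat.sub (MG u) (Nat.mod (MG u) M)) (nat_lit 40) z1 u (Nat.mod (MG u) M)) (Nat.ble (nat_lit 68) j)) (Bool.rec (motive := fun _ => Bool) (mRel MG [T_ci, T_w] [T_w, T_ci] M (Nat.sub (MG u) (Nat.mod (MG u) M)) (nat_lit 40) z1 u (Nat.mod (MG u) M)) (Bool.rec (motive := fun _ => Bool) (mRel MG [T_d, T_a, T_a, T_a, T_di] [T_a] M (Nat.sub (MG u) (Nat.mod (MG u) M)) (nat_lit 40) z1 u (Nat.mod (MG u) M)) (mRel MG [T_vi, T_ui] [T_ui, T_vi] M (Nat.sub (MG u) (Nat.mod (MG u) M)) (nat_lit 40) z1 u (Nat.mod (MG u) M)) (Nat.ble (nat_lit 71) j)) (Nat.ble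 (nat_lit 70) j)) (Nat.ble (nat_lit 69) j)) (Bool.rec (motive := fun _ => Bool) (Bool.rec (motive := fun _ => Bool) (mRel MG [T_u, T_vi] [T_vi, T_u] M (Nat.sub (MG u) (Nat.mod (MG u) M)) (nat_lit 40) z1 u (Nat.mod (MG u) M)) (mRel MG [T_ai, T_ai, T_ai, T_d, T_d] [T_a] M (Nat.sub (MG u) (Nat.mod (MG u) M)) (nat_lit 40) z1 u (Nat.mod (MG u) M)) (Nat.ble (nat_lit 73) j)) (Bool.rec (motive := fun _ => Bool) (mRel MG [T_c, T_bi, T_vi] [T_bi] M (Nat.sub (MG u) (Nat.mod (MG u) M)) (nat_lit 40) z1 u (Nat.mod (MG u) M)) (Bool.rec (motive := fun _ => Bool) (mRel MG [T_ui, T_wi] [T_wi, T_ui] M (Nat.sub (MG u) (Nat.mod (MG u) M)) (nat_lit 40) z1 u (Nat.mod (MG u) M)) (mRel MG [T_bi, T_ai, T_ai] [T_ai, T_ai, T_bi] M (Nat.sub (MG u) (Nat.mod (MG u) M)) (nat_lit 40) z1 u (Nat.mod (MG u) M)) (Nat.ble (nat_lit 76) j)) (Nat.ble (nat_lit 75) j)) (Nat.ble (nat_lit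 74) j)) (Nat.ble (nat_lit 72) j)
noncomputable def dM_11 (j z1 z2 u : ℕ) : Bool :=
  Bool.rec (motive := fun _ => Bool) (dM_9 j z1 z2 u) (dM_10 j z1 z2 u) (Nat.ble (nat_lit 67) j)
noncomputable def dM_12 (j z1 z2 u : ℕ) : Bool :=
  Bool.rec (motive := fun _ => Bool) (dM_8 j z1 z2 u) (dM_11 j z1 z2 u) (Nat.ble (nat_lit 59) j)
noncomputable def dM_13 (j z1 z2 u : ℕ) : Bool :=
  Bool.rec (motive := fun _ => Bool) (dM_7 j z1 z2 u) (dM_12 j z1 z2 u) (Nat.ble (nat_lit 47) j)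
noncomputable def dM_14 (j z1 z2 u : ℕ) : Bool :=
  Bool.rec (motive := fun _ => Bool) (Bool.rec (motive := fun _ => Bool) (Bool.rec (motive := fun _ => Bool) (mRel MG [T_b, T_v, T_e] [T_c, T_bi, T_e, T_v] M (Nat.sub (MG u) (Nat.mod (MG u) M)) (nat_lit 40) z1 u (Nat.mod (MG u) M)) (mRel MG [T_e, T_c, T_b, T_b, T_ci] [T_c, T_e] M (Nat.sub (MG u) (Nat.mod (MG u) M)) (nat_lit 40) z1 u (Nat.mod (MG u) M)) (Nat.ble (nat_lit 78) j)) (Bool.rec (motive := fun _ => Bool) (mRel MG [T_v, T_wi, T_vi] [T_wi] M (Nat.sub (MG u) (Nat.mod (MG u) M)) (nat_lit 40) z1 u (Nat.mod (MG u) M)) (mRel MG [T_ui, T_ai, T_c] [T_ai] M (Nat.sub (MG u) (Nat.mod (MG u) M)) (nat_lit 40) z1 u (Nat.mod (MG u) M)) (Nat.ble (nat_lit 80) j)) (Nat.ble (nat_lit 79) j)) (Bool.rec (motive := fun _ => Bool) (Bool.rec (motive := fun _ => Bool) (mRel MG [T_c, T_bi, T_e] [T_b, T_v, T_e,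 T_vi] M (Nat.sub (MG u) (Nat.mod (MG u) M)) (nat_lit 40) z1 u (Nat.mod (MG u) M)) (mRel MG [T_b, T_ci, T_bi] [T_vi] M (Nat.sub (MG u) (Nat.mod (MG u) M)) (nat_lit 40) z1 u (Nat.mod (MG u) M)) (Nat.ble (nat_lit 82) j)) (Bool.rec (motive := fun _ => Bool) (mRel MG [T_v, T_b, T_ci] [T_b] M (Nat.sub (MG u) (Nat.mod (MG u) M)) (nat_lit 40) z1 u (Nat.mod (MG u) M)) (Bool.rec (motive := fun _ => Bool) (mRel MG [T_c, T_w, T_ci] [T_w] M (Nat.sub (MG u) (Nat.mod (MG u) M)) (nat_lit 40) z1 u (Nat.mod (MG u) M)) (mRel MG [T_c, T_w] [T_w, T_c] M (Nat.sub (MG u) (Nat.mod (MG u) M)) (nat_lit 40) z1 u (Nat.mod (MG u) M)) (Nat.ble (nat_lit 85) j)) (Nat.ble (nat_lit 84) j)) (Nat.ble (nat_lit 83) j)) (Nat.ble (nat_lit 81) j)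
noncomputable def dM_15 (j z1 z2 u : ℕ) : Bool :=
  Bool.rec (motive := fun _ => Bool) (Bool.rec (motive := fun _ => Bool) (Bool.rec (motive := fun _ => Bool) (mRel MG [T_e, T_v, T_e] [T_b, T_ci, T_b, T_v] M (Nat.sub (MG u) (Nat.mod (MG u) M)) (nat_lit 40) z1 u (Nat.mod (MG u) M)) (mRel MG [T_w, T_b, T_wi] [T_b] M (Nat.sub (MG u) (Nat.mod (MG u) M)) (nat_lit 40) z1 u (Nat.mod (MG u) M)) (Nat.ble (nat_lit 87) j)) (Bool.rec (motive := fun _ => Bool) (mRel MG [T_vi, T_b, T_c] [T_b] M (Nat.sub (MG u) (Nat.mod (MG u) M)) (nat_lit 40) z1 u (Nat.mod (MG u) M)) (mRel MG [T_b, T_ci, T_b, T_v] [T_e, T_v, T_e] M (Nat.sub (MG u) (Nat.mod (MG u) M)) (nat_lit 40) z1 u (Nat.mod (MG u) M)) (Nat.ble (nat_lit 89) j)) (Nat.ble (nat_lit 88) j)) (Bool.rec (motive := fun _ => Bool) (Bool.rec (motive := fun _ => Bool) (mRel MG [T_u, T_w] [T_w, T_u] M (Nat.sub (MG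 u) (Nat.mod (MG u) M)) (nat_lit 40) z1 u (Nat.mod (MG u) M)) (mRel MG [T_c, T_wi] [T_wi, T_c] M (Nat.sub (MG u) (Nat.mod (MG u) M)) (nat_lit 40) z1 u (Nat.mod (MG u) M)) (Nat.ble (nat_lit 91) j)) (Bool.rec (motive := fun _ => Bool) (mRel MG [T_b, T_w] [T_w, T_b] M (Nat.sub (MG u) (Nat.mod (MG u) M)) (nat_lit 40) z1 u (Nat.mod (MG u) M)) (Bool.rec (motive := fun _ => Bool) (mRel MG [T_c, T_b, T_b, T_ci, T_e] [T_e, T_c] M (Nat.sub (MG u) (Nat.mod (MG u) M)) (nat_lit 40) z1 u (Nat.mod (MG u) M)) (mRel MG [T_e, T_c] [T_c, T_b, T_b, T_ci, T_e] M (Nat.sub (MG u) (Nat.mod (MG u) M)) (nat_lit 40) z1 u (Nat.mod (MG u) M)) (Nat.ble (nat_lit 94) j)) (Nat.ble (nat_lit 93) j)) (Nat.ble (nat_lit 92) j)) (Nat.ble (nat_lit 90) j)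
noncomputable def dM_16 (j z1 z2 u : ℕ) : Bool :=
  Bool.rec (motive := fun _ => Bool) (dM_14 j z1 z2 u) (dM_15 j z1 z2 u) (Nat.ble (nat_lit 86) j)
noncomputable def dM_17 (j z1 z2 u : ℕ) : Bool :=
  Bool.rec (motive := fun _ => Bool) (Bool.rec (motive := fun _ => Bool) (mRel MG [T_c, T_a, T_ui] [T_a] M (Nat.sub (MG u) (Nat.mod (MG u) M)) (nat_lit 40) z1 u (Nat.mod (MG u) M)) (mRel MG [T_bi, T_wi, T_b] [T_wi] M (Nat.sub (MG u) (Nat.mod (MG u) M)) (nat_lit 40) z1 u (Nat.mod (MG u) M)) (Nat.ble (nat_lit 96) j)) (Bool.rec (motive := fun _ => Bool) (mRel MG [T_b, T_di] [T_di, T_b] M (Nat.sub (MG u) (Nat.mod (MG u) M)) (nat_lit 40) z1 u (Nat.mod (MG u) M)) (Bool.rec (motive := fun _ => Bool) (mRel MG [T_a, T_e, T_a, T_ui, T_b] [T_e, T_ai, T_w, T_v, T_c, T_b, T_a, T_bi, T_bi, T_ai, T_d, T_e] M (Nat.sub (MG u) (Nat.mod (MG u) M)) (nat_lit 40) z1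 u (Nat.mod (MG u) M)) (Bool.rec (motive := fun _ => Bool) (mRel MG [T_vi, T_ci, T_vi, T_bi, T_ui, T_b] [T_bi, T_ci, T_b, T_ui] M (Nat.sub (MG u) (Nat.mod (MG u) M)) (nat_lit 40) z1 u (Nat.mod (MG u) M)) (mRel MG [T_wi, T_ci, T_w] [T_ci] M (Nat.sub (MG u) (Nat.mod (MG u) M)) (nat_lit 40) z1 u (Nat.mod (MG u) M)) (Nat.ble (nat_lit 100) j)) (Nat.ble (nat_lit 99) j)) (Nat.ble (nat_lit 98) j)) (Nat.ble (nat_lit 97) j)
noncomputable def dM_18 (j z1 z2 u : ℕ) : Bool :=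
  Bool.rec (motive := fun _ => Bool) (Bool.rec (motive := fun _ => Bool) (Bool.rec (motive := fun _ => Bool) (mRel MG [T_wi, T_ai] [T_w, T_ai, T_wi] M (Nat.sub (MG u) (Nat.mod (MG u) M)) (nat_lit 40) z1 u (Nat.mod (MG u) M)) (mRel MG [T_b, T_b, T_b] [T_bi, T_bi] M (Nat.sub (MG u) (Nat.mod (MG u) M)) (nat_lit 40) z1 u (Nat.mod (MG u) M)) (Nat.ble (nat_lit 102) j)) (Bool.rec (motive := fun _ => Bool) (mRel MG [T_ai, T_b, T_a, T_a] [T_a, T_b] M (Nat.sub (MG u) (Nat.mod (MG u) M)) (nat_lit 40) z1 u (Nat.mod (MG u) M)) (mRel MG [T_a, T_di] [T_ai, T_ai, T_di, T_a] M (Nat.sub (MG u) (Nat.mod (MG u) M)) (nat_lit 40) z1 u (Nat.mod (MG u) M)) (Nat.ble (nat_lit 104) j)) (Nat.ble (nat_lit 103) j)) (Bool.rec (motive := fun _ => Bool) (Bool.rec (motive := fun _ => Bool) (mRel MG [T_ai, T_ai, T_b] [T_b, T_ai, T_ai] M (Nat.sub (MG u) (Nat.mod (MG u) M))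 (nat_lit 40) z1 u (Nat.mod (MG u) M)) (mRel MG [T_a, T_a] [T_ai, T_ai, T_d, T_d] M (Nat.sub (MG u) (Nat.mod (MG u) M)) (nat_lit 40) z1 u (Nat.mod (MG u) M)) (Nat.ble (nat_lit 106) j)) (Bool.rec (motive := fun _ => Bool) (mRel MG [T_b, T_ci, T_b] [T_e, T_v, T_e, T_vi] M (Nat.sub (MG u) (Nat.mod (MG u) M)) (nat_lit 40) z1 u (Nat.mod (MG u) M)) (Bool.rec (motive := fun _ => Bool) (mRel MG [T_wi, T_b, T_w] [T_b] M (Nat.sub (MG u) (Nat.mod (MG u) M)) (nat_lit 40) z1 u (Nat.mod (MG u) M)) (mRel MG [T_b, T_c, T_bi] [T_v] M (Nat.sub (MG u) (Nat.mod (MG u) M)) (nat_lit 40) z1 u (Nat.mod (MG u) M)) (Nat.ble (nat_lit 109) j)) (Nat.ble (nat_lit 108) j)) (Nat.ble (nat_lit 107) j)) (Nat.ble (nat_lit 105) j)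
noncomputable def dM_19 (j z1 z2 u : ℕ) : Bool :=
  Bool.rec (motive := fun _ => Bool) (dM_17 j z1 z2 u) (dM_18 j z1 z2 u) (Nat.ble (nat_lit 101) j)
noncomputable def dM_20 (j z1 z2 u : ℕ) : Bool :=
  Bool.rec (motive := fun _ => Bool) (Bool.rec (motive := fun _ => Bool) (Bool.rec (motive := fun _ => Bool) (mRel MG [T_ci, T_ci, T_ai, T_ui] [T_ai] M (Nat.sub (MG u) (Nat.mod (MG u) M)) (nat_lit 40) z1 u (Nat.mod (MG u) M)) (mRel MG [T_ui, T_w] [T_w, T_ui] M (Nat.sub (MG u) (Nat.mod (MG u) M)) (nat_lit 40) z1 u (Nat.mod (MG u) M)) (Nat.ble (nat_lit 111) j)) (Bool.rec (motive := fun _ => Bool) (mRel MG [T_bi, T_e, T_v, T_e] [T_ci, T_b, T_v] M (Nat.sub (MG u) (Nat.mod (MG u) M)) (nat_lit 40) z1 u (Nat.mod (MG u) M)) (mRel MG [T_b, T_w, T_bi] [T_w] M (Nat.sub (MG u) (Nat.mod (MG u) M)) (nat_lit 40) z1 u (Nat.mod (MG u) M)) (Nat.ble (nat_lit 113)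 j)) (Nat.ble (nat_lit 112) j)) (Bool.rec (motive := fun _ => Bool) (Bool.rec (motive := fun _ => Bool) (mRel MG [T_ci, T_ai, T_v, T_a] [T_ui, T_bi, T_ci, T_b, T_v, T_c, T_v] M (Nat.sub (MG u) (Nat.mod (MG u) M)) (nat_lit 40) z1 u (Nat.mod (MG u) M)) (mRel MG [T_ci, T_e, T_c, T_b, T_b, T_ci] [T_e] M (Nat.sub (MG u) (Nat.mod (MG u) M)) (nat_lit 40) z1 u (Nat.mod (MG u) M)) (Nat.ble (nat_lit 115) j)) (Bool.rec (motive := fun _ => Bool) (mRel MG [T_bi, T_di, T_b, T_d] [] M (Nat.sub (MG u) (Nat.mod (MG u) M)) (nat_lit 40) z1 u (Nat.mod (MG u) M)) (Bool.rec (motive := fun _ => Bool) (mRel MG [T_u, T_vi, T_ui, T_v] [] M (Nat.sub (MG u) (Nat.mod (MG u) M)) (nat_lit 40) z1 u (Nat.mod (MG u) M)) (mRel MG [T_c, T_w, T_ui] [T_ui, T_c] M (Nat.sub (MG u) (Nat.mod (MG u) M)) (nat_lit 40) z1 u (Nat.mod (MG u) M)) (Nat.ble (nat_lit 118) j)) (Nat.ble (nat_lit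 117) j)) (Nat.ble (nat_lit 116) j)) (Nat.ble (nat_lit 114) j)
noncomputable def dM_21 (j z1 z2 u : ℕ) : Bool :=
  Bool.rec (motive := fun _ => Bool) (Bool.rec (motive := fun _ => Bool) (Bool.rec (motive := fun _ => Bool) (mRel MG [T_w, T_vi] [T_vi, T_w] M (Nat.sub (MG u) (Nat.mod (MG u) M)) (nat_lit 40) z1 u (Nat.mod (MG u) M)) (mRel MG [T_bi, T_ci, T_b, T_vi, T_bi, T_c, T_b, T_v] [T_wi] M (Nat.sub (MG u) (Nat.mod (MG u) M)) (nat_lit 40) z1 u (Nat.mod (MG u) M)) (Nat.ble (nat_lit 120) j)) (Bool.rec (motive := fun _ => Bool) (mRel MG [T_b, T_ci] [T_vi, T_b] M (Nat.sub (MG u) (Nat.mod (MG u) M)) (nat_lit 40) z1 u (Nat.mod (MG u) M)) (Bool.rec (motive := fun _ => Bool) (mRel MG [T_bi, T_bi, T_ci, T_e] [T_ci, T_e, T_ci] M (Nat.sub (MG u) (Nat.mod (MG u) M)) (nat_lit 40) z1 u (Nat.mod (MG u) M)) (mRel MG [T_v, T_c, T_w, T_w] [T_c, T_v] M (Nat.sub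 (MG u) (Nat.mod (MG u) M)) (nat_lit 40) z1 u (Nat.mod (MG u) M)) (Nat.ble (nat_lit 123) j)) (Nat.ble (nat_lit 122) j)) (Nat.ble (nat_lit 121) j)) (Bool.rec (motive := fun _ => Bool) (Bool.rec (motive := fun _ => Bool) (mRel MG [T_bi, T_bi, T_bi] [T_b, T_b] M (Nat.sub (MG u) (Nat.mod (MG u) M)) (nat_lit 40) z1 u (Nat.mod (MG u) M)) (mRel MG [T_c, T_b, T_a, T_bi, T_bi, T_ai, T_d, T_e] [T_vi, T_wi, T_a, T_e, T_a, T_e, T_a, T_ui, T_b] M (Nat.sub (MG u) (Nat.mod (MG u) M)) (nat_lit 40) z1 u (Nat.mod (MG u) M)) (Nat.ble (nat_lit 125) j)) (Bool.rec (motive := fun _ => Bool) (mRel MG [T_b, T_a, T_bi, T_a, T_c, T_w, T_vi, T_e, T_ai, T_ai, T_e] [T_bi, T_ai] M (Nat.sub (MG u) (Nat.mod (MG u) M)) (nat_lit 40) z1 u (Nat.mod (MG u) M)) (Bool.rec (motive := fun _ => Bool) (mRel MG [T_b, T_wi, T_bi, T_w] [] M (Nat.sub (MG u) (Nat.mod (MG u) M)) (nat_lit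 40) z1 u (Nat.mod (MG u) M)) (mRel MG [T_wi, T_u, T_w] [T_u] M (Nat.sub (MG u) (Nat.mod (MG u) M)) (nat_lit 40) z1 u (Nat.mod (MG u) M)) (Nat.ble (nat_lit 128) j)) (Nat.ble (nat_lit 127) j)) (Nat.ble (nat_lit 126) j)) (Nat.ble (nat_lit 124) j)
noncomputable def dM_22 (j z1 z2 u : ℕ) : Bool :=
  Bool.rec (motive := fun _ => Bool) (dM_20 j z1 z2 u) (dM_21 j z1 z2 u) (Nat.ble (nat_lit 119) j)
noncomputable def dM_23 (j z1 z2 u : ℕ) : Bool :=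
  Bool.rec (motive := fun _ => Bool) (dM_19 j z1 z2 u) (dM_22 j z1 z2 u) (Nat.ble (nat_lit 110) j)
noncomputable def dM_24 (j z1 z2 u : ℕ) : Bool :=
  Bool.rec (motive := fun _ => Bool) (dM_16 j z1 z2 u) (dM_23 j z1 z2 u) (Nat.ble (nat_lit 95) j)
noncomputable def dM_25 (j z1 z2 u : ℕ) : Bool :=
  Bool.rec (motive := fun _ => Bool) (Bool.rec (motive := fun _ => Bool) (Bool.rec (motive := fun _ => Bool) (mRel MG [T_wi, T_bi] [T_bi, T_wi] M (Nat.sub (MG u) (Nat.mod (MG u) M)) (nat_lit 40) z1 u (Nat.mod (MG u) M)) (mRel MG [T_c, T_b, T_ci, T_e] [T_b, T_vi, T_vi, T_e, T_bi] M (Nat.sub (MG u) (Nat.mod (MG u) M)) (nat_lit 40) z1 u (Nat.mod (MG u) M)) (Nat.ble (nat_lit 130) j)) (Bool.rec (motive := fun _ => Bool) (mRel MG [T_b] [T_di, T_b, T_d] M (Nat.sub (MG u) (Nat.mod (MG u) M)) (nat_lit 40) z1 u (Nat.mod (MG u) M)) (mRel MG [T_a, T_ui, T_ai]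 [T_ci] M (Nat.sub (MG u) (Nat.mod (MG u) M)) (nat_lit 40) z1 u (Nat.mod (MG u) M)) (Nat.ble (nat_lit 132) j)) (Nat.ble (nat_lit 131) j)) (Bool.rec (motive := fun _ => Bool) (Bool.rec (motive := fun _ => Bool) (mRel MG [T_b, T_wi, T_bi] [T_wi] M (Nat.sub (MG u) (Nat.mod (MG u) M)) (nat_lit 40) z1 u (Nat.mod (MG u) M)) (mRel MG [T_wi, T_vi] [T_vi, T_wi] M (Nat.sub (MG u) (Nat.mod (MG u) M)) (nat_lit 40) z1 u (Nat.mod (MG u) M)) (Nat.ble (nat_lit 134) j)) (Bool.rec (motive := fun _ => Bool) (mRel MG [T_b, T_ai, T_ai, T_bi] [T_ai, T_ai] M (Nat.sub (MG u) (Nat.mod (MG u) M)) (nat_lit 40) z1 u (Nat.mod (MG u) M)) (Bool.rec (motive := fun _ => Bool) (mRel MG [T_w, T_bi] [T_bi, T_w] M (Nat.sub (MG u) (Nat.mod (MG u) M)) (nat_lit 40) z1 u (Nat.mod (MG u) M)) (mRel MG [T_w, T_u] [T_u, T_w] M (Nat.sub (MG u) (Nat.mod (MG u) M)) (nat_lit 40) z1 u (Nat.mod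 (MG u) M)) (Nat.ble (nat_lit 137) j)) (Nat.ble (nat_lit 136) j)) (Nat.ble (nat_lit 135) j)) (Nat.ble (nat_lit 133) j)
noncomputable def dM_26 (j z1 z2 u : ℕ) : Bool :=
  Bool.rec (motive := fun _ => Bool) (Bool.rec (motive := fun _ => Bool) (Bool.rec (motive := fun _ => Bool) (mRel MG [T_wi] [T_u, T_wi, T_ui] M (Nat.sub (MG u) (Nat.mod (MG u) M)) (nat_lit 40) z1 u (Nat.mod (MG u) M)) (mRel MG [T_e, T_vi] [T_vi, T_e, T_b, T_ci, T_b] M (Nat.sub (MG u) (Nat.mod (MG u) M)) (nat_lit 40) z1 u (Nat.mod (MG u) M)) (Nat.ble (nat_lit 139) j)) (Bool.rec (motive := fun _ => Bool) (mRel MG [T_bi, T_vi, T_b] [T_ci] M (Nat.sub (MG u) (Nat.mod (MG u) M)) (nat_lit 40) z1 u (Nat.mod (MG u) M)) (mRel MG [T_w, T_b, T_wi, T_bi] [] M (Nat.sub (MG u) (Nat.mod (MG u) M)) (nat_lit 40) z1 u (Nat.mod (MG u) M)) (Nat.ble (nat_lit 141) j)) (Nat.ble (nat_lit 140) j))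 (Bool.rec (motive := fun _ => Bool) (Bool.rec (motive := fun _ => Bool) (mRel MG [T_u, T_v] [T_v, T_u] M (Nat.sub (MG u) (Nat.mod (MG u) M)) (nat_lit 40) z1 u (Nat.mod (MG u) M)) (mRel MG [T_e, T_a, T_a] [T_a, T_b, T_b, T_a, T_bi, T_a, T_c, T_w, T_vi, T_e] M (Nat.sub (MG u) (Nat.mod (MG u) M)) (nat_lit 40) z1 u (Nat.mod (MG u) M)) (Nat.ble (nat_lit 143) j)) (Bool.rec (motive := fun _ => Bool) (mRel MG [T_a, T_b, T_a, T_b] [T_bi, T_ai, T_bi, T_ai] M (Nat.sub (MG u) (Nat.mod (MG u) M)) (nat_lit 40) z1 u (Nat.mod (MG u) M)) (Bool.rec (motive := fun _ => Bool) (mRel MG [T_bi, T_e] [T_ci, T_b, T_v, T_e, T_vi] M (Nat.sub (MG u) (Nat.mod (MG u) M)) (nat_lit 40) z1 u (Nat.mod (MG u) M)) (mRel MG [T_ai, T_w, T_a] [T_w, T_w] M (Nat.sub (MG u) (Nat.mod (MG u) M)) (nat_lit 40) z1 u (Nat.mod (MG u) M)) (Nat.ble (nat_lit 146) j)) (Nat.ble (nat_lit 145)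 j)) (Nat.ble (nat_lit 144) j)) (Nat.ble (nat_lit 142) j)
noncomputable def dM_27 (j z1 z2 u : ℕ) : Bool :=
  Bool.rec (motive := fun _ => Bool) (dM_25 j z1 z2 u) (dM_26 j z1 z2 u) (Nat.ble (nat_lit 138) j)
noncomputable def dM_28 (j z1 z2 u : ℕ) : Bool :=
  Bool.rec (motive := fun _ => Bool) (Bool.rec (motive := fun _ => Bool) (Bool.rec (motive := fun _ => Bool) (mRel MG [T_w, T_w, T_ai, T_wi] [T_ai] M (Nat.sub (MG u) (Nat.mod (MG u) M)) (nat_lit 40) z1 u (Nat.mod (MG u) M)) (mRel MG [T_wi, T_ci, T_w, T_c] [] M (Nat.sub (MG u) (Nat.mod (MG u) M)) (nat_lit 40) z1 u (Nat.mod (MG u) M)) (Nat.ble (nat_lit 148) j)) (Bool.rec (motive := fun _ => Bool) (mRel MG [T_ai, T_di, T_a] [T_a, T_a, T_di] M (Nat.sub (MG u) (Nat.mod (MG u) M)) (nat_lit 40) z1 u (Nat.mod (MG u) M)) (mRel MG [T_a, T_a, T_a, T_di, T_ai] [T_di] M (Nat.sub (MG u) (Nat.mod (MG u)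 M)) (nat_lit 40) z1 u (Nat.mod (MG u) M)) (Nat.ble (nat_lit 150) j)) (Nat.ble (nat_lit 149) j)) (Bool.rec (motive := fun _ => Bool) (Bool.rec (motive := fun _ => Bool) (mRel MG [T_v, T_bi, T_c, T_b] [T_vi, T_e, T_bi, T_e, T_c] M (Nat.sub (MG u) (Nat.mod (MG u) M)) (nat_lit 40) z1 u (Nat.mod (MG u) M)) (mRel MG [T_c, T_w, T_ui, T_ci] [T_ui] M (Nat.sub (MG u) (Nat.mod (MG u) M)) (nat_lit 40) z1 u (Nat.mod (MG u) M)) (Nat.ble (nat_lit 152) j)) (Bool.rec (motive := fun _ => Bool) (mRel MG [T_ci, T_w, T_c] [T_w] M (Nat.sub (MG u) (Nat.mod (MG u) M)) (nat_lit 40) z1 u (Nat.mod (MG u) M)) (Bool.rec (motive := fun _ => Bool) (mRel MG [T_v, T_e] [T_e, T_b, T_ci, T_b, T_v] M (Nat.sub (MG u) (Nat.mod (MG u) M)) (nat_lit 40) z1 u (Nat.mod (MG u) M)) (mRel MG [T_wi, T_ui] [T_ui, T_wi] M (Nat.sub (MG u) (Nat.mod (MG u) M)) (nat_lit 40) z1 u (Nat.mod (MG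 u) M)) (Nat.ble (nat_lit 155) j)) (Nat.ble (nat_lit 154) j)) (Nat.ble (nat_lit 153) j)) (Nat.ble (nat_lit 151) j)
noncomputable def dM_29 (j z1 z2 u : ℕ) : Bool :=
  Bool.rec (motive := fun _ => Bool) (Bool.rec (motive := fun _ => Bool) (Bool.rec (motive := fun _ => Bool) (mRel MG [T_wi, T_v, T_w] [T_v] M (Nat.sub (MG u) (Nat.mod (MG u) M)) (nat_lit 40) z1 u (Nat.mod (MG u) M)) (mRel MG [T_ci, T_e, T_c, T_e] [T_b, T_b, T_ci] M (Nat.sub (MG u) (Nat.mod (MG u) M)) (nat_lit 40) z1 u (Nat.mod (MG u) M)) (Nat.ble (nat_lit 157) j)) (Bool.rec (motive := fun _ => Bool) (mRel MG [T_d, T_a, T_a, T_a] [T_a, T_d] M (Nat.sub (MG u) (Nat.mod (MG u) M)) (nat_lit 40) z1 u (Nat.mod (MG u) M)) (Bool.rec (motive := fun _ => Bool) (mRel MG [T_b, T_wi] [T_wi, T_b] M (Nat.sub (MG u) (Nat.mod (MG u) M)) (nat_lit 40) z1 u (Nat.mod (MG u) M)) (mRel MG [T_v, T_wi]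 [T_wi, T_v] M (Nat.sub (MG u) (Nat.mod (MG u) M)) (nat_lit 40) z1 u (Nat.mod (MG u) M)) (Nat.ble (nat_lit 160) j)) (Nat.ble (nat_lit 159) j)) (Nat.ble (nat_lit 158) j)) (Bool.rec (motive := fun _ => Bool) (Bool.rec (motive := fun _ => Bool) (mRel MG [T_e, T_b, T_b, T_a, T_u, T_ci, T_vi, T_ai, T_e] [T_bi, T_c, T_b] M (Nat.sub (MG u) (Nat.mod (MG u) M)) (nat_lit 40) z1 u (Nat.mod (MG u) M)) (mRel MG [T_ai, T_ai, T_ai, T_di, T_a] [T_di] M (Nat.sub (MG u) (Nat.mod (MG u) M)) (nat_lit 40) z1 u (Nat.mod (MG u) M)) (Nat.ble (nat_lit 162) j)) (Bool.rec (motive := fun _ => Bool) (mRel MG [T_ai, T_ai, T_ai, T_di] [T_di, T_ai] M (Nat.sub (MG u) (Nat.mod (MG u) M)) (nat_lit 40) z1 u (Nat.mod (MG u) M)) (Bool.rec (motive := fun _ => Bool) (mRel MG [T_vi, T_w, T_v] [T_w] M (Nat.sub (MG u) (Nat.mod (MG u) M)) (nat_lit 40) z1 u (Nat.mod (MG u) M)) (mRel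 MG [T_c, T_v, T_wi, T_wi] [T_v, T_c] M (Nat.sub (MG u) (Nat.mod (MG u) M)) (nat_lit 40) z1 u (Nat.mod (MG u) M)) (Nat.ble (nat_lit 165) j)) (Nat.ble (nat_lit 164) j)) (Nat.ble (nat_lit 163) j)) (Nat.ble (nat_lit 161) j)
noncomputable def dM_30 (j z1 z2 u : ℕ) : Bool :=
  Bool.rec (motive := fun _ => Bool) (dM_28 j z1 z2 u) (dM_29 j z1 z2 u) (Nat.ble (nat_lit 156) j)
noncomputable def dM_31 (j z1 z2 u : ℕ) : Bool :=
  Bool.rec (motive := fun _ => Bool) (dM_27 j z1 z2 u) (dM_30 j z1 z2 u) (Nat.ble (nat_lit 147) j)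
noncomputable def dM_32 (j z1 z2 u : ℕ) : Bool :=
  Bool.rec (motive := fun _ => Bool) (Bool.rec (motive := fun _ => Bool) (Bool.rec (motive := fun _ => Bool) (mRel MG [T_e, T_v] [T_b, T_ci, T_b, T_v, T_e] M (Nat.sub (MG u) (Nat.mod (MG u) M)) (nat_lit 40) z1 u (Nat.mod (MG u) M)) (mRel MG [T_b, T_d] [T_d, T_b] M (Nat.sub (MG u) (Nat.mod (MG u) M)) (nat_lit 40) z1 u (Nat.mod (MG u) M)) (Nat.ble (nat_lit 167) j)) (Bool.rec (motive := fun _ => Bool) (mRel MG [T_b, T_ci, T_b, T_v, T_e] [T_e, T_v] M (Nat.sub (MG u) (Nat.mod (MG u) M)) (nat_lit 40) z1 u (Nat.mod (MG u) M)) (mRel MG [T_vi, T_bi, T_c, T_bi] [T_e, T_vi, T_e] M (Nat.sub (MG u) (Nat.mod (MG u) M)) (nat_lit 40) z1 u (Nat.mod (MG u) M)) (Nat.ble (nat_lit 169) j)) (Nat.ble (nat_lit 168) j)) (Bool.rec (motive := fun _ => Bool) (Bool.rec (motive := fun _ => Bool) (mRel MG [T_a, T_a, T_bi]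 [T_bi, T_a, T_a] M (Nat.sub (MG u) (Nat.mod (MG u) M)) (nat_lit 40) z1 u (Nat.mod (MG u) M)) (mRel MG [T_ui, T_vi, T_u] [T_vi] M (Nat.sub (MG u) (Nat.mod (MG u) M)) (nat_lit 40) z1 u (Nat.mod (MG u) M)) (Nat.ble (nat_lit 171) j)) (Bool.rec (motive := fun _ => Bool) (mRel MG [T_c, T_b, T_a, T_vi] [T_b, T_a, T_bi, T_ci, T_ci, T_b, T_c] M (Nat.sub (MG u) (Nat.mod (MG u) M)) (nat_lit 40) z1 u (Nat.mod (MG u) M)) (Bool.rec (motive := fun _ => Bool) (mRel MG [T_c, T_b, T_b, T_ci] [T_e, T_c, T_e] M (Nat.sub (MG u) (Nat.mod (MG u) M)) (nat_lit 40) z1 u (Nat.mod (MG u) M)) (mRel MG [T_u, T_vi, T_ui] [T_vi] M (Nat.sub (MG u) (Nat.mod (MG u) M)) (nat_lit 40) z1 u (Nat.mod (MG u) M)) (Nat.ble (nat_lit 174) j)) (Nat.ble (nat_lit 173) j)) (Nat.ble (nat_lit 172) j)) (Nat.ble (nat_lit 170) j)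
noncomputable def dM_33 (j z1 z2 u : ℕ) : Bool :=
  Bool.rec (motive := fun _ => Bool) (Bool.rec (motive := fun _ => Bool) (Bool.rec (motive := fun _ => Bool) (mRel MG [T_d] [T_a, T_a, T_wi, T_di, T_w, T_di, T_wi] M (Nat.sub (MG u) (Nat.mod (MG u) M)) (nat_lit 40) z1 u (Nat.mod (MG u) M)) (mRel MG [T_ci, T_ci, T_ci, T_ci] [T_c] M (Nat.sub (MG u) (Nat.mod (MG u) M)) (nat_lit 40) z1 u (Nat.mod (MG u) M)) (Nat.ble (nat_lit 176) j)) (Bool.rec (motive := fun _ => Bool) (mRel MG [T_e, T_a, T_e, T_a, T_ui, T_b, T_e, T_di] [T_ai, T_w, T_v, T_c, T_b, T_a, T_bi, T_bi, T_ai] M (Nat.sub (MG u) (Nat.mod (MG u) M)) (nat_lit 40) z1 u (Nat.mod (MG u) M)) (mRel MG [T_c, T_bi, T_e, T_v, T_e] [T_b, T_v] M (Nat.sub (MG u) (Nat.mod (MG u) M)) (nat_lit 40) z1 u (Nat.mod (MG u) M)) (Nat.ble (nat_lit 178) j)) (Nat.ble (nat_lit 177) j)) (Bool.rec (motive := fun _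 => Bool) (Bool.rec (motive := fun _ => Bool) (mRel MG [T_vi, T_b] [T_b, T_ci] M (Nat.sub (MG u) (Nat.mod (MG u) M)) (nat_lit 40) z1 u (Nat.mod (MG u) M)) (mRel MG [T_ci, T_e, T_c, T_b, T_b, T_ci, T_e] [] M (Nat.sub (MG u) (Nat.mod (MG u) M)) (nat_lit 40) z1 u (Nat.mod (MG u) M)) (Nat.ble (nat_lit 180) j)) (Bool.rec (motive := fun _ => Bool) (mRel MG [T_di, T_a] [T_a, T_a, T_a, T_di] M (Nat.sub (MG u) (Nat.mod (MG u) M)) (nat_lit 40) z1 u (Nat.mod (MG u) M)) (Bool.rec (motive := fun _ => Bool) (mRel MG [T_a, T_a, T_di, T_ai] [T_ai, T_di] M (Nat.sub (MG u) (Nat.mod (MG u) M)) (nat_lit 40) z1 u (Nat.mod (MG u) M)) (mRel MG [T_a, T_a] [T_bi, T_a, T_a, T_b] M (Nat.sub (MG u) (Nat.mod (MG u) M)) (nat_lit 40) z1 u (Nat.mod (MG u) M)) (Nat.ble (nat_lit 183) j)) (Nat.ble (nat_lit 182) j)) (Nat.ble (nat_lit 181) j)) (Nat.ble (nat_lit 179) j)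
noncomputable def dM_34 (j z1 z2 u : ℕ) : Bool :=
  Bool.rec (motive := fun _ => Bool) (dM_32 j z1 z2 u) (dM_33 j z1 z2 u) (Nat.ble (nat_lit 175) j)
noncomputable def dM_35 (j z1 z2 u : ℕ) : Bool :=
  Bool.rec (motive := fun _ => Bool) (Bool.rec (motive := fun _ => Bool) (Bool.rec (motive := fun _ => Bool) (mRel MG [T_d, T_a, T_a, T_a, T_di, T_ai] [] M (Nat.sub (MG u) (Nat.mod (MG u) M)) (nat_lit 40) z1 u (Nat.mod (MG u) M)) (mRel MG [T_b, T_ci, T_e, T_ci, T_e] [T_bi, T_ci] M (Nat.sub (MG u) (Nat.mod (MG u) M)) (nat_lit 40) z1 u (Nat.mod (MG u) M)) (Nat.ble (nat_lit 185) j)) (Bool.rec (motive := fun _ => Bool) (mRel MG [T_v, T_ui] [T_ui, T_v] M (Nat.sub (MG u) (Nat.mod (MG u) M)) (nat_lit 40) z1 u (Nat.mod (MG u) M)) (mRel MG [T_bi, T_wi] [T_wi, T_bi] M (Nat.sub (MG u) (Nat.mod (MG u) M)) (nat_lit 40) z1 u (Nat.mod (MG u) M)) (Nat.ble (nat_lit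 187) j)) (Nat.ble (nat_lit 186) j)) (Bool.rec (motive := fun _ => Bool) (Bool.rec (motive := fun _ => Bool) (mRel MG [T_c, T_bi, T_bi, T_ci] [T_e, T_ci, T_e] M (Nat.sub (MG u) (Nat.mod (MG u) M)) (nat_lit 40) z1 u (Nat.mod (MG u) M)) (mRel MG [T_u, T_v, T_ui] [T_v] M (Nat.sub (MG u) (Nat.mod (MG u) M)) (nat_lit 40) z1 u (Nat.mod (MG u) M)) (Nat.ble (nat_lit 189) j)) (Bool.rec (motive := fun _ => Bool) (mRel MG [T_ci, T_ui] [T_w, T_ui, T_ci] M (Nat.sub (MG u) (Nat.mod (MG u) M)) (nat_lit 40) z1 u (Nat.mod (MG u) M)) (Bool.rec (motive := fun _ => Bool) (mRel MG [T_c, T_bi] [T_bi, T_v] M (Nat.sub (MG u) (Nat.mod (MG u) M)) (nat_lit 40) z1 u (Nat.mod (MG u) M)) (mRel MG [T_c, T_bi, T_bi, T_ci, T_e] [T_e, T_ci] M (Nat.sub (MG u) (Nat.mod (MG u) M)) (nat_lit 40) z1 u (Nat.mod (MG u) M)) (Nat.ble (nat_lit 192) j)) (Nat.ble (nat_lit 191) j)) (Nat.ble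 (nat_lit 190) j)) (Nat.ble (nat_lit 188) j)
noncomputable def dM_36 (j z1 z2 u : ℕ) : Bool :=
  Bool.rec (motive := fun _ => Bool) (Bool.rec (motive := fun _ => Bool) (Bool.rec (motive := fun _ => Bool) (mRel MG [T_e, T_c, T_bi, T_bi, T_ci, T_e] [T_ci] M (Nat.sub (MG u) (Nat.mod (MG u) M)) (nat_lit 40) z1 u (Nat.mod (MG u) M)) (mRel MG [T_e, T_vi] [T_vi, T_bi, T_c, T_bi, T_e] M (Nat.sub (MG u) (Nat.mod (MG u) M)) (nat_lit 40) z1 u (Nat.mod (MG u) M)) (Nat.ble (nat_lit 194) j)) (Bool.rec (motive := fun _ => Bool) (mRel MG [T_c, T_ai, T_u] [T_ci, T_ai] M (Nat.sub (MG u) (Nat.mod (MG u) M)) (nat_lit 40) z1 u (Nat.mod (MG u) M)) (Bool.rec (motive := fun _ => Bool) (mRel MG [T_d, T_d] [T_a, T_a, T_a, T_a] M (Nat.sub (MG u) (Nat.mod (MG u) M)) (nat_lit 40) z1 u (Nat.mod (MG u) M)) (mRel MG [T_bi, T_w, T_b] [T_w] M (Nat.sub (MG u) (Nat.mod (MG u)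 M)) (nat_lit 40) z1 u (Nat.mod (MG u) M)) (Nat.ble (nat_lit 197) j)) (Nat.ble (nat_lit 196) j)) (Nat.ble (nat_lit 195) j)) (Bool.rec (motive := fun _ => Bool) (Bool.rec (motive := fun _ => Bool) (mRel MG [T_di, T_ai, T_d] [T_ai, T_ai, T_ai] M (Nat.sub (MG u) (Nat.mod (MG u) M)) (nat_lit 40) z1 u (Nat.mod (MG u) M)) (mRel MG [T_ai, T_ci] [T_ui, T_ai] M (Nat.sub (MG u) (Nat.mod (MG u) M)) (nat_lit 40) z1 u (Nat.mod (MG u) M)) (Nat.ble (nat_lit 199) j)) (Bool.rec (motive := fun _ => Bool) (mRel MG [T_b, T_ci, T_e, T_ci] [T_bi, T_ci, T_e] M (Nat.sub (MG u) (Nat.mod (MG u) M)) (nat_lit 40) z1 u (Nat.mod (MG u) M)) (Bool.rec (motive := fun _ => Bool) (mRel MG [T_v, T_bi, T_c, T_b, T_ci, T_e, T_b, T_e] [T_vi] M (Nat.sub (MG u) (Nat.mod (MG u) M)) (nat_lit 40) z1 u (Nat.mod (MG u) M)) (mRel MG [T_b, T_b, T_ci, T_e] [T_ci, T_e, T_c] M (Nat.sub (MG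 u) (Nat.mod (MG u) M)) (nat_lit 40) z1 u (Nat.mod (MG u) M)) (Nat.ble (nat_lit 202) j)) (Nat.ble (nat_lit 201) j)) (Nat.ble (nat_lit 200) j)) (Nat.ble (nat_lit 198) j)
noncomputable def dM_37 (j z1 z2 u : ℕ) : Bool :=
  Bool.rec (motive := fun _ => Bool) (dM_35 j z1 z2 u) (dM_36 j z1 z2 u) (Nat.ble (nat_lit 193) j)
noncomputable def dM_38 (j z1 z2 u : ℕ) : Bool :=
  Bool.rec (motive := fun _ => Bool) (dM_34 j z1 z2 u) (dM_37 j z1 z2 u) (Nat.ble (nat_lit 184) j)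
noncomputable def dM_39 (j z1 z2 u : ℕ) : Bool :=
  Bool.rec (motive := fun _ => Bool) (dM_31 j z1 z2 u) (dM_38 j z1 z2 u) (Nat.ble (nat_lit 166) j)
noncomputable def dM_40 (j z1 z2 u : ℕ) : Bool :=
  Bool.rec (motive := fun _ => Bool) (dM_24 j z1 z2 u) (dM_39 j z1 z2 u) (Nat.ble (nat_lit 129) j)
noncomputable def dM_41 (j z1 z2 u : ℕ) : Bool :=
  Bool.rec (motive := fun _ => Bool) (dM_13 j z1 z2 u) (dM_40 j z1 z2 u) (Nat.ble (nat_lit 77) j)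
noncomputable def dM_42 (j z1 z2 u : ℕ) : Bool :=
  Bool.rec (motive := fun _ => Bool) (dM_4 j z1 z2 u) (dM_41 j z1 z2 u) (Nat.ble (nat_lit 29) j)
noncomputable def chkM (u : ℕ) : Bool :=
  Bool.rec (motive := fun _ => Bool) (band (Nat.ble (Nat.succ (Nat.mod (MG u) M)) u) (dM_42 (Nat.land (MR u) (nat_lit 255)) (Nat.land (Nat.shiftRight (MR u) (nat_lit 8)) (nat_lit 8191)) (Nat.shiftRight (MR u) (nat_lit 21)) u)) true (Nat.ble A (MG u))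
noncomputable def chkN (u : ℕ) : Bool :=
  band (chk_a (Nat.land (Nat.shiftRight (RS u) (nat_lit 0)) (nat_lit 63)) u) (band (chk_ai (Nat.land (Nat.shiftRight (RS u) (nat_lit 6)) (nat_lit 63)) u) (band (chk_b (Nat.land (Nat.shiftRight (RS u) (nat_lit 12)) (nat_lit 63)) u) (band (chk_bi (Nat.land (Nat.shiftRight (RS u) (nat_lit 18)) (nat_lit 63)) u) (band (chk_c (Nat.land (Nat.shiftRight (RS u) (nat_lit 24)) (nat_lit 63)) u) (band (chk_ci (Nat.land (Nat.shiftRight (RS u) (nat_lit 30)) (nat_lit 63)) u) (band (chk_d (Nat.land (Nat.shiftRight (RS u) (nat_lit 36)) (nat_lit 63)) u) (band (chk_di (Nat.land (Nat.shiftRight (RS u) (nat_lit 42)) (nat_lit 63)) u) (band (chk_e (Nat.land (Nat.shiftRight (RS u) (nat_lit 48)) (nat_lit 63)) u) (band (chk_u (Nat.land (Nat.shiftRight (RS u) (nat_lit 54)) (nat_lit 63)) u) (band (chk_ui (Nat.land (Nat.shiftRight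 (RS u) (nat_lit 60)) (nat_lit 63)) u) (band (chk_v (Nat.land (Nat.shiftRight (RS u) (nat_lit 66)) (nat_lit 63)) u) (band (chk_vi (Nat.land (Nat.shiftRight (RS u) (nat_lit 72)) (nat_lit 63)) u) (band (chk_w (Nat.land (Nat.shiftRight (RS u) (nat_lit 78)) (nat_lit 63)) u) (band (chk_wi (Nat.land (Nat.shiftRight (RS u) (nat_lit 84)) (nat_lit 63)) u) (chkM u)))))))))))))))
noncomputable def chkP (u : ℕ) : Bool := Bool.rec (motive := fun _ => Bool) (chkN u) true (Nat.ble M u)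
noncomputable def liveP (u : ℕ) : Bool := Bool.rec (motive := fun _ => Bool) (Nat.ble A (MG u)) false (Nat.ble M u)
end H34.TCLyA
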